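import Cfsg.Agent.Lib.CosetEnum.TC
import Cfsg.Agent.Lib.CosetEnum.Q24.D0
import Cfsg.Agent.Lib.CosetEnum.Q24.D1
import Cfsg.Agent.Lib.CosetEnum.Q24.D2
import Cfsg.Agent.Lib.CosetEnum.Q24.D3
import Cfsg.Agent.Lib.CosetEnum.Q24.D4
import Cfsg.Agent.Lib.CosetEnum.Q24.D5
import Cfsg.Agent.Lib.CosetEnum.Q24.D6
import Cfsg.Agent.Lib.CosetEnum.Q24.D7
import Cfsg.Agent.Lib.CosetEnum.F24
set_option autoImplicit false
set_option maxRecDepth 100000
namespace H18.Q24
open H54 (Tr force band)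
open H18.TC
noncomputable def T : Tr := (.node (nat_lit 24483) (.node (nat_lit 12241) (.node (nat_lit 6120) (.node (nat_lit 3059) (.node (nat_lit 1529) (.node (nat_lit 764) (.node (nat_lit 381) (.node (nat_lit 190) (.node (nat_lit 94) T_511 T_510) (.node (nat_lit 285) T_509 T_508)) (.node (nat_lit 572) (.node (nat_lit 476) T_507 T_506) (.node (nat_lit 668) T_505 T_504))) (.node (nat_lit 1146) (.node (nat_lit 955) (.node (nat_lit 859) T_503 T_502) (.node (nat_lit 1050) T_501 T_500)) (.node (nat_lit 1337) (.node (nat_lit 1241) T_499 T_498) (.node (nat_lit 1433) T_497 T_496)))) (.node (nat_lit 2294) (.node (nat_lit 1911) (.node (nat_lit 1720) (.node (nat_lit 1624) T_495 T_494) (.node (nat_lit 1815) T_493 T_492)) (.node (nat_lit 2102) (.node (nat_lit 2006) T_491 T_490) (.node (nat_lit 2198) T_489 T_488))) (.node (nat_lit 2676) (.node (nat_lit 2485) (.node (nat_lit 2389) T_487 T_486) (.node (nat_lit 2580) T_485 T_484)) (.node (nat_lit 2867) (.node (nat_lit 2771)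 T_483 T_482) (.node (nat_lit 2963) T_481 T_480))))) (.node (nat_lit 4589) (.node (nat_lit 3824) (.node (nat_lit 3441) (.node (nat_lit 3250) (.node (nat_lit 3154) T_479 T_478) (.node (nat_lit 3345) T_477 T_476)) (.node (nat_lit 3632) (.node (nat_lit 3536) T_475 T_474) (.node (nat_lit 3728) T_473 T_472))) (.node (nat_lit 4206) (.node (nat_lit 4015) (.node (nat_lit 3919) T_471 T_470) (.node (nat_lit 4110) T_469 T_468)) (.node (nat_lit 4397) (.node (nat_lit 4301) T_467 T_466) (.node (nat_lit 4493) T_465 T_464)))) (.node (nat_lit 5354) (.node (nat_lit 4971) (.node (nat_lit 4780) (.node (nat_lit 4684) T_463 T_462) (.node (nat_lit 4875) T_461 T_460)) (.node (nat_lit 5162) (.node (nat_lit 5066) T_459 T_458) (.node (nat_lit 5258) T_457 T_456))) (.node (nat_lit 5737) (.node (nat_lit 5545) (.node (nat_lit 5449) T_455 T_454) (.node (nat_lit 5641) T_453 T_452)) (.node (nat_lit 5928) (.node (nat_lit 5832) T_451 T_450) (.node (nat_lit 6024) T_449 T_448)))))) (.node (nat_lit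 9180) (.node (nat_lit 7650) (.node (nat_lit 6885) (.node (nat_lit 6502) (.node (nat_lit 6311) (.node (nat_lit 6215) T_447 T_446) (.node (nat_lit 6406) T_445 T_444)) (.node (nat_lit 6693) (.node (nat_lit 6597) T_443 T_442) (.node (nat_lit 6789) T_441 T_440))) (.node (nat_lit 7267) (.node (nat_lit 7076) (.node (nat_lit 6980) T_439 T_438) (.node (nat_lit 7171) T_437 T_436)) (.node (nat_lit 7458) (.node (nat_lit 7362) T_435 T_434) (.node (nat_lit 7554) T_433 T_432)))) (.node (nat_lit 8415) (.node (nat_lit 8032) (.node (nat_lit 7841) (.node (nat_lit 7745) T_431 T_430) (.node (nat_lit 7936) T_429 T_428)) (.node (nat_lit 8223) (.node (nat_lit 8127) T_427 T_426) (.node (nat_lit 8319) T_425 T_424))) (.node (nat_lit 8797) (.node (nat_lit 8606) (.node (nat_lit 8510) T_423 T_422) (.node (nat_lit 8701) T_421 T_420)) (.node (nat_lit 8988) (.node (nat_lit 8892) T_419 T_418) (.node (nat_lit 9084) T_417 T_416))))) (.node (nat_lit 10710) (.node (nat_lit 9945) (.node (nat_lit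 9562) (.node (nat_lit 9371) (.node (nat_lit 9275) T_415 T_414) (.node (nat_lit 9466) T_413 T_412)) (.node (nat_lit 9753) (.node (nat_lit 9657) T_411 T_410) (.node (nat_lit 9849) T_409 T_408))) (.node (nat_lit 10327) (.node (nat_lit 10136) (.node (nat_lit 10040) T_407 T_406) (.node (nat_lit 10231) T_405 T_404)) (.node (nat_lit 10518) (.node (nat_lit 10422) T_403 T_402) (.node (nat_lit 10614) T_401 T_400)))) (.node (nat_lit 11475) (.node (nat_lit 11092) (.node (nat_lit 10901) (.node (nat_lit 10805) T_399 T_398) (.node (nat_lit 10996) T_397 T_396)) (.node (nat_lit 11283) (.node (nat_lit 11187) T_395 T_394) (.node (nat_lit 11379) T_393 T_392))) (.node (nat_lit 11858) (.node (nat_lit 11666) (.node (nat_lit 11570) T_391 T_390) (.node (nat_lit 11762) T_389 T_388)) (.node (nat_lit 12049) (.node (nat_lit 11953) T_387 T_386) (.node (nat_lit 12145) T_385 T_384))))))) (.node (nat_lit 18362) (.node (nat_lit 15301) (.node (nat_lit 13771) (.node (nat_lit 13006) (.node (nat_lit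 12623) (.node (nat_lit 12432) (.node (nat_lit 12336) T_383 T_382) (.node (nat_lit 12527) T_381 T_380)) (.node (nat_lit 12814) (.node (nat_lit 12718) T_379 T_378) (.node (nat_lit 12910) T_377 T_376))) (.node (nat_lit 13388) (.node (nat_lit 13197) (.node (nat_lit 13101) T_375 T_374) (.node (nat_lit 13292) T_373 T_372)) (.node (nat_lit 13579) (.node (nat_lit 13483) T_371 T_370) (.node (nat_lit 13675) T_369 T_368)))) (.node (nat_lit 14536) (.node (nat_lit 14153) (.node (nat_lit 13962) (.node (nat_lit 13866) T_367 T_366) (.node (nat_lit 14057) T_365 T_364)) (.node (nat_lit 14344) (.node (nat_lit 14248) T_363 T_362) (.node (nat_lit 14440) T_361 T_360))) (.node (nat_lit 14918) (.node (nat_lit 14727) (.node (nat_lit 14631) T_359 T_358) (.node (nat_lit 14822) T_357 T_356)) (.node (nat_lit 15109) (.node (nat_lit 15013) T_355 T_354) (.node (nat_lit 15205) T_353 T_352))))) (.node (nat_lit 16831) (.node (nat_lit 16066) (.node (nat_lit 15683) (.node (nat_lit 15492) (.node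 (nat_lit 15396) T_351 T_350) (.node (nat_lit 15587) T_349 T_348)) (.node (nat_lit 15874) (.node (nat_lit 15778) T_347 T_346) (.node (nat_lit 15970) T_345 T_344))) (.node (nat_lit 16448) (.node (nat_lit 16257) (.node (nat_lit 16161) T_343 T_342) (.node (nat_lit 16352) T_341 T_340)) (.node (nat_lit 16639) (.node (nat_lit 16543) T_339 T_338) (.node (nat_lit 16735) T_337 T_336)))) (.node (nat_lit 17596) (.node (nat_lit 17213) (.node (nat_lit 17022) (.node (nat_lit 16926) T_335 T_334) (.node (nat_lit 17117) T_333 T_332)) (.node (nat_lit 17404) (.node (nat_lit 17308) T_331 T_330) (.node (nat_lit 17500) T_329 T_328))) (.node (nat_lit 17979) (.node (nat_lit 17787) (.node (nat_lit 17691) T_327 T_326) (.node (nat_lit 17883) T_325 T_324)) (.node (nat_lit 18170) (.node (nat_lit 18074) T_323 T_322) (.node (nat_lit 18266) T_321 T_320)))))) (.node (nat_lit 21422) (.node (nat_lit 19892) (.node (nat_lit 19127) (.node (nat_lit 18744) (.node (nat_lit 18553) (.node (nat_lit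 18457) T_319 T_318) (.node (nat_lit 18648) T_317 T_316)) (.node (nat_lit 18935) (.node (nat_lit 18839) T_315 T_314) (.node (nat_lit 19031) T_313 T_312))) (.node (nat_lit 19509) (.node (nat_lit 19318) (.node (nat_lit 19222) T_311 T_310) (.node (nat_lit 19413) T_309 T_308)) (.node (nat_lit 19700) (.node (nat_lit 19604) T_307 T_306) (.node (nat_lit 19796) T_305 T_304)))) (.node (nat_lit 20657) (.node (nat_lit 20274) (.node (nat_lit 20083) (.node (nat_lit 19987) T_303 T_302) (.node (nat_lit 20178) T_301 T_300)) (.node (nat_lit 20465) (.node (nat_lit 20369) T_299 T_298) (.node (nat_lit 20561) T_297 T_296))) (.node (nat_lit 21039) (.node (nat_lit 20848) (.node (nat_lit 20752) T_295 T_294) (.node (nat_lit 20943) T_293 T_292)) (.node (nat_lit 21230) (.node (nat_lit 21134) T_291 T_290) (.node (nat_lit 21326) T_289 T_288))))) (.node (nat_lit 22952) (.node (nat_lit 22187) (.node (nat_lit 21804) (.node (nat_lit 21613) (.node (nat_lit 21517) T_287 T_286) (.node (nat_lit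 21708) T_285 T_284)) (.node (nat_lit 21995) (.node (nat_lit 21899) T_283 T_282) (.node (nat_lit 22091) T_281 T_280))) (.node (nat_lit 22569) (.node (nat_lit 22378) (.node (nat_lit 22282) T_279 T_278) (.node (nat_lit 22473) T_277 T_276)) (.node (nat_lit 22760) (.node (nat_lit 22664) T_275 T_274) (.node (nat_lit 22856) T_273 T_272)))) (.node (nat_lit 23717) (.node (nat_lit 23334) (.node (nat_lit 23143) (.node (nat_lit 23047) T_271 T_270) (.node (nat_lit 23238) T_269 T_268)) (.node (nat_lit 23525) (.node (nat_lit 23429) T_267 T_266) (.node (nat_lit 23621) T_265 T_264))) (.node (nat_lit 24100) (.node (nat_lit 23908) (.node (nat_lit 23812) T_263 T_262) (.node (nat_lit 24004) T_261 T_260)) (.node (nat_lit 24291) (.node (nat_lit 24195) T_259 T_258) (.node (nat_lit 24387) T_257 T_256)))))))) (.node (nat_lit 36725) (.node (nat_lit 30604) (.node (nat_lit 27543) (.node (nat_lit 26013) (.node (nat_lit 25248) (.node (nat_lit 24865) (.node (nat_lit 24674) (.node (nat_lit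 24578) T_255 T_254) (.node (nat_lit 24769) T_253 T_252)) (.node (nat_lit 25056) (.node (nat_lit 24960) T_251 T_250) (.node (nat_lit 25152) T_249 T_248))) (.node (nat_lit 25630) (.node (nat_lit 25439) (.node (nat_lit 25343) T_247 T_246) (.node (nat_lit 25534) T_245 T_244)) (.node (nat_lit 25821) (.node (nat_lit 25725) T_243 T_242) (.node (nat_lit 25917) T_241 T_240)))) (.node (nat_lit 26778) (.node (nat_lit 26395) (.node (nat_lit 26204) (.node (nat_lit 26108) T_239 T_238) (.node (nat_lit 26299) T_237 T_236)) (.node (nat_lit 26586) (.node (nat_lit 26490) T_235 T_234) (.node (nat_lit 26682) T_233 T_232))) (.node (nat_lit 27160) (.node (nat_lit 26969) (.node (nat_lit 26873) T_231 T_230) (.node (nat_lit 27064) T_229 T_228)) (.node (nat_lit 27351) (.node (nat_lit 27255) T_227 T_226) (.node (nat_lit 27447) T_225 T_224))))) (.node (nat_lit 29073) (.node (nat_lit 28308) (.node (nat_lit 27925) (.node (nat_lit 27734) (.node (nat_lit 27638) T_223 T_222) (.node (nat_lit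 27829) T_221 T_220)) (.node (nat_lit 28116) (.node (nat_lit 28020) T_219 T_218) (.node (nat_lit 28212) T_217 T_216))) (.node (nat_lit 28690) (.node (nat_lit 28499) (.node (nat_lit 28403) T_215 T_214) (.node (nat_lit 28594) T_213 T_212)) (.node (nat_lit 28881) (.node (nat_lit 28785) T_211 T_210) (.node (nat_lit 28977) T_209 T_208)))) (.node (nat_lit 29838) (.node (nat_lit 29455) (.node (nat_lit 29264) (.node (nat_lit 29168) T_207 T_206) (.node (nat_lit 29359) T_205 T_204)) (.node (nat_lit 29646) (.node (nat_lit 29550) T_203 T_202) (.node (nat_lit 29742) T_201 T_200))) (.node (nat_lit 30221) (.node (nat_lit 30029) (.node (nat_lit 29933) T_199 T_198) (.node (nat_lit 30125) T_197 T_196)) (.node (nat_lit 30412) (.node (nat_lit 30316) T_195 T_194) (.node (nat_lit 30508) T_193 T_192)))))) (.node (nat_lit 33664) (.node (nat_lit 32134) (.node (nat_lit 31369) (.node (nat_lit 30986) (.node (nat_lit 30795) (.node (nat_lit 30699) T_191 T_190) (.node (nat_lit 30890) T_189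 T_188)) (.node (nat_lit 31177) (.node (nat_lit 31081) T_187 T_186) (.node (nat_lit 31273) T_185 T_184))) (.node (nat_lit 31751) (.node (nat_lit 31560) (.node (nat_lit 31464) T_183 T_182) (.node (nat_lit 31655) T_181 T_180)) (.node (nat_lit 31942) (.node (nat_lit 31846) T_179 T_178) (.node (nat_lit 32038) T_177 T_176)))) (.node (nat_lit 32899) (.node (nat_lit 32516) (.node (nat_lit 32325) (.node (nat_lit 32229) T_175 T_174) (.node (nat_lit 32420) T_173 T_172)) (.node (nat_lit 32707) (.node (nat_lit 32611) T_171 T_170) (.node (nat_lit 32803) T_169 T_168))) (.node (nat_lit 33281) (.node (nat_lit 33090) (.node (nat_lit 32994) T_167 T_166) (.node (nat_lit 33185) T_165 T_164)) (.node (nat_lit 33472) (.node (nat_lit 33376) T_163 T_162) (.node (nat_lit 33568) T_161 T_160))))) (.node (nat_lit 35194) (.node (nat_lit 34429) (.node (nat_lit 34046) (.node (nat_lit 33855) (.node (nat_lit 33759) T_159 T_158) (.node (nat_lit 33950) T_157 T_156)) (.node (nat_lit 34237) (.node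 (nat_lit 34141) T_155 T_154) (.node (nat_lit 34333) T_153 T_152))) (.node (nat_lit 34811) (.node (nat_lit 34620) (.node (nat_lit 34524) T_151 T_150) (.node (nat_lit 34715) T_149 T_148)) (.node (nat_lit 35002) (.node (nat_lit 34906) T_147 T_146) (.node (nat_lit 35098) T_145 T_144)))) (.node (nat_lit 35959) (.node (nat_lit 35576) (.node (nat_lit 35385) (.node (nat_lit 35289) T_143 T_142) (.node (nat_lit 35480) T_141 T_140)) (.node (nat_lit 35767) (.node (nat_lit 35671) T_139 T_138) (.node (nat_lit 35863) T_137 T_136))) (.node (nat_lit 36342) (.node (nat_lit 36150) (.node (nat_lit 36054) T_135 T_134) (.node (nat_lit 36246) T_133 T_132)) (.node (nat_lit 36533) (.node (nat_lit 36437) T_131 T_130) (.node (nat_lit 36629) T_129 T_128))))))) (.node (nat_lit 42846) (.node (nat_lit 39785) (.node (nat_lit 38255) (.node (nat_lit 37490) (.node (nat_lit 37107) (.node (nat_lit 36916) (.node (nat_lit 36820) T_127 T_126) (.node (nat_lit 37011) T_125 T_124)) (.node (nat_lit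 37298) (.node (nat_lit 37202) T_123 T_122) (.node (nat_lit 37394) T_121 T_120))) (.node (nat_lit 37872) (.node (nat_lit 37681) (.node (nat_lit 37585) T_119 T_118) (.node (nat_lit 37776) T_117 T_116)) (.node (nat_lit 38063) (.node (nat_lit 37967) T_115 T_114) (.node (nat_lit 38159) T_113 T_112)))) (.node (nat_lit 39020) (.node (nat_lit 38637) (.node (nat_lit 38446) (.node (nat_lit 38350) T_111 T_110) (.node (nat_lit 38541) T_109 T_108)) (.node (nat_lit 38828) (.node (nat_lit 38732) T_107 T_106) (.node (nat_lit 38924) T_105 T_104))) (.node (nat_lit 39402) (.node (nat_lit 39211) (.node (nat_lit 39115) T_103 T_102) (.node (nat_lit 39306) T_101 T_100)) (.node (nat_lit 39593) (.node (nat_lit 39497) T_99 T_98) (.node (nat_lit 39689) T_97 T_96))))) (.node (nat_lit 41315) (.node (nat_lit 40550) (.node (nat_lit 40167) (.node (nat_lit 39976) (.node (nat_lit 39880) T_95 T_94) (.node (nat_lit 40071) T_93 T_92)) (.node (nat_lit 40358) (.node (nat_lit 40262) T_91 T_90)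 (.node (nat_lit 40454) T_89 T_88))) (.node (nat_lit 40932) (.node (nat_lit 40741) (.node (nat_lit 40645) T_87 T_86) (.node (nat_lit 40836) T_85 T_84)) (.node (nat_lit 41123) (.node (nat_lit 41027) T_83 T_82) (.node (nat_lit 41219) T_81 T_80)))) (.node (nat_lit 42080) (.node (nat_lit 41697) (.node (nat_lit 41506) (.node (nat_lit 41410) T_79 T_78) (.node (nat_lit 41601) T_77 T_76)) (.node (nat_lit 41888) (.node (nat_lit 41792) T_75 T_74) (.node (nat_lit 41984) T_73 T_72))) (.node (nat_lit 42463) (.node (nat_lit 42271) (.node (nat_lit 42175) T_71 T_70) (.node (nat_lit 42367) T_69 T_68)) (.node (nat_lit 42654) (.node (nat_lit 42558) T_67 T_66) (.node (nat_lit 42750) T_65 T_64)))))) (.node (nat_lit 45906) (.node (nat_lit 44376) (.node (nat_lit 43611) (.node (nat_lit 43228) (.node (nat_lit 43037) (.node (nat_lit 42941) T_63 T_62) (.node (nat_lit 43132) T_61 T_60)) (.node (nat_lit 43419) (.node (nat_lit 43323) T_59 T_58) (.node (nat_lit 43515) T_57 T_56))) (.node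 (nat_lit 43993) (.node (nat_lit 43802) (.node (nat_lit 43706) T_55 T_54) (.node (nat_lit 43897) T_53 T_52)) (.node (nat_lit 44184) (.node (nat_lit 44088) T_51 T_50) (.node (nat_lit 44280) T_49 T_48)))) (.node (nat_lit 45141) (.node (nat_lit 44758) (.node (nat_lit 44567) (.node (nat_lit 44471) T_47 T_46) (.node (nat_lit 44662) T_45 T_44)) (.node (nat_lit 44949) (.node (nat_lit 44853) T_43 T_42) (.node (nat_lit 45045) T_41 T_40))) (.node (nat_lit 45523) (.node (nat_lit 45332) (.node (nat_lit 45236) T_39 T_38) (.node (nat_lit 45427) T_37 T_36)) (.node (nat_lit 45714) (.node (nat_lit 45618) T_35 T_34) (.node (nat_lit 45810) T_33 T_32))))) (.node (nat_lit 47436) (.node (nat_lit 46671) (.node (nat_lit 46288) (.node (nat_lit 46097) (.node (nat_lit 46001) T_31 T_30) (.node (nat_lit 46192) T_29 T_28)) (.node (nat_lit 46479) (.node (nat_lit 46383) T_27 T_26) (.node (nat_lit 46575) T_25 T_24))) (.node (nat_lit 47053) (.node (nat_lit 46862) (.node (nat_lit 46766) T_23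 T_22) (.node (nat_lit 46957) T_21 T_20)) (.node (nat_lit 47244) (.node (nat_lit 47148) T_19 T_18) (.node (nat_lit 47340) T_17 T_16)))) (.node (nat_lit 48201) (.node (nat_lit 47818) (.node (nat_lit 47627) (.node (nat_lit 47531) T_15 T_14) (.node (nat_lit 47722) T_13 T_12)) (.node (nat_lit 48009) (.node (nat_lit 47913) T_11 T_10) (.node (nat_lit 48105) T_9 T_8))) (.node (nat_lit 48584) (.node (nat_lit 48392) (.node (nat_lit 48296) T_7 T_6) (.node (nat_lit 48488) T_5 T_4)) (.node (nat_lit 48775) (.node (nat_lit 48679) T_3 T_2) (.node (nat_lit 48871) T_1 T_0)))))))))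
noncomputable def J : Tr := (.node (nat_lit 24483) (.node (nat_lit 12241) (.node (nat_lit 6120) (.node (nat_lit 3059) (.node (nat_lit 1529) (.node (nat_lit 764) (.node (nat_lit 381) (.node (nat_lit 190) (.node (nat_lit 94) J_511 J_510) (.node (nat_lit 285) J_509 J_508)) (.node (nat_lit 572) (.node (nat_lit 476) J_507 J_506) (.node (nat_lit 668) J_505 J_504))) (.node (nat_lit 1146) (.node (nat_lit 955) (.node (nat_lit 859) J_503 J_502) (.node (nat_lit 1050) J_501 J_500)) (.node (nat_lit 1337) (.node (nat_lit 1241) J_499 J_498) (.node (nat_lit 1433) J_497 J_496)))) (.node (nat_lit 2294) (.node (nat_lit 1911) (.node (nat_lit 1720) (.node (nat_lit 1624) J_495 J_494) (.node (nat_lit 1815) J_493 J_492)) (.node (nat_lit 2102) (.node (nat_lit 2006) J_491 J_490) (.node (nat_lit 2198) J_489 J_488))) (.node (nat_lit 2676) (.node (nat_lit 2485) (.node (nat_lit 2389) J_487 J_486) (.node (nat_lit 2580) J_485 J_484)) (.node (nat_lit 2867) (.node (nat_lit 2771) J_483 J_482)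 (.node (nat_lit 2963) J_481 J_480))))) (.node (nat_lit 4589) (.node (nat_lit 3824) (.node (nat_lit 3441) (.node (nat_lit 3250) (.node (nat_lit 3154) J_479 J_478) (.node (nat_lit 3345) J_477 J_476)) (.node (nat_lit 3632) (.node (nat_lit 3536) J_475 J_474) (.node (nat_lit 3728) J_473 J_472))) (.node (nat_lit 4206) (.node (nat_lit 4015) (.node (nat_lit 3919) J_471 J_470) (.node (nat_lit 4110) J_469 J_468)) (.node (nat_lit 4397) (.node (nat_lit 4301) J_467 J_466) (.node (nat_lit 4493) J_465 J_464)))) (.node (nat_lit 5354) (.node (nat_lit 4971) (.node (nat_lit 4780) (.node (nat_lit 4684) J_463 J_462) (.node (nat_lit 4875) J_461 J_460)) (.node (nat_lit 5162) (.node (nat_lit 5066) J_459 J_458) (.node (nat_lit 5258) J_457 J_456))) (.node (nat_lit 5737) (.node (nat_lit 5545) (.node (nat_lit 5449) J_455 J_454) (.node (nat_lit 5641) J_453 J_452)) (.node (nat_lit 5928) (.node (nat_lit 5832) J_451 J_450) (.node (nat_lit 6024) J_449 J_448)))))) (.node (nat_lit 9180) (.node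 (nat_lit 7650) (.node (nat_lit 6885) (.node (nat_lit 6502) (.node (nat_lit 6311) (.node (nat_lit 6215) J_447 J_446) (.node (nat_lit 6406) J_445 J_444)) (.node (nat_lit 6693) (.node (nat_lit 6597) J_443 J_442) (.node (nat_lit 6789) J_441 J_440))) (.node (nat_lit 7267) (.node (nat_lit 7076) (.node (nat_lit 6980) J_439 J_438) (.node (nat_lit 7171) J_437 J_436)) (.node (nat_lit 7458) (.node (nat_lit 7362) J_435 J_434) (.node (nat_lit 7554) J_433 J_432)))) (.node (nat_lit 8415) (.node (nat_lit 8032) (.node (nat_lit 7841) (.node (nat_lit 7745) J_431 J_430) (.node (nat_lit 7936) J_429 J_428)) (.node (nat_lit 8223) (.node (nat_lit 8127) J_427 J_426) (.node (nat_lit 8319) J_425 J_424))) (.node (nat_lit 8797) (.node (nat_lit 8606) (.node (nat_lit 8510) J_423 J_422) (.node (nat_lit 8701) J_421 J_420)) (.node (nat_lit 8988) (.node (nat_lit 8892) J_419 J_418) (.node (nat_lit 9084) J_417 J_416))))) (.node (nat_lit 10710) (.node (nat_lit 9945) (.node (nat_lit 9562) (.node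 (nat_lit 9371) (.node (nat_lit 9275) J_415 J_414) (.node (nat_lit 9466) J_413 J_412)) (.node (nat_lit 9753) (.node (nat_lit 9657) J_411 J_410) (.node (nat_lit 9849) J_409 J_408))) (.node (nat_lit 10327) (.node (nat_lit 10136) (.node (nat_lit 10040) J_407 J_406) (.node (nat_lit 10231) J_405 J_404)) (.node (nat_lit 10518) (.node (nat_lit 10422) J_403 J_402) (.node (nat_lit 10614) J_401 J_400)))) (.node (nat_lit 11475) (.node (nat_lit 11092) (.node (nat_lit 10901) (.node (nat_lit 10805) J_399 J_398) (.node (nat_lit 10996) J_397 J_396)) (.node (nat_lit 11283) (.node (nat_lit 11187) J_395 J_394) (.node (nat_lit 11379) J_393 J_392))) (.node (nat_lit 11858) (.node (nat_lit 11666) (.node (nat_lit 11570) J_391 J_390) (.node (nat_lit 11762) J_389 J_388)) (.node (nat_lit 12049) (.node (nat_lit 11953) J_387 J_386) (.node (nat_lit 12145) J_385 J_384))))))) (.node (nat_lit 18362) (.node (nat_lit 15301) (.node (nat_lit 13771) (.node (nat_lit 13006) (.node (nat_lit 12623)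 (.node (nat_lit 12432) (.node (nat_lit 12336) J_383 J_382) (.node (nat_lit 12527) J_381 J_380)) (.node (nat_lit 12814) (.node (nat_lit 12718) J_379 J_378) (.node (nat_lit 12910) J_377 J_376))) (.node (nat_lit 13388) (.node (nat_lit 13197) (.node (nat_lit 13101) J_375 J_374) (.node (nat_lit 13292) J_373 J_372)) (.node (nat_lit 13579) (.node (nat_lit 13483) J_371 J_370) (.node (nat_lit 13675) J_369 J_368)))) (.node (nat_lit 14536) (.node (nat_lit 14153) (.node (nat_lit 13962) (.node (nat_lit 13866) J_367 J_366) (.node (nat_lit 14057) J_365 J_364)) (.node (nat_lit 14344) (.node (nat_lit 14248) J_363 J_362) (.node (nat_lit 14440) J_361 J_360))) (.node (nat_lit 14918) (.node (nat_lit 14727) (.node (nat_lit 14631) J_359 J_358) (.node (nat_lit 14822) J_357 J_356)) (.node (nat_lit 15109) (.node (nat_lit 15013) J_355 J_354) (.node (nat_lit 15205) J_353 J_352))))) (.node (nat_lit 16831) (.node (nat_lit 16066) (.node (nat_lit 15683) (.node (nat_lit 15492) (.node (nat_lit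 15396) J_351 J_350) (.node (nat_lit 15587) J_349 J_348)) (.node (nat_lit 15874) (.node (nat_lit 15778) J_347 J_346) (.node (nat_lit 15970) J_345 J_344))) (.node (nat_lit 16448) (.node (nat_lit 16257) (.node (nat_lit 16161) J_343 J_342) (.node (nat_lit 16352) J_341 J_340)) (.node (nat_lit 16639) (.node (nat_lit 16543) J_339 J_338) (.node (nat_lit 16735) J_337 J_336)))) (.node (nat_lit 17596) (.node (nat_lit 17213) (.node (nat_lit 17022) (.node (nat_lit 16926) J_335 J_334) (.node (nat_lit 17117) J_333 J_332)) (.node (nat_lit 17404) (.node (nat_lit 17308) J_331 J_330) (.node (nat_lit 17500) J_329 J_328))) (.node (nat_lit 17979) (.node (nat_lit 17787) (.node (nat_lit 17691) J_327 J_326) (.node (nat_lit 17883) J_325 J_324)) (.node (nat_lit 18170) (.node (nat_lit 18074) J_323 J_322) (.node (nat_lit 18266) J_321 J_320)))))) (.node (nat_lit 21422) (.node (nat_lit 19892) (.node (nat_lit 19127) (.node (nat_lit 18744) (.node (nat_lit 18553) (.node (nat_lit 18457) J_319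 J_318) (.node (nat_lit 18648) J_317 J_316)) (.node (nat_lit 18935) (.node (nat_lit 18839) J_315 J_314) (.node (nat_lit 19031) J_313 J_312))) (.node (nat_lit 19509) (.node (nat_lit 19318) (.node (nat_lit 19222) J_311 J_310) (.node (nat_lit 19413) J_309 J_308)) (.node (nat_lit 19700) (.node (nat_lit 19604) J_307 J_306) (.node (nat_lit 19796) J_305 J_304)))) (.node (nat_lit 20657) (.node (nat_lit 20274) (.node (nat_lit 20083) (.node (nat_lit 19987) J_303 J_302) (.node (nat_lit 20178) J_301 J_300)) (.node (nat_lit 20465) (.node (nat_lit 20369) J_299 J_298) (.node (nat_lit 20561) J_297 J_296))) (.node (nat_lit 21039) (.node (nat_lit 20848) (.node (nat_lit 20752) J_295 J_294) (.node (nat_lit 20943) J_293 J_292)) (.node (nat_lit 21230) (.node (nat_lit 21134) J_291 J_290) (.node (nat_lit 21326) J_289 J_288))))) (.node (nat_lit 22952) (.node (nat_lit 22187) (.node (nat_lit 21804) (.node (nat_lit 21613) (.node (nat_lit 21517) J_287 J_286) (.node (nat_lit 21708) J_285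 J_284)) (.node (nat_lit 21995) (.node (nat_lit 21899) J_283 J_282) (.node (nat_lit 22091) J_281 J_280))) (.node (nat_lit 22569) (.node (nat_lit 22378) (.node (nat_lit 22282) J_279 J_278) (.node (nat_lit 22473) J_277 J_276)) (.node (nat_lit 22760) (.node (nat_lit 22664) J_275 J_274) (.node (nat_lit 22856) J_273 J_272)))) (.node (nat_lit 23717) (.node (nat_lit 23334) (.node (nat_lit 23143) (.node (nat_lit 23047) J_271 J_270) (.node (nat_lit 23238) J_269 J_268)) (.node (nat_lit 23525) (.node (nat_lit 23429) J_267 J_266) (.node (nat_lit 23621) J_265 J_264))) (.node (nat_lit 24100) (.node (nat_lit 23908) (.node (nat_lit 23812) J_263 J_262) (.node (nat_lit 24004) J_261 J_260)) (.node (nat_lit 24291) (.node (nat_lit 24195) J_259 J_258) (.node (nat_lit 24387) J_257 J_256)))))))) (.node (nat_lit 36725) (.node (nat_lit 30604) (.node (nat_lit 27543) (.node (nat_lit 26013) (.node (nat_lit 25248) (.node (nat_lit 24865) (.node (nat_lit 24674) (.node (nat_lit 24578) J_255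 J_254) (.node (nat_lit 24769) J_253 J_252)) (.node (nat_lit 25056) (.node (nat_lit 24960) J_251 J_250) (.node (nat_lit 25152) J_249 J_248))) (.node (nat_lit 25630) (.node (nat_lit 25439) (.node (nat_lit 25343) J_247 J_246) (.node (nat_lit 25534) J_245 J_244)) (.node (nat_lit 25821) (.node (nat_lit 25725) J_243 J_242) (.node (nat_lit 25917) J_241 J_240)))) (.node (nat_lit 26778) (.node (nat_lit 26395) (.node (nat_lit 26204) (.node (nat_lit 26108) J_239 J_238) (.node (nat_lit 26299) J_237 J_236)) (.node (nat_lit 26586) (.node (nat_lit 26490) J_235 J_234) (.node (nat_lit 26682) J_233 J_232))) (.node (nat_lit 27160) (.node (nat_lit 26969) (.node (nat_lit 26873) J_231 J_230) (.node (nat_lit 27064) J_229 J_228)) (.node (nat_lit 27351) (.node (nat_lit 27255) J_227 J_226) (.node (nat_lit 27447) J_225 J_224))))) (.node (nat_lit 29073) (.node (nat_lit 28308) (.node (nat_lit 27925) (.node (nat_lit 27734) (.node (nat_lit 27638) J_223 J_222) (.node (nat_lit 27829) J_221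 J_220)) (.node (nat_lit 28116) (.node (nat_lit 28020) J_219 J_218) (.node (nat_lit 28212) J_217 J_216))) (.node (nat_lit 28690) (.node (nat_lit 28499) (.node (nat_lit 28403) J_215 J_214) (.node (nat_lit 28594) J_213 J_212)) (.node (nat_lit 28881) (.node (nat_lit 28785) J_211 J_210) (.node (nat_lit 28977) J_209 J_208)))) (.node (nat_lit 29838) (.node (nat_lit 29455) (.node (nat_lit 29264) (.node (nat_lit 29168) J_207 J_206) (.node (nat_lit 29359) J_205 J_204)) (.node (nat_lit 29646) (.node (nat_lit 29550) J_203 J_202) (.node (nat_lit 29742) J_201 J_200))) (.node (nat_lit 30221) (.node (nat_lit 30029) (.node (nat_lit 29933) J_199 J_198) (.node (nat_lit 30125) J_197 J_196)) (.node (nat_lit 30412) (.node (nat_lit 30316) J_195 J_194) (.node (nat_lit 30508) J_193 J_192)))))) (.node (nat_lit 33664) (.node (nat_lit 32134) (.node (nat_lit 31369) (.node (nat_lit 30986) (.node (nat_lit 30795) (.node (nat_lit 30699) J_191 J_190) (.node (nat_lit 30890) J_189 J_188)) (.node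 (nat_lit 31177) (.node (nat_lit 31081) J_187 J_186) (.node (nat_lit 31273) J_185 J_184))) (.node (nat_lit 31751) (.node (nat_lit 31560) (.node (nat_lit 31464) J_183 J_182) (.node (nat_lit 31655) J_181 J_180)) (.node (nat_lit 31942) (.node (nat_lit 31846) J_179 J_178) (.node (nat_lit 32038) J_177 J_176)))) (.node (nat_lit 32899) (.node (nat_lit 32516) (.node (nat_lit 32325) (.node (nat_lit 32229) J_175 J_174) (.node (nat_lit 32420) J_173 J_172)) (.node (nat_lit 32707) (.node (nat_lit 32611) J_171 J_170) (.node (nat_lit 32803) J_169 J_168))) (.node (nat_lit 33281) (.node (nat_lit 33090) (.node (nat_lit 32994) J_167 J_166) (.node (nat_lit 33185) J_165 J_164)) (.node (nat_lit 33472) (.node (nat_lit 33376) J_163 J_162) (.node (nat_lit 33568) J_161 J_160))))) (.node (nat_lit 35194) (.node (nat_lit 34429) (.node (nat_lit 34046) (.node (nat_lit 33855) (.node (nat_lit 33759) J_159 J_158) (.node (nat_lit 33950) J_157 J_156)) (.node (nat_lit 34237) (.node (nat_lit 34141)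 J_155 J_154) (.node (nat_lit 34333) J_153 J_152))) (.node (nat_lit 34811) (.node (nat_lit 34620) (.node (nat_lit 34524) J_151 J_150) (.node (nat_lit 34715) J_149 J_148)) (.node (nat_lit 35002) (.node (nat_lit 34906) J_147 J_146) (.node (nat_lit 35098) J_145 J_144)))) (.node (nat_lit 35959) (.node (nat_lit 35576) (.node (nat_lit 35385) (.node (nat_lit 35289) J_143 J_142) (.node (nat_lit 35480) J_141 J_140)) (.node (nat_lit 35767) (.node (nat_lit 35671) J_139 J_138) (.node (nat_lit 35863) J_137 J_136))) (.node (nat_lit 36342) (.node (nat_lit 36150) (.node (nat_lit 36054) J_135 J_134) (.node (nat_lit 36246) J_133 J_132)) (.node (nat_lit 36533) (.node (nat_lit 36437) J_131 J_130) (.node (nat_lit 36629) J_129 J_128))))))) (.node (nat_lit 42846) (.node (nat_lit 39785) (.node (nat_lit 38255) (.node (nat_lit 37490) (.node (nat_lit 37107) (.node (nat_lit 36916) (.node (nat_lit 36820) J_127 J_126) (.node (nat_lit 37011) J_125 J_124)) (.node (nat_lit 37298) (.node (nat_lit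 37202) J_123 J_122) (.node (nat_lit 37394) J_121 J_120))) (.node (nat_lit 37872) (.node (nat_lit 37681) (.node (nat_lit 37585) J_119 J_118) (.node (nat_lit 37776) J_117 J_116)) (.node (nat_lit 38063) (.node (nat_lit 37967) J_115 J_114) (.node (nat_lit 38159) J_113 J_112)))) (.node (nat_lit 39020) (.node (nat_lit 38637) (.node (nat_lit 38446) (.node (nat_lit 38350) J_111 J_110) (.node (nat_lit 38541) J_109 J_108)) (.node (nat_lit 38828) (.node (nat_lit 38732) J_107 J_106) (.node (nat_lit 38924) J_105 J_104))) (.node (nat_lit 39402) (.node (nat_lit 39211) (.node (nat_lit 39115) J_103 J_102) (.node (nat_lit 39306) J_101 J_100)) (.node (nat_lit 39593) (.node (nat_lit 39497) J_99 J_98) (.node (nat_lit 39689) J_97 J_96))))) (.node (nat_lit 41315) (.node (nat_lit 40550) (.node (nat_lit 40167) (.node (nat_lit 39976) (.node (nat_lit 39880) J_95 J_94) (.node (nat_lit 40071) J_93 J_92)) (.node (nat_lit 40358) (.node (nat_lit 40262) J_91 J_90) (.node (nat_lit 40454)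 J_89 J_88))) (.node (nat_lit 40932) (.node (nat_lit 40741) (.node (nat_lit 40645) J_87 J_86) (.node (nat_lit 40836) J_85 J_84)) (.node (nat_lit 41123) (.node (nat_lit 41027) J_83 J_82) (.node (nat_lit 41219) J_81 J_80)))) (.node (nat_lit 42080) (.node (nat_lit 41697) (.node (nat_lit 41506) (.node (nat_lit 41410) J_79 J_78) (.node (nat_lit 41601) J_77 J_76)) (.node (nat_lit 41888) (.node (nat_lit 41792) J_75 J_74) (.node (nat_lit 41984) J_73 J_72))) (.node (nat_lit 42463) (.node (nat_lit 42271) (.node (nat_lit 42175) J_71 J_70) (.node (nat_lit 42367) J_69 J_68)) (.node (nat_lit 42654) (.node (nat_lit 42558) J_67 J_66) (.node (nat_lit 42750) J_65 J_64)))))) (.node (nat_lit 45906) (.node (nat_lit 44376) (.node (nat_lit 43611) (.node (nat_lit 43228) (.node (nat_lit 43037) (.node (nat_lit 42941) J_63 J_62) (.node (nat_lit 43132) J_61 J_60)) (.node (nat_lit 43419) (.node (nat_lit 43323) J_59 J_58) (.node (nat_lit 43515) J_57 J_56))) (.node (nat_lit 43993) (.node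 (nat_lit 43802) (.node (nat_lit 43706) J_55 J_54) (.node (nat_lit 43897) J_53 J_52)) (.node (nat_lit 44184) (.node (nat_lit 44088) J_51 J_50) (.node (nat_lit 44280) J_49 J_48)))) (.node (nat_lit 45141) (.node (nat_lit 44758) (.node (nat_lit 44567) (.node (nat_lit 44471) J_47 J_46) (.node (nat_lit 44662) J_45 J_44)) (.node (nat_lit 44949) (.node (nat_lit 44853) J_43 J_42) (.node (nat_lit 45045) J_41 J_40))) (.node (nat_lit 45523) (.node (nat_lit 45332) (.node (nat_lit 45236) J_39 J_38) (.node (nat_lit 45427) J_37 J_36)) (.node (nat_lit 45714) (.node (nat_lit 45618) J_35 J_34) (.node (nat_lit 45810) J_33 J_32))))) (.node (nat_lit 47436) (.node (nat_lit 46671) (.node (nat_lit 46288) (.node (nat_lit 46097) (.node (nat_lit 46001) J_31 J_30) (.node (nat_lit 46192) J_29 J_28)) (.node (nat_lit 46479) (.node (nat_lit 46383) J_27 J_26) (.node (nat_lit 46575) J_25 J_24))) (.node (nat_lit 47053) (.node (nat_lit 46862) (.node (nat_lit 46766) J_23 J_22) (.node (nat_lit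 46957) J_21 J_20)) (.node (nat_lit 47244) (.node (nat_lit 47148) J_19 J_18) (.node (nat_lit 47340) J_17 J_16)))) (.node (nat_lit 48201) (.node (nat_lit 47818) (.node (nat_lit 47627) (.node (nat_lit 47531) J_15 J_14) (.node (nat_lit 47722) J_13 J_12)) (.node (nat_lit 48009) (.node (nat_lit 47913) J_11 J_10) (.node (nat_lit 48105) J_9 J_8))) (.node (nat_lit 48584) (.node (nat_lit 48392) (.node (nat_lit 48296) J_7 J_6) (.node (nat_lit 48488) J_5 J_4)) (.node (nat_lit 48775) (.node (nat_lit 48679) J_3 J_2) (.node (nat_lit 48871) J_1 J_0)))))))))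
noncomputable def row (u : ℕ) : ℕ := Nat.land (Nat.shiftRight (force (Nat.shiftRight u (nat_lit 3)) T.get) (Nat.mul (Nat.land u (nat_lit 7)) (nat_lit 588))) (nat_lit 0xfffffffffffffffffffffffffffffffffffffffffffffffffffffffffffffffffffffffffffffffffffffffffffffffffffffffffffffffffffffffffffffffffffffffffffffffffff)
noncomputable def jrow (u : ℕ) : ℕ := Nat.land (Nat.shiftRight (force (Nat.shiftRight u (nat_lit 3)) J.get) (Nat.mul (Nat.land u (nat_lit 7)) (nat_lit 442))) (nat_lit 0x3ffffffffffffffffffffffffffffffffffffffffffffffffffffffffffffffffffffffffffffffffffffffffffffffffffffffffffffff)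
noncomputable def wt0 : LT := (.node (nat_lit 6) (.node (nat_lit 1) (.node (nat_lit 0) (.leaf 45 0 [nat_lit 462, nat_lit 0, nat_lit 462])
(.leaf 43 0 [nat_lit 420, nat_lit 0, nat_lit 420]))
(.node (nat_lit 3) (.node (nat_lit 2) (.leaf 41 0 [nat_lit 378, nat_lit 0, nat_lit 378])
(.leaf 27 0 [nat_lit 84, nat_lit 0, nat_lit 84]))
(.node (nat_lit 4) (.leaf 39 0 [nat_lit 336, nat_lit 0, nat_lit 336])
(.node (nat_lit 5) (.leaf 25 0 [nat_lit 42, nat_lit 0, nat_lit 42, nat_lit 0, nat_lit 42])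
(.leaf 29 0 [nat_lit 126, nat_lit 0, nat_lit 126])))))
(.node (nat_lit 11) (.node (nat_lit 8) (.node (nat_lit 7) (.leaf 37 0 [nat_lit 294, nat_lit 0, nat_lit 294])
(.leaf 35 0 [nat_lit 252, nat_lit 0, nat_lit 252]))
(.node (nat_lit 9) (.leaf 33 0 [nat_lit 210, nat_lit 0, nat_lit 210])
(.node (nat_lit 10) (.leaf 31 0 [nat_lit 168, nat_lit 0, nat_lit 168])
(.leaf 157 0 [nat_lit 210, nat_lit 420, nat_lit 252, nat_lit 210, nat_lit 168, nat_lit 210, nat_lit 252, nat_lit 420, nat_lit 210, nat_lit 420, nat_lit 252, nat_lit 168, nat_lit 294, nat_lit 252, nat_lit 210, nat_lit 420, nat_lit 168, nat_lit 210, nat_lit 252, nat_lit 126, nat_lit 168, nat_lit 210, nat_lit 420, nat_lit 294, nat_lit 252, nat_lit 210, nat_lit 168, nat_lit 126, nat_lit 84, nat_lit 126, nat_lit 168, nat_lit 210, nat_lit 252, nat_lit 294, nat_lit 420, nat_lit 210, nat_lit 168, nat_lit 126, nat_lit 252, nat_lit 210, nat_lit 168, nat_lit 420, nat_lit 210, nat_lit 252, nat_lit 294, nat_lit 126, nat_lit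 168, nat_lit 210, nat_lit 420, nat_lit 252, nat_lit 210, nat_lit 168, nat_lit 126, nat_lit 84, nat_lit 126, nat_lit 168, nat_lit 210, nat_lit 252, nat_lit 420, nat_lit 210, nat_lit 168, nat_lit 126, nat_lit 84]))))
(.leaf 0 0 [])))
noncomputable def wt1 : LT := (.node (nat_lit 3) (.node (nat_lit 0) (.leaf 65 0 [nat_lit 462, nat_lit 42, nat_lit 462])
(.node (nat_lit 1) (.leaf 63 0 [nat_lit 420, nat_lit 42, nat_lit 420])
(.node (nat_lit 2) (.leaf 25 5 [nat_lit 0, nat_lit 42, nat_lit 0, nat_lit 42, nat_lit 0])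
(.leaf 61 0 [nat_lit 378, nat_lit 42, nat_lit 378]))))
(.node (nat_lit 8) (.node (nat_lit 5) (.node (nat_lit 4) (.leaf 59 0 [nat_lit 336, nat_lit 42, nat_lit 336])
(.leaf 49 0 [nat_lit 126, nat_lit 42, nat_lit 126]))
(.node (nat_lit 6) (.leaf 57 0 [nat_lit 294, nat_lit 42, nat_lit 294])
(.node (nat_lit 7) (.leaf 55 0 [nat_lit 252, nat_lit 42, nat_lit 252])
(.leaf 53 0 [nat_lit 210, nat_lit 42, nat_lit 210]))))
(.node (nat_lit 11) (.node (nat_lit 9) (.leaf 47 0 [nat_lit 84, nat_lit 42, nat_lit 84, nat_lit 42, nat_lit 84])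
(.node (nat_lit 10) (.leaf 51 0 [nat_lit 168, nat_lit 42, nat_lit 168])
(.leaf 159 0 [nat_lit 84, nat_lit 126, nat_lit 168, nat_lit 210, nat_lit 420, nat_lit 462, nat_lit 252, nat_lit 210, nat_lit 420, nat_lit 294, nat_lit 336, nat_lit 252, nat_lit 294, nat_lit 168, nat_lit 210, nat_lit 252, nat_lit 126, nat_lit 168, nat_lit 210, nat_lit 420, nat_lit 462, nat_lit 294, nat_lit 210, nat_lit 252, nat_lit 126, nat_lit 168, nat_lit 210, nat_lit 420, nat_lit 378, nat_lit 336, nat_lit 294, nat_lit 252, nat_lit 210, nat_lit 168, nat_lit 126, nat_lit 84, nat_lit 126, nat_lit 168, nat_lit 210, nat_lit 252, nat_lit 294, nat_lit 336, nat_lit 378, nat_lit 420, nat_lit 210, nat_lit 168, nat_lit 126, nat_lit 252, nat_lit 210, nat_lit 294, nat_lit 462, nat_lit 420, nat_lit 210, nat_lit 168, nat_lit 126, nat_lit 252, nat_lit 210, nat_lit 168, nat_lit 294, nat_lit 252, nat_lit 336, nat_lit 294, nat_lit 420, nat_lit 210, nat_lit 252, nat_lit 462, nat_lit 420, nat_lit 210, nat_lit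 168, nat_lit 126, nat_lit 84, nat_lit 42, nat_lit 84, nat_lit 126, nat_lit 168, nat_lit 210, nat_lit 420, nat_lit 462, nat_lit 252, nat_lit 210, nat_lit 420, nat_lit 294, nat_lit 336, nat_lit 252, nat_lit 294, nat_lit 168, nat_lit 210, nat_lit 252, nat_lit 126, nat_lit 168, nat_lit 210, nat_lit 420, nat_lit 462, nat_lit 294, nat_lit 210, nat_lit 252, nat_lit 126, nat_lit 168, nat_lit 210, nat_lit 420, nat_lit 378, nat_lit 336, nat_lit 294, nat_lit 252, nat_lit 210, nat_lit 168, nat_lit 126, nat_lit 84, nat_lit 126, nat_lit 168, nat_lit 210, nat_lit 252, nat_lit 294, nat_lit 336, nat_lit 378, nat_lit 420, nat_lit 210, nat_lit 168, nat_lit 126, nat_lit 252, nat_lit 210, nat_lit 294, nat_lit 462, nat_lit 420, nat_lit 210, nat_lit 168, nat_lit 126, nat_lit 252, nat_lit 210, nat_lit 168, nat_lit 294, nat_lit 252, nat_lit 336, nat_lit 294, nat_lit 420, nat_lit 210, nat_lit 252, nat_lit 462, nat_lit 420, nat_lit 210, nat_lit 168, nat_lit 126, nat_lit 84])))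
(.leaf 0 0 []))))
noncomputable def wt2 : LT := (.node (nat_lit 2) (.node (nat_lit 0) (.leaf 27 3 [nat_lit 0, nat_lit 84, nat_lit 0])
(.node (nat_lit 1) (.leaf 83 0 [nat_lit 462, nat_lit 84, nat_lit 462])
(.leaf 81 0 [nat_lit 420, nat_lit 84, nat_lit 420])))
(.node (nat_lit 6) (.node (nat_lit 4) (.node (nat_lit 3) (.leaf 79 0 [nat_lit 378, nat_lit 84, nat_lit 378])
(.leaf 77 0 [nat_lit 336, nat_lit 84, nat_lit 336]))
(.node (nat_lit 5) (.leaf 47 5 [nat_lit 42, nat_lit 84, nat_lit 42, nat_lit 84, nat_lit 42])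
(.leaf 75 0 [nat_lit 294, nat_lit 84, nat_lit 294])))
(.node (nat_lit 10) (.node (nat_lit 8) (.node (nat_lit 7) (.leaf 73 0 [nat_lit 252, nat_lit 84, nat_lit 252])
(.leaf 69 0 [nat_lit 168, nat_lit 84, nat_lit 168]))
(.node (nat_lit 9) (.leaf 71 0 [nat_lit 210, nat_lit 84, nat_lit 210])
(.leaf 67 0 [nat_lit 126, nat_lit 84, nat_lit 126, nat_lit 84, nat_lit 126])))
(.node (nat_lit 16) (.node (nat_lit 12) (.node (nat_lit 11) (.leaf 157 54 [nat_lit 126, nat_lit 168, nat_lit 210, nat_lit 252, nat_lit 420, nat_lit 210, nat_lit 168, nat_lit 126, nat_lit 84, nat_lit 0, nat_lit 210, nat_lit 420, nat_lit 252, nat_lit 210, nat_lit 168, nat_lit 210, nat_lit 252, nat_lit 420, nat_lit 210, nat_lit 420, nat_lit 252, nat_lit 168, nat_lit 294, nat_lit 252, nat_lit 210, nat_lit 420, nat_lit 168, nat_lit 210, nat_lit 252, nat_lit 126, nat_lit 168, nat_lit 210, nat_lit 420, nat_lit 294, nat_lit 252, nat_lit 210, nat_lit 168, nat_lit 126, nat_lit 84, nat_lit 126, nat_lit 168,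 nat_lit 210, nat_lit 252, nat_lit 294, nat_lit 420, nat_lit 210, nat_lit 168, nat_lit 126, nat_lit 252, nat_lit 210, nat_lit 168, nat_lit 420, nat_lit 210, nat_lit 252, nat_lit 294, nat_lit 126, nat_lit 168, nat_lit 210, nat_lit 420, nat_lit 252, nat_lit 210, nat_lit 168, nat_lit 126])
(.leaf 157 63 [nat_lit 0, nat_lit 210, nat_lit 420, nat_lit 252, nat_lit 210, nat_lit 168, nat_lit 210, nat_lit 252, nat_lit 420, nat_lit 210, nat_lit 420, nat_lit 252, nat_lit 168, nat_lit 294, nat_lit 252, nat_lit 210, nat_lit 420, nat_lit 168, nat_lit 210, nat_lit 252, nat_lit 126, nat_lit 168, nat_lit 210, nat_lit 420, nat_lit 294, nat_lit 252, nat_lit 210, nat_lit 168, nat_lit 126, nat_lit 84, nat_lit 126, nat_lit 168, nat_lit 210, nat_lit 252, nat_lit 294, nat_lit 420, nat_lit 210, nat_lit 168, nat_lit 126, nat_lit 252, nat_lit 210, nat_lit 168, nat_lit 420, nat_lit 210, nat_lit 252, nat_lit 294, nat_lit 126, nat_lit 168, nat_lit 210, nat_lit 420, nat_lit 252, nat_lit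 210, nat_lit 168, nat_lit 126, nat_lit 84, nat_lit 126, nat_lit 168, nat_lit 210, nat_lit 252, nat_lit 420, nat_lit 210, nat_lit 168, nat_lit 126]))
(.node (nat_lit 13) (.leaf 157 29 [nat_lit 126, nat_lit 168, nat_lit 210, nat_lit 252, nat_lit 294, nat_lit 420, nat_lit 210, nat_lit 168, nat_lit 126, nat_lit 252, nat_lit 210, nat_lit 168, nat_lit 420, nat_lit 210, nat_lit 252, nat_lit 294, nat_lit 126, nat_lit 168, nat_lit 210, nat_lit 420, nat_lit 252, nat_lit 210, nat_lit 168, nat_lit 126, nat_lit 84, nat_lit 126, nat_lit 168, nat_lit 210, nat_lit 252, nat_lit 420, nat_lit 210, nat_lit 168, nat_lit 126, nat_lit 84, nat_lit 0, nat_lit 210, nat_lit 420, nat_lit 252, nat_lit 210, nat_lit 168, nat_lit 210, nat_lit 252, nat_lit 420, nat_lit 210, nat_lit 420, nat_lit 252, nat_lit 168, nat_lit 294, nat_lit 252, nat_lit 210, nat_lit 420, nat_lit 168, nat_lit 210, nat_lit 252, nat_lit 126, nat_lit 168, nat_lit 210, nat_lit 420, nat_lit 294, nat_lit 252, nat_lit 210,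 nat_lit 168, nat_lit 126])
(.node (nat_lit 14) (.leaf 159 143 [nat_lit 42, nat_lit 84, nat_lit 126, nat_lit 168, nat_lit 210, nat_lit 420, nat_lit 462, nat_lit 252, nat_lit 210, nat_lit 420, nat_lit 294, nat_lit 336, nat_lit 252, nat_lit 294, nat_lit 168, nat_lit 210, nat_lit 252, nat_lit 126, nat_lit 168, nat_lit 210, nat_lit 420, nat_lit 462, nat_lit 294, nat_lit 210, nat_lit 252, nat_lit 126, nat_lit 168, nat_lit 210, nat_lit 420, nat_lit 378, nat_lit 336, nat_lit 294, nat_lit 252, nat_lit 210, nat_lit 168, nat_lit 126, nat_lit 84, nat_lit 126, nat_lit 168, nat_lit 210, nat_lit 252, nat_lit 294, nat_lit 336, nat_lit 378, nat_lit 420, nat_lit 210, nat_lit 168, nat_lit 126, nat_lit 252, nat_lit 210, nat_lit 294, nat_lit 462, nat_lit 420, nat_lit 210, nat_lit 168, nat_lit 126, nat_lit 252, nat_lit 210, nat_lit 168, nat_lit 294, nat_lit 252, nat_lit 336, nat_lit 294, nat_lit 420, nat_lit 210, nat_lit 252, nat_lit 462, nat_lit 420, nat_lit 210, nat_lit 168,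 nat_lit 126, nat_lit 84, nat_lit 42, nat_lit 84, nat_lit 126, nat_lit 168, nat_lit 210, nat_lit 420, nat_lit 462, nat_lit 252, nat_lit 210, nat_lit 420, nat_lit 294, nat_lit 336, nat_lit 252, nat_lit 294, nat_lit 168, nat_lit 210, nat_lit 252, nat_lit 126, nat_lit 168, nat_lit 210, nat_lit 420, nat_lit 462, nat_lit 294, nat_lit 210, nat_lit 252, nat_lit 126, nat_lit 168, nat_lit 210, nat_lit 420, nat_lit 378, nat_lit 336, nat_lit 294, nat_lit 252, nat_lit 210, nat_lit 168, nat_lit 126, nat_lit 84, nat_lit 126, nat_lit 168, nat_lit 210, nat_lit 252, nat_lit 294, nat_lit 336, nat_lit 378, nat_lit 420, nat_lit 210, nat_lit 168, nat_lit 126, nat_lit 252, nat_lit 210, nat_lit 294, nat_lit 462, nat_lit 420, nat_lit 210, nat_lit 168, nat_lit 126, nat_lit 252, nat_lit 210, nat_lit 168, nat_lit 294, nat_lit 252, nat_lit 336, nat_lit 294, nat_lit 420, nat_lit 210, nat_lit 252, nat_lit 462, nat_lit 420, nat_lit 210, nat_lit 168, nat_lit 126])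
(.node (nat_lit 15) (.leaf 159 73 [nat_lit 126, nat_lit 168, nat_lit 210, nat_lit 420, nat_lit 462, nat_lit 252, nat_lit 210, nat_lit 420, nat_lit 294, nat_lit 336, nat_lit 252, nat_lit 294, nat_lit 168, nat_lit 210, nat_lit 252, nat_lit 126, nat_lit 168, nat_lit 210, nat_lit 420, nat_lit 462, nat_lit 294, nat_lit 210, nat_lit 252, nat_lit 126, nat_lit 168, nat_lit 210, nat_lit 420, nat_lit 378, nat_lit 336, nat_lit 294, nat_lit 252, nat_lit 210, nat_lit 168, nat_lit 126, nat_lit 84, nat_lit 126, nat_lit 168, nat_lit 210, nat_lit 252, nat_lit 294, nat_lit 336, nat_lit 378, nat_lit 420, nat_lit 210, nat_lit 168, nat_lit 126, nat_lit 252, nat_lit 210, nat_lit 294, nat_lit 462, nat_lit 420, nat_lit 210, nat_lit 168, nat_lit 126, nat_lit 252, nat_lit 210, nat_lit 168, nat_lit 294, nat_lit 252, nat_lit 336, nat_lit 294, nat_lit 420, nat_lit 210, nat_lit 252, nat_lit 462, nat_lit 420, nat_lit 210, nat_lit 168, nat_lit 126, nat_lit 84, nat_lit 42, nat_lit 84, nat_lit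 126, nat_lit 168, nat_lit 210, nat_lit 420, nat_lit 462, nat_lit 252, nat_lit 210, nat_lit 420, nat_lit 294, nat_lit 336, nat_lit 252, nat_lit 294, nat_lit 168, nat_lit 210, nat_lit 252, nat_lit 126, nat_lit 168, nat_lit 210, nat_lit 420, nat_lit 462, nat_lit 294, nat_lit 210, nat_lit 252, nat_lit 126, nat_lit 168, nat_lit 210, nat_lit 420, nat_lit 378, nat_lit 336, nat_lit 294, nat_lit 252, nat_lit 210, nat_lit 168, nat_lit 126, nat_lit 84, nat_lit 126, nat_lit 168, nat_lit 210, nat_lit 252, nat_lit 294, nat_lit 336, nat_lit 378, nat_lit 420, nat_lit 210, nat_lit 168, nat_lit 126, nat_lit 252, nat_lit 210, nat_lit 294, nat_lit 462, nat_lit 420, nat_lit 210, nat_lit 168, nat_lit 126, nat_lit 252, nat_lit 210, nat_lit 168, nat_lit 294, nat_lit 252, nat_lit 336, nat_lit 294, nat_lit 420, nat_lit 210, nat_lit 252, nat_lit 462, nat_lit 420, nat_lit 210, nat_lit 168, nat_lit 126, nat_lit 84, nat_lit 42])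
(.leaf 159 108 [nat_lit 126, nat_lit 168, nat_lit 210, nat_lit 252, nat_lit 294, nat_lit 336, nat_lit 378, nat_lit 420, nat_lit 210, nat_lit 168, nat_lit 126, nat_lit 252, nat_lit 210, nat_lit 294, nat_lit 462, nat_lit 420, nat_lit 210, nat_lit 168, nat_lit 126, nat_lit 252, nat_lit 210, nat_lit 168, nat_lit 294, nat_lit 252, nat_lit 336, nat_lit 294, nat_lit 420, nat_lit 210, nat_lit 252, nat_lit 462, nat_lit 420, nat_lit 210, nat_lit 168, nat_lit 126, nat_lit 84, nat_lit 42, nat_lit 84, nat_lit 126, nat_lit 168, nat_lit 210, nat_lit 420, nat_lit 462, nat_lit 252, nat_lit 210, nat_lit 420, nat_lit 294, nat_lit 336, nat_lit 252, nat_lit 294, nat_lit 168, nat_lit 210, nat_lit 252, nat_lit 126, nat_lit 168, nat_lit 210, nat_lit 420, nat_lit 462, nat_lit 294, nat_lit 210, nat_lit 252, nat_lit 126, nat_lit 168, nat_lit 210, nat_lit 420, nat_lit 378, nat_lit 336, nat_lit 294, nat_lit 252, nat_lit 210, nat_lit 168, nat_lit 126, nat_lit 84, nat_lit 126, nat_lit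 168, nat_lit 210, nat_lit 252, nat_lit 294, nat_lit 336, nat_lit 378, nat_lit 420, nat_lit 210, nat_lit 168, nat_lit 126, nat_lit 252, nat_lit 210, nat_lit 294, nat_lit 462, nat_lit 420, nat_lit 210, nat_lit 168, nat_lit 126, nat_lit 252, nat_lit 210, nat_lit 168, nat_lit 294, nat_lit 252, nat_lit 336, nat_lit 294, nat_lit 420, nat_lit 210, nat_lit 252, nat_lit 462, nat_lit 420, nat_lit 210, nat_lit 168, nat_lit 126, nat_lit 84, nat_lit 42, nat_lit 84, nat_lit 126, nat_lit 168, nat_lit 210, nat_lit 420, nat_lit 462, nat_lit 252, nat_lit 210, nat_lit 420, nat_lit 294, nat_lit 336, nat_lit 252, nat_lit 294, nat_lit 168, nat_lit 210, nat_lit 252, nat_lit 126, nat_lit 168, nat_lit 210, nat_lit 420, nat_lit 462, nat_lit 294, nat_lit 210, nat_lit 252, nat_lit 126, nat_lit 168, nat_lit 210, nat_lit 420, nat_lit 378, nat_lit 336, nat_lit 294, nat_lit 252, nat_lit 210, nat_lit 168, nat_lit 126])))))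
(.leaf 0 0 [])))))
noncomputable def wt3 : LT := (.node (nat_lit 2) (.node (nat_lit 0) (.leaf 99 0 [nat_lit 462, nat_lit 126, nat_lit 462])
(.node (nat_lit 1) (.leaf 29 3 [nat_lit 0, nat_lit 126, nat_lit 0])
(.leaf 97 0 [nat_lit 420, nat_lit 126, nat_lit 420])))
(.node (nat_lit 6) (.node (nat_lit 4) (.node (nat_lit 3) (.leaf 49 3 [nat_lit 42, nat_lit 126, nat_lit 42])
(.leaf 95 0 [nat_lit 378, nat_lit 126, nat_lit 378]))
(.node (nat_lit 5) (.leaf 93 0 [nat_lit 336, nat_lit 126, nat_lit 336])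
(.leaf 91 0 [nat_lit 294, nat_lit 126, nat_lit 294])))
(.node (nat_lit 10) (.node (nat_lit 8) (.node (nat_lit 7) (.leaf 89 0 [nat_lit 252, nat_lit 126, nat_lit 252])
(.leaf 87 0 [nat_lit 210, nat_lit 126, nat_lit 210]))
(.node (nat_lit 9) (.leaf 67 5 [nat_lit 84, nat_lit 126, nat_lit 84, nat_lit 126, nat_lit 84])
(.leaf 85 0 [nat_lit 168, nat_lit 126, nat_lit 168, nat_lit 126, nat_lit 168])))
(.node (nat_lit 26) (.node (nat_lit 13) (.node (nat_lit 11) (.leaf 157 62 [nat_lit 84, nat_lit 0, nat_lit 210, nat_lit 420, nat_lit 252, nat_lit 210, nat_lit 168, nat_lit 210, nat_lit 252, nat_lit 420, nat_lit 210, nat_lit 420, nat_lit 252, nat_lit 168, nat_lit 294, nat_lit 252, nat_lit 210, nat_lit 420, nat_lit 168, nat_lit 210, nat_lit 252, nat_lit 126, nat_lit 168, nat_lit 210, nat_lit 420, nat_lit 294, nat_lit 252, nat_lit 210, nat_lit 168, nat_lit 126, nat_lit 84, nat_lit 126, nat_lit 168, nat_lit 210, nat_lit 252, nat_lit 294, nat_lit 420, nat_lit 210, nat_lit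 168, nat_lit 126, nat_lit 252, nat_lit 210, nat_lit 168, nat_lit 420, nat_lit 210, nat_lit 252, nat_lit 294, nat_lit 126, nat_lit 168, nat_lit 210, nat_lit 420, nat_lit 252, nat_lit 210, nat_lit 168, nat_lit 126, nat_lit 84, nat_lit 126, nat_lit 168, nat_lit 210, nat_lit 252, nat_lit 420, nat_lit 210, nat_lit 168])
(.node (nat_lit 12) (.leaf 157 55 [nat_lit 168, nat_lit 210, nat_lit 252, nat_lit 420, nat_lit 210, nat_lit 168, nat_lit 126, nat_lit 84, nat_lit 0, nat_lit 210, nat_lit 420, nat_lit 252, nat_lit 210, nat_lit 168, nat_lit 210, nat_lit 252, nat_lit 420, nat_lit 210, nat_lit 420, nat_lit 252, nat_lit 168, nat_lit 294, nat_lit 252, nat_lit 210, nat_lit 420, nat_lit 168, nat_lit 210, nat_lit 252, nat_lit 126, nat_lit 168, nat_lit 210, nat_lit 420, nat_lit 294, nat_lit 252, nat_lit 210, nat_lit 168, nat_lit 126, nat_lit 84, nat_lit 126, nat_lit 168, nat_lit 210, nat_lit 252, nat_lit 294, nat_lit 420, nat_lit 210, nat_lit 168, nat_lit 126, nat_lit 252,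 nat_lit 210, nat_lit 168, nat_lit 420, nat_lit 210, nat_lit 252, nat_lit 294, nat_lit 126, nat_lit 168, nat_lit 210, nat_lit 420, nat_lit 252, nat_lit 210, nat_lit 168, nat_lit 126, nat_lit 84])
(.leaf 157 46 [nat_lit 168, nat_lit 210, nat_lit 420, nat_lit 252, nat_lit 210, nat_lit 168, nat_lit 126, nat_lit 84, nat_lit 126, nat_lit 168, nat_lit 210, nat_lit 252, nat_lit 420, nat_lit 210, nat_lit 168, nat_lit 126, nat_lit 84, nat_lit 0, nat_lit 210, nat_lit 420, nat_lit 252, nat_lit 210, nat_lit 168, nat_lit 210, nat_lit 252, nat_lit 420, nat_lit 210, nat_lit 420, nat_lit 252, nat_lit 168, nat_lit 294, nat_lit 252, nat_lit 210, nat_lit 420, nat_lit 168, nat_lit 210, nat_lit 252, nat_lit 126, nat_lit 168, nat_lit 210, nat_lit 420, nat_lit 294, nat_lit 252, nat_lit 210, nat_lit 168, nat_lit 126, nat_lit 84, nat_lit 126, nat_lit 168, nat_lit 210, nat_lit 252, nat_lit 294, nat_lit 420, nat_lit 210, nat_lit 168, nat_lit 126, nat_lit 252, nat_lit 210, nat_lit 168,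 nat_lit 420, nat_lit 210, nat_lit 252, nat_lit 294])))
(.node (nat_lit 16) (.node (nat_lit 14) (.leaf 157 53 [nat_lit 84, nat_lit 126, nat_lit 168, nat_lit 210, nat_lit 252, nat_lit 420, nat_lit 210, nat_lit 168, nat_lit 126, nat_lit 84, nat_lit 0, nat_lit 210, nat_lit 420, nat_lit 252, nat_lit 210, nat_lit 168, nat_lit 210, nat_lit 252, nat_lit 420, nat_lit 210, nat_lit 420, nat_lit 252, nat_lit 168, nat_lit 294, nat_lit 252, nat_lit 210, nat_lit 420, nat_lit 168, nat_lit 210, nat_lit 252, nat_lit 126, nat_lit 168, nat_lit 210, nat_lit 420, nat_lit 294, nat_lit 252, nat_lit 210, nat_lit 168, nat_lit 126, nat_lit 84, nat_lit 126, nat_lit 168, nat_lit 210, nat_lit 252, nat_lit 294, nat_lit 420, nat_lit 210, nat_lit 168, nat_lit 126, nat_lit 252, nat_lit 210, nat_lit 168, nat_lit 420, nat_lit 210, nat_lit 252, nat_lit 294, nat_lit 126, nat_lit 168, nat_lit 210, nat_lit 420, nat_lit 252, nat_lit 210, nat_lit 168])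
(.node (nat_lit 15) (.leaf 157 20 [nat_lit 168, nat_lit 210, nat_lit 420, nat_lit 294, nat_lit 252, nat_lit 210, nat_lit 168, nat_lit 126, nat_lit 84, nat_lit 126, nat_lit 168, nat_lit 210, nat_lit 252, nat_lit 294, nat_lit 420, nat_lit 210, nat_lit 168, nat_lit 126, nat_lit 252, nat_lit 210, nat_lit 168, nat_lit 420, nat_lit 210, nat_lit 252, nat_lit 294, nat_lit 126, nat_lit 168, nat_lit 210, nat_lit 420, nat_lit 252, nat_lit 210, nat_lit 168, nat_lit 126, nat_lit 84, nat_lit 126, nat_lit 168, nat_lit 210, nat_lit 252, nat_lit 420, nat_lit 210, nat_lit 168, nat_lit 126, nat_lit 84, nat_lit 0, nat_lit 210, nat_lit 420, nat_lit 252, nat_lit 210, nat_lit 168, nat_lit 210, nat_lit 252, nat_lit 420, nat_lit 210, nat_lit 420, nat_lit 252, nat_lit 168, nat_lit 294, nat_lit 252, nat_lit 210, nat_lit 420, nat_lit 168, nat_lit 210, nat_lit 252])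
(.leaf 159 142 [nat_lit 84, nat_lit 42, nat_lit 84, nat_lit 126, nat_lit 168, nat_lit 210, nat_lit 420, nat_lit 462, nat_lit 252, nat_lit 210, nat_lit 420, nat_lit 294, nat_lit 336, nat_lit 252, nat_lit 294, nat_lit 168, nat_lit 210, nat_lit 252, nat_lit 126, nat_lit 168, nat_lit 210, nat_lit 420, nat_lit 462, nat_lit 294, nat_lit 210, nat_lit 252, nat_lit 126, nat_lit 168, nat_lit 210, nat_lit 420, nat_lit 378, nat_lit 336, nat_lit 294, nat_lit 252, nat_lit 210, nat_lit 168, nat_lit 126, nat_lit 84, nat_lit 126, nat_lit 168, nat_lit 210, nat_lit 252, nat_lit 294, nat_lit 336, nat_lit 378, nat_lit 420, nat_lit 210, nat_lit 168, nat_lit 126, nat_lit 252, nat_lit 210, nat_lit 294, nat_lit 462, nat_lit 420, nat_lit 210, nat_lit 168, nat_lit 126, nat_lit 252, nat_lit 210, nat_lit 168, nat_lit 294, nat_lit 252, nat_lit 336, nat_lit 294, nat_lit 420, nat_lit 210, nat_lit 252, nat_lit 462, nat_lit 420, nat_lit 210, nat_lit 168, nat_lit 126, nat_lit 84, nat_lit 42,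 nat_lit 84, nat_lit 126, nat_lit 168, nat_lit 210, nat_lit 420, nat_lit 462, nat_lit 252, nat_lit 210, nat_lit 420, nat_lit 294, nat_lit 336, nat_lit 252, nat_lit 294, nat_lit 168, nat_lit 210, nat_lit 252, nat_lit 126, nat_lit 168, nat_lit 210, nat_lit 420, nat_lit 462, nat_lit 294, nat_lit 210, nat_lit 252, nat_lit 126, nat_lit 168, nat_lit 210, nat_lit 420, nat_lit 378, nat_lit 336, nat_lit 294, nat_lit 252, nat_lit 210, nat_lit 168, nat_lit 126, nat_lit 84, nat_lit 126, nat_lit 168, nat_lit 210, nat_lit 252, nat_lit 294, nat_lit 336, nat_lit 378, nat_lit 420, nat_lit 210, nat_lit 168, nat_lit 126, nat_lit 252, nat_lit 210, nat_lit 294, nat_lit 462, nat_lit 420, nat_lit 210, nat_lit 168, nat_lit 126, nat_lit 252, nat_lit 210, nat_lit 168, nat_lit 294, nat_lit 252, nat_lit 336, nat_lit 294, nat_lit 420, nat_lit 210, nat_lit 252, nat_lit 462, nat_lit 420, nat_lit 210, nat_lit 168])))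
(.node (nat_lit 19) (.node (nat_lit 17) (.leaf 157 38 [nat_lit 252, nat_lit 210, nat_lit 168, nat_lit 420, nat_lit 210, nat_lit 252, nat_lit 294, nat_lit 126, nat_lit 168, nat_lit 210, nat_lit 420, nat_lit 252, nat_lit 210, nat_lit 168, nat_lit 126, nat_lit 84, nat_lit 126, nat_lit 168, nat_lit 210, nat_lit 252, nat_lit 420, nat_lit 210, nat_lit 168, nat_lit 126, nat_lit 84, nat_lit 0, nat_lit 210, nat_lit 420, nat_lit 252, nat_lit 210, nat_lit 168, nat_lit 210, nat_lit 252, nat_lit 420, nat_lit 210, nat_lit 420, nat_lit 252, nat_lit 168, nat_lit 294, nat_lit 252, nat_lit 210, nat_lit 420, nat_lit 168, nat_lit 210, nat_lit 252, nat_lit 126, nat_lit 168, nat_lit 210, nat_lit 420, nat_lit 294, nat_lit 252, nat_lit 210, nat_lit 168, nat_lit 126, nat_lit 84, nat_lit 126, nat_lit 168, nat_lit 210, nat_lit 252, nat_lit 294, nat_lit 420, nat_lit 210, nat_lit 168])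
(.node (nat_lit 18) (.leaf 157 28 [nat_lit 84, nat_lit 126, nat_lit 168, nat_lit 210, nat_lit 252, nat_lit 294, nat_lit 420, nat_lit 210, nat_lit 168, nat_lit 126, nat_lit 252, nat_lit 210, nat_lit 168, nat_lit 420, nat_lit 210, nat_lit 252, nat_lit 294, nat_lit 126, nat_lit 168, nat_lit 210, nat_lit 420, nat_lit 252, nat_lit 210, nat_lit 168, nat_lit 126, nat_lit 84, nat_lit 126, nat_lit 168, nat_lit 210, nat_lit 252, nat_lit 420, nat_lit 210, nat_lit 168, nat_lit 126, nat_lit 84, nat_lit 0, nat_lit 210, nat_lit 420, nat_lit 252, nat_lit 210, nat_lit 168, nat_lit 210, nat_lit 252, nat_lit 420, nat_lit 210, nat_lit 420, nat_lit 252, nat_lit 168, nat_lit 294, nat_lit 252, nat_lit 210, nat_lit 420, nat_lit 168, nat_lit 210, nat_lit 252, nat_lit 126, nat_lit 168, nat_lit 210, nat_lit 420, nat_lit 294, nat_lit 252, nat_lit 210, nat_lit 168])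
(.leaf 157 30 [nat_lit 168, nat_lit 210, nat_lit 252, nat_lit 294, nat_lit 420, nat_lit 210, nat_lit 168, nat_lit 126, nat_lit 252, nat_lit 210, nat_lit 168, nat_lit 420, nat_lit 210, nat_lit 252, nat_lit 294, nat_lit 126, nat_lit 168, nat_lit 210, nat_lit 420, nat_lit 252, nat_lit 210, nat_lit 168, nat_lit 126, nat_lit 84, nat_lit 126, nat_lit 168, nat_lit 210, nat_lit 252, nat_lit 420, nat_lit 210, nat_lit 168, nat_lit 126, nat_lit 84, nat_lit 0, nat_lit 210, nat_lit 420, nat_lit 252, nat_lit 210, nat_lit 168, nat_lit 210, nat_lit 252, nat_lit 420, nat_lit 210, nat_lit 420, nat_lit 252, nat_lit 168, nat_lit 294, nat_lit 252, nat_lit 210, nat_lit 420, nat_lit 168, nat_lit 210, nat_lit 252, nat_lit 126, nat_lit 168, nat_lit 210, nat_lit 420, nat_lit 294, nat_lit 252, nat_lit 210, nat_lit 168, nat_lit 126, nat_lit 84])))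
(.node (nat_lit 21) (.node (nat_lit 20) (.leaf 159 97 [nat_lit 168, nat_lit 210, nat_lit 420, nat_lit 378, nat_lit 336, nat_lit 294, nat_lit 252, nat_lit 210, nat_lit 168, nat_lit 126, nat_lit 84, nat_lit 126, nat_lit 168, nat_lit 210, nat_lit 252, nat_lit 294, nat_lit 336, nat_lit 378, nat_lit 420, nat_lit 210, nat_lit 168, nat_lit 126, nat_lit 252, nat_lit 210, nat_lit 294, nat_lit 462, nat_lit 420, nat_lit 210, nat_lit 168, nat_lit 126, nat_lit 252, nat_lit 210, nat_lit 168, nat_lit 294, nat_lit 252, nat_lit 336, nat_lit 294, nat_lit 420, nat_lit 210, nat_lit 252, nat_lit 462, nat_lit 420, nat_lit 210, nat_lit 168, nat_lit 126, nat_lit 84, nat_lit 42, nat_lit 84, nat_lit 126, nat_lit 168, nat_lit 210, nat_lit 420, nat_lit 462, nat_lit 252, nat_lit 210, nat_lit 420, nat_lit 294, nat_lit 336, nat_lit 252, nat_lit 294, nat_lit 168, nat_lit 210, nat_lit 252, nat_lit 126, nat_lit 168, nat_lit 210, nat_lit 420, nat_lit 462, nat_lit 294, nat_lit 210, nat_lit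 252, nat_lit 126, nat_lit 168, nat_lit 210, nat_lit 420, nat_lit 378, nat_lit 336, nat_lit 294, nat_lit 252, nat_lit 210, nat_lit 168, nat_lit 126, nat_lit 84, nat_lit 126, nat_lit 168, nat_lit 210, nat_lit 252, nat_lit 294, nat_lit 336, nat_lit 378, nat_lit 420, nat_lit 210, nat_lit 168, nat_lit 126, nat_lit 252, nat_lit 210, nat_lit 294, nat_lit 462, nat_lit 420, nat_lit 210, nat_lit 168, nat_lit 126, nat_lit 252, nat_lit 210, nat_lit 168, nat_lit 294, nat_lit 252, nat_lit 336, nat_lit 294, nat_lit 420, nat_lit 210, nat_lit 252, nat_lit 462, nat_lit 420, nat_lit 210, nat_lit 168, nat_lit 126, nat_lit 84, nat_lit 42, nat_lit 84, nat_lit 126, nat_lit 168, nat_lit 210, nat_lit 420, nat_lit 462, nat_lit 252, nat_lit 210, nat_lit 420, nat_lit 294, nat_lit 336, nat_lit 252, nat_lit 294, nat_lit 168, nat_lit 210, nat_lit 252, nat_lit 126, nat_lit 168, nat_lit 210, nat_lit 420, nat_lit 462, nat_lit 294, nat_lit 210, nat_lit 252])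
(.leaf 159 89 [nat_lit 168, nat_lit 210, nat_lit 420, nat_lit 462, nat_lit 294, nat_lit 210, nat_lit 252, nat_lit 126, nat_lit 168, nat_lit 210, nat_lit 420, nat_lit 378, nat_lit 336, nat_lit 294, nat_lit 252, nat_lit 210, nat_lit 168, nat_lit 126, nat_lit 84, nat_lit 126, nat_lit 168, nat_lit 210, nat_lit 252, nat_lit 294, nat_lit 336, nat_lit 378, nat_lit 420, nat_lit 210, nat_lit 168, nat_lit 126, nat_lit 252, nat_lit 210, nat_lit 294, nat_lit 462, nat_lit 420, nat_lit 210, nat_lit 168, nat_lit 126, nat_lit 252, nat_lit 210, nat_lit 168, nat_lit 294, nat_lit 252, nat_lit 336, nat_lit 294, nat_lit 420, nat_lit 210, nat_lit 252, nat_lit 462, nat_lit 420, nat_lit 210, nat_lit 168, nat_lit 126, nat_lit 84, nat_lit 42, nat_lit 84, nat_lit 126, nat_lit 168, nat_lit 210, nat_lit 420, nat_lit 462, nat_lit 252, nat_lit 210, nat_lit 420, nat_lit 294, nat_lit 336, nat_lit 252, nat_lit 294, nat_lit 168, nat_lit 210, nat_lit 252, nat_lit 126, nat_lit 168, nat_lit 210,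 nat_lit 420, nat_lit 462, nat_lit 294, nat_lit 210, nat_lit 252, nat_lit 126, nat_lit 168, nat_lit 210, nat_lit 420, nat_lit 378, nat_lit 336, nat_lit 294, nat_lit 252, nat_lit 210, nat_lit 168, nat_lit 126, nat_lit 84, nat_lit 126, nat_lit 168, nat_lit 210, nat_lit 252, nat_lit 294, nat_lit 336, nat_lit 378, nat_lit 420, nat_lit 210, nat_lit 168, nat_lit 126, nat_lit 252, nat_lit 210, nat_lit 294, nat_lit 462, nat_lit 420, nat_lit 210, nat_lit 168, nat_lit 126, nat_lit 252, nat_lit 210, nat_lit 168, nat_lit 294, nat_lit 252, nat_lit 336, nat_lit 294, nat_lit 420, nat_lit 210, nat_lit 252, nat_lit 462, nat_lit 420, nat_lit 210, nat_lit 168, nat_lit 126, nat_lit 84, nat_lit 42, nat_lit 84, nat_lit 126, nat_lit 168, nat_lit 210, nat_lit 420, nat_lit 462, nat_lit 252, nat_lit 210, nat_lit 420, nat_lit 294, nat_lit 336, nat_lit 252, nat_lit 294, nat_lit 168, nat_lit 210, nat_lit 252]))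
(.node (nat_lit 23) (.node (nat_lit 22) (.leaf 159 107 [nat_lit 84, nat_lit 126, nat_lit 168, nat_lit 210, nat_lit 252, nat_lit 294, nat_lit 336, nat_lit 378, nat_lit 420, nat_lit 210, nat_lit 168, nat_lit 126, nat_lit 252, nat_lit 210, nat_lit 294, nat_lit 462, nat_lit 420, nat_lit 210, nat_lit 168, nat_lit 126, nat_lit 252, nat_lit 210, nat_lit 168, nat_lit 294, nat_lit 252, nat_lit 336, nat_lit 294, nat_lit 420, nat_lit 210, nat_lit 252, nat_lit 462, nat_lit 420, nat_lit 210, nat_lit 168, nat_lit 126, nat_lit 84, nat_lit 42, nat_lit 84, nat_lit 126, nat_lit 168, nat_lit 210, nat_lit 420, nat_lit 462, nat_lit 252, nat_lit 210, nat_lit 420, nat_lit 294, nat_lit 336, nat_lit 252, nat_lit 294, nat_lit 168, nat_lit 210, nat_lit 252, nat_lit 126, nat_lit 168, nat_lit 210, nat_lit 420, nat_lit 462, nat_lit 294, nat_lit 210, nat_lit 252, nat_lit 126, nat_lit 168, nat_lit 210, nat_lit 420, nat_lit 378, nat_lit 336, nat_lit 294, nat_lit 252, nat_lit 210, nat_lit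 168, nat_lit 126, nat_lit 84, nat_lit 126, nat_lit 168, nat_lit 210, nat_lit 252, nat_lit 294, nat_lit 336, nat_lit 378, nat_lit 420, nat_lit 210, nat_lit 168, nat_lit 126, nat_lit 252, nat_lit 210, nat_lit 294, nat_lit 462, nat_lit 420, nat_lit 210, nat_lit 168, nat_lit 126, nat_lit 252, nat_lit 210, nat_lit 168, nat_lit 294, nat_lit 252, nat_lit 336, nat_lit 294, nat_lit 420, nat_lit 210, nat_lit 252, nat_lit 462, nat_lit 420, nat_lit 210, nat_lit 168, nat_lit 126, nat_lit 84, nat_lit 42, nat_lit 84, nat_lit 126, nat_lit 168, nat_lit 210, nat_lit 420, nat_lit 462, nat_lit 252, nat_lit 210, nat_lit 420, nat_lit 294, nat_lit 336, nat_lit 252, nat_lit 294, nat_lit 168, nat_lit 210, nat_lit 252, nat_lit 126, nat_lit 168, nat_lit 210, nat_lit 420, nat_lit 462, nat_lit 294, nat_lit 210, nat_lit 252, nat_lit 126, nat_lit 168, nat_lit 210, nat_lit 420, nat_lit 378, nat_lit 336, nat_lit 294, nat_lit 252, nat_lit 210, nat_lit 168])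
(.leaf 159 109 [nat_lit 168, nat_lit 210, nat_lit 252, nat_lit 294, nat_lit 336, nat_lit 378, nat_lit 420, nat_lit 210, nat_lit 168, nat_lit 126, nat_lit 252, nat_lit 210, nat_lit 294, nat_lit 462, nat_lit 420, nat_lit 210, nat_lit 168, nat_lit 126, nat_lit 252, nat_lit 210, nat_lit 168, nat_lit 294, nat_lit 252, nat_lit 336, nat_lit 294, nat_lit 420, nat_lit 210, nat_lit 252, nat_lit 462, nat_lit 420, nat_lit 210, nat_lit 168, nat_lit 126, nat_lit 84, nat_lit 42, nat_lit 84, nat_lit 126, nat_lit 168, nat_lit 210, nat_lit 420, nat_lit 462, nat_lit 252, nat_lit 210, nat_lit 420, nat_lit 294, nat_lit 336, nat_lit 252, nat_lit 294, nat_lit 168, nat_lit 210, nat_lit 252, nat_lit 126, nat_lit 168, nat_lit 210, nat_lit 420, nat_lit 462, nat_lit 294, nat_lit 210, nat_lit 252, nat_lit 126, nat_lit 168, nat_lit 210, nat_lit 420, nat_lit 378, nat_lit 336, nat_lit 294, nat_lit 252, nat_lit 210, nat_lit 168, nat_lit 126, nat_lit 84, nat_lit 126, nat_lit 168, nat_lit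 210, nat_lit 252, nat_lit 294, nat_lit 336, nat_lit 378, nat_lit 420, nat_lit 210, nat_lit 168, nat_lit 126, nat_lit 252, nat_lit 210, nat_lit 294, nat_lit 462, nat_lit 420, nat_lit 210, nat_lit 168, nat_lit 126, nat_lit 252, nat_lit 210, nat_lit 168, nat_lit 294, nat_lit 252, nat_lit 336, nat_lit 294, nat_lit 420, nat_lit 210, nat_lit 252, nat_lit 462, nat_lit 420, nat_lit 210, nat_lit 168, nat_lit 126, nat_lit 84, nat_lit 42, nat_lit 84, nat_lit 126, nat_lit 168, nat_lit 210, nat_lit 420, nat_lit 462, nat_lit 252, nat_lit 210, nat_lit 420, nat_lit 294, nat_lit 336, nat_lit 252, nat_lit 294, nat_lit 168, nat_lit 210, nat_lit 252, nat_lit 126, nat_lit 168, nat_lit 210, nat_lit 420, nat_lit 462, nat_lit 294, nat_lit 210, nat_lit 252, nat_lit 126, nat_lit 168, nat_lit 210, nat_lit 420, nat_lit 378, nat_lit 336, nat_lit 294, nat_lit 252, nat_lit 210, nat_lit 168, nat_lit 126, nat_lit 84]))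
(.node (nat_lit 24) (.leaf 159 74 [nat_lit 168, nat_lit 210, nat_lit 420, nat_lit 462, nat_lit 252, nat_lit 210, nat_lit 420, nat_lit 294, nat_lit 336, nat_lit 252, nat_lit 294, nat_lit 168, nat_lit 210, nat_lit 252, nat_lit 126, nat_lit 168, nat_lit 210, nat_lit 420, nat_lit 462, nat_lit 294, nat_lit 210, nat_lit 252, nat_lit 126, nat_lit 168, nat_lit 210, nat_lit 420, nat_lit 378, nat_lit 336, nat_lit 294, nat_lit 252, nat_lit 210, nat_lit 168, nat_lit 126, nat_lit 84, nat_lit 126, nat_lit 168, nat_lit 210, nat_lit 252, nat_lit 294, nat_lit 336, nat_lit 378, nat_lit 420, nat_lit 210, nat_lit 168, nat_lit 126, nat_lit 252, nat_lit 210, nat_lit 294, nat_lit 462, nat_lit 420, nat_lit 210, nat_lit 168, nat_lit 126, nat_lit 252, nat_lit 210, nat_lit 168, nat_lit 294, nat_lit 252, nat_lit 336, nat_lit 294, nat_lit 420, nat_lit 210, nat_lit 252, nat_lit 462, nat_lit 420, nat_lit 210, nat_lit 168, nat_lit 126, nat_lit 84, nat_lit 42, nat_lit 84, nat_lit 126, nat_lit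 168, nat_lit 210, nat_lit 420, nat_lit 462, nat_lit 252, nat_lit 210, nat_lit 420, nat_lit 294, nat_lit 336, nat_lit 252, nat_lit 294, nat_lit 168, nat_lit 210, nat_lit 252, nat_lit 126, nat_lit 168, nat_lit 210, nat_lit 420, nat_lit 462, nat_lit 294, nat_lit 210, nat_lit 252, nat_lit 126, nat_lit 168, nat_lit 210, nat_lit 420, nat_lit 378, nat_lit 336, nat_lit 294, nat_lit 252, nat_lit 210, nat_lit 168, nat_lit 126, nat_lit 84, nat_lit 126, nat_lit 168, nat_lit 210, nat_lit 252, nat_lit 294, nat_lit 336, nat_lit 378, nat_lit 420, nat_lit 210, nat_lit 168, nat_lit 126, nat_lit 252, nat_lit 210, nat_lit 294, nat_lit 462, nat_lit 420, nat_lit 210, nat_lit 168, nat_lit 126, nat_lit 252, nat_lit 210, nat_lit 168, nat_lit 294, nat_lit 252, nat_lit 336, nat_lit 294, nat_lit 420, nat_lit 210, nat_lit 252, nat_lit 462, nat_lit 420, nat_lit 210, nat_lit 168, nat_lit 126, nat_lit 84, nat_lit 42, nat_lit 84])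
(.node (nat_lit 25) (.leaf 159 127 [nat_lit 252, nat_lit 210, nat_lit 168, nat_lit 294, nat_lit 252, nat_lit 336, nat_lit 294, nat_lit 420, nat_lit 210, nat_lit 252, nat_lit 462, nat_lit 420, nat_lit 210, nat_lit 168, nat_lit 126, nat_lit 84, nat_lit 42, nat_lit 84, nat_lit 126, nat_lit 168, nat_lit 210, nat_lit 420, nat_lit 462, nat_lit 252, nat_lit 210, nat_lit 420, nat_lit 294, nat_lit 336, nat_lit 252, nat_lit 294, nat_lit 168, nat_lit 210, nat_lit 252, nat_lit 126, nat_lit 168, nat_lit 210, nat_lit 420, nat_lit 462, nat_lit 294, nat_lit 210, nat_lit 252, nat_lit 126, nat_lit 168, nat_lit 210, nat_lit 420, nat_lit 378, nat_lit 336, nat_lit 294, nat_lit 252, nat_lit 210, nat_lit 168, nat_lit 126, nat_lit 84, nat_lit 126, nat_lit 168, nat_lit 210, nat_lit 252, nat_lit 294, nat_lit 336, nat_lit 378, nat_lit 420, nat_lit 210, nat_lit 168, nat_lit 126, nat_lit 252, nat_lit 210, nat_lit 294, nat_lit 462, nat_lit 420, nat_lit 210, nat_lit 168, nat_lit 126, nat_lit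 252, nat_lit 210, nat_lit 168, nat_lit 294, nat_lit 252, nat_lit 336, nat_lit 294, nat_lit 420, nat_lit 210, nat_lit 252, nat_lit 462, nat_lit 420, nat_lit 210, nat_lit 168, nat_lit 126, nat_lit 84, nat_lit 42, nat_lit 84, nat_lit 126, nat_lit 168, nat_lit 210, nat_lit 420, nat_lit 462, nat_lit 252, nat_lit 210, nat_lit 420, nat_lit 294, nat_lit 336, nat_lit 252, nat_lit 294, nat_lit 168, nat_lit 210, nat_lit 252, nat_lit 126, nat_lit 168, nat_lit 210, nat_lit 420, nat_lit 462, nat_lit 294, nat_lit 210, nat_lit 252, nat_lit 126, nat_lit 168, nat_lit 210, nat_lit 420, nat_lit 378, nat_lit 336, nat_lit 294, nat_lit 252, nat_lit 210, nat_lit 168, nat_lit 126, nat_lit 84, nat_lit 126, nat_lit 168, nat_lit 210, nat_lit 252, nat_lit 294, nat_lit 336, nat_lit 378, nat_lit 420, nat_lit 210, nat_lit 168, nat_lit 126, nat_lit 252, nat_lit 210, nat_lit 294, nat_lit 462, nat_lit 420, nat_lit 210, nat_lit 168])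
(.leaf 159 119 [nat_lit 252, nat_lit 210, nat_lit 294, nat_lit 462, nat_lit 420, nat_lit 210, nat_lit 168, nat_lit 126, nat_lit 252, nat_lit 210, nat_lit 168, nat_lit 294, nat_lit 252, nat_lit 336, nat_lit 294, nat_lit 420, nat_lit 210, nat_lit 252, nat_lit 462, nat_lit 420, nat_lit 210, nat_lit 168, nat_lit 126, nat_lit 84, nat_lit 42, nat_lit 84, nat_lit 126, nat_lit 168, nat_lit 210, nat_lit 420, nat_lit 462, nat_lit 252, nat_lit 210, nat_lit 420, nat_lit 294, nat_lit 336, nat_lit 252, nat_lit 294, nat_lit 168, nat_lit 210, nat_lit 252, nat_lit 126, nat_lit 168, nat_lit 210, nat_lit 420, nat_lit 462, nat_lit 294, nat_lit 210, nat_lit 252, nat_lit 126, nat_lit 168, nat_lit 210, nat_lit 420, nat_lit 378, nat_lit 336, nat_lit 294, nat_lit 252, nat_lit 210, nat_lit 168, nat_lit 126, nat_lit 84, nat_lit 126, nat_lit 168, nat_lit 210, nat_lit 252, nat_lit 294, nat_lit 336, nat_lit 378, nat_lit 420, nat_lit 210, nat_lit 168, nat_lit 126, nat_lit 252, nat_lit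 210, nat_lit 294, nat_lit 462, nat_lit 420, nat_lit 210, nat_lit 168, nat_lit 126, nat_lit 252, nat_lit 210, nat_lit 168, nat_lit 294, nat_lit 252, nat_lit 336, nat_lit 294, nat_lit 420, nat_lit 210, nat_lit 252, nat_lit 462, nat_lit 420, nat_lit 210, nat_lit 168, nat_lit 126, nat_lit 84, nat_lit 42, nat_lit 84, nat_lit 126, nat_lit 168, nat_lit 210, nat_lit 420, nat_lit 462, nat_lit 252, nat_lit 210, nat_lit 420, nat_lit 294, nat_lit 336, nat_lit 252, nat_lit 294, nat_lit 168, nat_lit 210, nat_lit 252, nat_lit 126, nat_lit 168, nat_lit 210, nat_lit 420, nat_lit 462, nat_lit 294, nat_lit 210, nat_lit 252, nat_lit 126, nat_lit 168, nat_lit 210, nat_lit 420, nat_lit 378, nat_lit 336, nat_lit 294, nat_lit 252, nat_lit 210, nat_lit 168, nat_lit 126, nat_lit 84, nat_lit 126, nat_lit 168, nat_lit 210, nat_lit 252, nat_lit 294, nat_lit 336, nat_lit 378, nat_lit 420, nat_lit 210, nat_lit 168]))))))))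
(.leaf 0 0 [])))))
noncomputable def wt4 : LT := (.node (nat_lit 2) (.node (nat_lit 0) (.leaf 113 0 [nat_lit 462, nat_lit 168, nat_lit 462])
(.node (nat_lit 1) (.leaf 31 3 [nat_lit 0, nat_lit 168, nat_lit 0])
(.leaf 111 0 [nat_lit 420, nat_lit 168, nat_lit 420])))
(.node (nat_lit 6) (.node (nat_lit 4) (.node (nat_lit 3) (.leaf 51 3 [nat_lit 42, nat_lit 168, nat_lit 42])
(.leaf 109 0 [nat_lit 378, nat_lit 168, nat_lit 378]))
(.node (nat_lit 5) (.leaf 69 3 [nat_lit 84, nat_lit 168, nat_lit 84])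
(.leaf 107 0 [nat_lit 336, nat_lit 168, nat_lit 336])))
(.node (nat_lit 9) (.node (nat_lit 7) (.leaf 105 0 [nat_lit 294, nat_lit 168, nat_lit 294])
(.node (nat_lit 8) (.leaf 103 0 [nat_lit 252, nat_lit 168, nat_lit 252])
(.leaf 85 5 [nat_lit 126, nat_lit 168, nat_lit 126, nat_lit 168, nat_lit 126])))
(.node (nat_lit 32) (.node (nat_lit 10) (.leaf 101 0 [nat_lit 210, nat_lit 168, nat_lit 210, nat_lit 168, nat_lit 210])
(.node (nat_lit 15) (.node (nat_lit 12) (.node (nat_lit 11) (.leaf 157 61 [nat_lit 126, nat_lit 84, nat_lit 0, nat_lit 210, nat_lit 420, nat_lit 252, nat_lit 210, nat_lit 168, nat_lit 210, nat_lit 252, nat_lit 420, nat_lit 210, nat_lit 420, nat_lit 252, nat_lit 168, nat_lit 294, nat_lit 252, nat_lit 210, nat_lit 420, nat_lit 168, nat_lit 210, nat_lit 252, nat_lit 126, nat_lit 168, nat_lit 210, nat_lit 420, nat_lit 294, nat_lit 252, nat_lit 210, nat_lit 168, nat_lit 126, nat_lit 84, nat_lit 126, nat_lit 168, nat_lit 210, nat_lit 252, nat_lit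 294, nat_lit 420, nat_lit 210, nat_lit 168, nat_lit 126, nat_lit 252, nat_lit 210, nat_lit 168, nat_lit 420, nat_lit 210, nat_lit 252, nat_lit 294, nat_lit 126, nat_lit 168, nat_lit 210, nat_lit 420, nat_lit 252, nat_lit 210, nat_lit 168, nat_lit 126, nat_lit 84, nat_lit 126, nat_lit 168, nat_lit 210, nat_lit 252, nat_lit 420, nat_lit 210])
(.leaf 157 37 [nat_lit 126, nat_lit 252, nat_lit 210, nat_lit 168, nat_lit 420, nat_lit 210, nat_lit 252, nat_lit 294, nat_lit 126, nat_lit 168, nat_lit 210, nat_lit 420, nat_lit 252, nat_lit 210, nat_lit 168, nat_lit 126, nat_lit 84, nat_lit 126, nat_lit 168, nat_lit 210, nat_lit 252, nat_lit 420, nat_lit 210, nat_lit 168, nat_lit 126, nat_lit 84, nat_lit 0, nat_lit 210, nat_lit 420, nat_lit 252, nat_lit 210, nat_lit 168, nat_lit 210, nat_lit 252, nat_lit 420, nat_lit 210, nat_lit 420, nat_lit 252, nat_lit 168, nat_lit 294, nat_lit 252, nat_lit 210, nat_lit 420, nat_lit 168, nat_lit 210, nat_lit 252, nat_lit 126, nat_lit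 168, nat_lit 210, nat_lit 420, nat_lit 294, nat_lit 252, nat_lit 210, nat_lit 168, nat_lit 126, nat_lit 84, nat_lit 126, nat_lit 168, nat_lit 210, nat_lit 252, nat_lit 294, nat_lit 420, nat_lit 210]))
(.node (nat_lit 13) (.leaf 157 41 [nat_lit 420, nat_lit 210, nat_lit 252, nat_lit 294, nat_lit 126, nat_lit 168, nat_lit 210, nat_lit 420, nat_lit 252, nat_lit 210, nat_lit 168, nat_lit 126, nat_lit 84, nat_lit 126, nat_lit 168, nat_lit 210, nat_lit 252, nat_lit 420, nat_lit 210, nat_lit 168, nat_lit 126, nat_lit 84, nat_lit 0, nat_lit 210, nat_lit 420, nat_lit 252, nat_lit 210, nat_lit 168, nat_lit 210, nat_lit 252, nat_lit 420, nat_lit 210, nat_lit 420, nat_lit 252, nat_lit 168, nat_lit 294, nat_lit 252, nat_lit 210, nat_lit 420, nat_lit 168, nat_lit 210, nat_lit 252, nat_lit 126, nat_lit 168, nat_lit 210, nat_lit 420, nat_lit 294, nat_lit 252, nat_lit 210, nat_lit 168, nat_lit 126, nat_lit 84, nat_lit 126, nat_lit 168, nat_lit 210, nat_lit 252, nat_lit 294,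 nat_lit 420, nat_lit 210, nat_lit 168, nat_lit 126, nat_lit 252, nat_lit 210])
(.node (nat_lit 14) (.leaf 157 56 [nat_lit 210, nat_lit 252, nat_lit 420, nat_lit 210, nat_lit 168, nat_lit 126, nat_lit 84, nat_lit 0, nat_lit 210, nat_lit 420, nat_lit 252, nat_lit 210, nat_lit 168, nat_lit 210, nat_lit 252, nat_lit 420, nat_lit 210, nat_lit 420, nat_lit 252, nat_lit 168, nat_lit 294, nat_lit 252, nat_lit 210, nat_lit 420, nat_lit 168, nat_lit 210, nat_lit 252, nat_lit 126, nat_lit 168, nat_lit 210, nat_lit 420, nat_lit 294, nat_lit 252, nat_lit 210, nat_lit 168, nat_lit 126, nat_lit 84, nat_lit 126, nat_lit 168, nat_lit 210, nat_lit 252, nat_lit 294, nat_lit 420, nat_lit 210, nat_lit 168, nat_lit 126, nat_lit 252, nat_lit 210, nat_lit 168, nat_lit 420, nat_lit 210, nat_lit 252, nat_lit 294, nat_lit 126, nat_lit 168, nat_lit 210, nat_lit 420, nat_lit 252, nat_lit 210, nat_lit 168, nat_lit 126, nat_lit 84, nat_lit 126])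
(.leaf 157 47 [nat_lit 210, nat_lit 420, nat_lit 252, nat_lit 210, nat_lit 168, nat_lit 126, nat_lit 84, nat_lit 126, nat_lit 168, nat_lit 210, nat_lit 252, nat_lit 420, nat_lit 210, nat_lit 168, nat_lit 126, nat_lit 84, nat_lit 0, nat_lit 210, nat_lit 420, nat_lit 252, nat_lit 210, nat_lit 168, nat_lit 210, nat_lit 252, nat_lit 420, nat_lit 210, nat_lit 420, nat_lit 252, nat_lit 168, nat_lit 294, nat_lit 252, nat_lit 210, nat_lit 420, nat_lit 168, nat_lit 210, nat_lit 252, nat_lit 126, nat_lit 168, nat_lit 210, nat_lit 420, nat_lit 294, nat_lit 252, nat_lit 210, nat_lit 168, nat_lit 126, nat_lit 84, nat_lit 126, nat_lit 168, nat_lit 210, nat_lit 252, nat_lit 294, nat_lit 420, nat_lit 210, nat_lit 168, nat_lit 126, nat_lit 252, nat_lit 210, nat_lit 168, nat_lit 420, nat_lit 210, nat_lit 252, nat_lit 294, nat_lit 126]))))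
(.node (nat_lit 18) (.node (nat_lit 16) (.leaf 157 52 [nat_lit 126, nat_lit 84, nat_lit 126, nat_lit 168, nat_lit 210, nat_lit 252, nat_lit 420, nat_lit 210, nat_lit 168, nat_lit 126, nat_lit 84, nat_lit 0, nat_lit 210, nat_lit 420, nat_lit 252, nat_lit 210, nat_lit 168, nat_lit 210, nat_lit 252, nat_lit 420, nat_lit 210, nat_lit 420, nat_lit 252, nat_lit 168, nat_lit 294, nat_lit 252, nat_lit 210, nat_lit 420, nat_lit 168, nat_lit 210, nat_lit 252, nat_lit 126, nat_lit 168, nat_lit 210, nat_lit 420, nat_lit 294, nat_lit 252, nat_lit 210, nat_lit 168, nat_lit 126, nat_lit 84, nat_lit 126, nat_lit 168, nat_lit 210, nat_lit 252, nat_lit 294, nat_lit 420, nat_lit 210, nat_lit 168, nat_lit 126, nat_lit 252, nat_lit 210, nat_lit 168, nat_lit 420, nat_lit 210, nat_lit 252, nat_lit 294, nat_lit 126, nat_lit 168, nat_lit 210, nat_lit 420, nat_lit 252, nat_lit 210])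
(.node (nat_lit 17) (.leaf 157 5 [nat_lit 210, nat_lit 252, nat_lit 420, nat_lit 210, nat_lit 420, nat_lit 252, nat_lit 168, nat_lit 294, nat_lit 252, nat_lit 210, nat_lit 420, nat_lit 168, nat_lit 210, nat_lit 252, nat_lit 126, nat_lit 168, nat_lit 210, nat_lit 420, nat_lit 294, nat_lit 252, nat_lit 210, nat_lit 168, nat_lit 126, nat_lit 84, nat_lit 126, nat_lit 168, nat_lit 210, nat_lit 252, nat_lit 294, nat_lit 420, nat_lit 210, nat_lit 168, nat_lit 126, nat_lit 252, nat_lit 210, nat_lit 168, nat_lit 420, nat_lit 210, nat_lit 252, nat_lit 294, nat_lit 126, nat_lit 168, nat_lit 210, nat_lit 420, nat_lit 252, nat_lit 210, nat_lit 168, nat_lit 126, nat_lit 84, nat_lit 126, nat_lit 168, nat_lit 210, nat_lit 252, nat_lit 420, nat_lit 210, nat_lit 168, nat_lit 126, nat_lit 84, nat_lit 0, nat_lit 210, nat_lit 420, nat_lit 252, nat_lit 210])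
(.leaf 157 17 [nat_lit 210, nat_lit 252, nat_lit 126, nat_lit 168, nat_lit 210, nat_lit 420, nat_lit 294, nat_lit 252, nat_lit 210, nat_lit 168, nat_lit 126, nat_lit 84, nat_lit 126, nat_lit 168, nat_lit 210, nat_lit 252, nat_lit 294, nat_lit 420, nat_lit 210, nat_lit 168, nat_lit 126, nat_lit 252, nat_lit 210, nat_lit 168, nat_lit 420, nat_lit 210, nat_lit 252, nat_lit 294, nat_lit 126, nat_lit 168, nat_lit 210, nat_lit 420, nat_lit 252, nat_lit 210, nat_lit 168, nat_lit 126, nat_lit 84, nat_lit 126, nat_lit 168, nat_lit 210, nat_lit 252, nat_lit 420, nat_lit 210, nat_lit 168, nat_lit 126, nat_lit 84, nat_lit 0, nat_lit 210, nat_lit 420, nat_lit 252, nat_lit 210, nat_lit 168, nat_lit 210, nat_lit 252, nat_lit 420, nat_lit 210, nat_lit 420, nat_lit 252, nat_lit 168, nat_lit 294, nat_lit 252, nat_lit 210, nat_lit 420])))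
(.node (nat_lit 21) (.node (nat_lit 19) (.leaf 157 12 [nat_lit 294, nat_lit 252, nat_lit 210, nat_lit 420, nat_lit 168, nat_lit 210, nat_lit 252, nat_lit 126, nat_lit 168, nat_lit 210, nat_lit 420, nat_lit 294, nat_lit 252, nat_lit 210, nat_lit 168, nat_lit 126, nat_lit 84, nat_lit 126, nat_lit 168, nat_lit 210, nat_lit 252, nat_lit 294, nat_lit 420, nat_lit 210, nat_lit 168, nat_lit 126, nat_lit 252, nat_lit 210, nat_lit 168, nat_lit 420, nat_lit 210, nat_lit 252, nat_lit 294, nat_lit 126, nat_lit 168, nat_lit 210, nat_lit 420, nat_lit 252, nat_lit 210, nat_lit 168, nat_lit 126, nat_lit 84, nat_lit 126, nat_lit 168, nat_lit 210, nat_lit 252, nat_lit 420, nat_lit 210, nat_lit 168, nat_lit 126, nat_lit 84, nat_lit 0, nat_lit 210, nat_lit 420, nat_lit 252, nat_lit 210, nat_lit 168, nat_lit 210, nat_lit 252, nat_lit 420, nat_lit 210, nat_lit 420, nat_lit 252])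
(.node (nat_lit 20) (.leaf 157 21 [nat_lit 210, nat_lit 420, nat_lit 294, nat_lit 252, nat_lit 210, nat_lit 168, nat_lit 126, nat_lit 84, nat_lit 126, nat_lit 168, nat_lit 210, nat_lit 252, nat_lit 294, nat_lit 420, nat_lit 210, nat_lit 168, nat_lit 126, nat_lit 252, nat_lit 210, nat_lit 168, nat_lit 420, nat_lit 210, nat_lit 252, nat_lit 294, nat_lit 126, nat_lit 168, nat_lit 210, nat_lit 420, nat_lit 252, nat_lit 210, nat_lit 168, nat_lit 126, nat_lit 84, nat_lit 126, nat_lit 168, nat_lit 210, nat_lit 252, nat_lit 420, nat_lit 210, nat_lit 168, nat_lit 126, nat_lit 84, nat_lit 0, nat_lit 210, nat_lit 420, nat_lit 252, nat_lit 210, nat_lit 168, nat_lit 210, nat_lit 252, nat_lit 420, nat_lit 210, nat_lit 420, nat_lit 252, nat_lit 168, nat_lit 294, nat_lit 252, nat_lit 210, nat_lit 420, nat_lit 168, nat_lit 210, nat_lit 252, nat_lit 126])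
(.leaf 157 27 [nat_lit 126, nat_lit 84, nat_lit 126, nat_lit 168, nat_lit 210, nat_lit 252, nat_lit 294, nat_lit 420, nat_lit 210, nat_lit 168, nat_lit 126, nat_lit 252, nat_lit 210, nat_lit 168, nat_lit 420, nat_lit 210, nat_lit 252, nat_lit 294, nat_lit 126, nat_lit 168, nat_lit 210, nat_lit 420, nat_lit 252, nat_lit 210, nat_lit 168, nat_lit 126, nat_lit 84, nat_lit 126, nat_lit 168, nat_lit 210, nat_lit 252, nat_lit 420, nat_lit 210, nat_lit 168, nat_lit 126, nat_lit 84, nat_lit 0, nat_lit 210, nat_lit 420, nat_lit 252, nat_lit 210, nat_lit 168, nat_lit 210, nat_lit 252, nat_lit 420, nat_lit 210, nat_lit 420, nat_lit 252, nat_lit 168, nat_lit 294, nat_lit 252, nat_lit 210, nat_lit 420, nat_lit 168, nat_lit 210, nat_lit 252, nat_lit 126, nat_lit 168, nat_lit 210, nat_lit 420, nat_lit 294, nat_lit 252, nat_lit 210])))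
(.node (nat_lit 24) (.node (nat_lit 22) (.leaf 157 31 [nat_lit 210, nat_lit 252, nat_lit 294, nat_lit 420, nat_lit 210, nat_lit 168, nat_lit 126, nat_lit 252, nat_lit 210, nat_lit 168, nat_lit 420, nat_lit 210, nat_lit 252, nat_lit 294, nat_lit 126, nat_lit 168, nat_lit 210, nat_lit 420, nat_lit 252, nat_lit 210, nat_lit 168, nat_lit 126, nat_lit 84, nat_lit 126, nat_lit 168, nat_lit 210, nat_lit 252, nat_lit 420, nat_lit 210, nat_lit 168, nat_lit 126, nat_lit 84, nat_lit 0, nat_lit 210, nat_lit 420, nat_lit 252, nat_lit 210, nat_lit 168, nat_lit 210, nat_lit 252, nat_lit 420, nat_lit 210, nat_lit 420, nat_lit 252, nat_lit 168, nat_lit 294, nat_lit 252, nat_lit 210, nat_lit 420, nat_lit 168, nat_lit 210, nat_lit 252, nat_lit 126, nat_lit 168, nat_lit 210, nat_lit 420, nat_lit 294, nat_lit 252, nat_lit 210, nat_lit 168, nat_lit 126, nat_lit 84, nat_lit 126])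
(.node (nat_lit 23) (.leaf 159 126 [nat_lit 126, nat_lit 252, nat_lit 210, nat_lit 168, nat_lit 294, nat_lit 252, nat_lit 336, nat_lit 294, nat_lit 420, nat_lit 210, nat_lit 252, nat_lit 462, nat_lit 420, nat_lit 210, nat_lit 168, nat_lit 126, nat_lit 84, nat_lit 42, nat_lit 84, nat_lit 126, nat_lit 168, nat_lit 210, nat_lit 420, nat_lit 462, nat_lit 252, nat_lit 210, nat_lit 420, nat_lit 294, nat_lit 336, nat_lit 252, nat_lit 294, nat_lit 168, nat_lit 210, nat_lit 252, nat_lit 126, nat_lit 168, nat_lit 210, nat_lit 420, nat_lit 462, nat_lit 294, nat_lit 210, nat_lit 252, nat_lit 126, nat_lit 168, nat_lit 210, nat_lit 420, nat_lit 378, nat_lit 336, nat_lit 294, nat_lit 252, nat_lit 210, nat_lit 168, nat_lit 126, nat_lit 84, nat_lit 126, nat_lit 168, nat_lit 210, nat_lit 252, nat_lit 294, nat_lit 336, nat_lit 378, nat_lit 420, nat_lit 210, nat_lit 168, nat_lit 126, nat_lit 252, nat_lit 210, nat_lit 294, nat_lit 462, nat_lit 420, nat_lit 210, nat_lit 168, nat_lit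 126, nat_lit 252, nat_lit 210, nat_lit 168, nat_lit 294, nat_lit 252, nat_lit 336, nat_lit 294, nat_lit 420, nat_lit 210, nat_lit 252, nat_lit 462, nat_lit 420, nat_lit 210, nat_lit 168, nat_lit 126, nat_lit 84, nat_lit 42, nat_lit 84, nat_lit 126, nat_lit 168, nat_lit 210, nat_lit 420, nat_lit 462, nat_lit 252, nat_lit 210, nat_lit 420, nat_lit 294, nat_lit 336, nat_lit 252, nat_lit 294, nat_lit 168, nat_lit 210, nat_lit 252, nat_lit 126, nat_lit 168, nat_lit 210, nat_lit 420, nat_lit 462, nat_lit 294, nat_lit 210, nat_lit 252, nat_lit 126, nat_lit 168, nat_lit 210, nat_lit 420, nat_lit 378, nat_lit 336, nat_lit 294, nat_lit 252, nat_lit 210, nat_lit 168, nat_lit 126, nat_lit 84, nat_lit 126, nat_lit 168, nat_lit 210, nat_lit 252, nat_lit 294, nat_lit 336, nat_lit 378, nat_lit 420, nat_lit 210, nat_lit 168, nat_lit 126, nat_lit 252, nat_lit 210, nat_lit 294, nat_lit 462, nat_lit 420, nat_lit 210])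
(.leaf 159 118 [nat_lit 126, nat_lit 252, nat_lit 210, nat_lit 294, nat_lit 462, nat_lit 420, nat_lit 210, nat_lit 168, nat_lit 126, nat_lit 252, nat_lit 210, nat_lit 168, nat_lit 294, nat_lit 252, nat_lit 336, nat_lit 294, nat_lit 420, nat_lit 210, nat_lit 252, nat_lit 462, nat_lit 420, nat_lit 210, nat_lit 168, nat_lit 126, nat_lit 84, nat_lit 42, nat_lit 84, nat_lit 126, nat_lit 168, nat_lit 210, nat_lit 420, nat_lit 462, nat_lit 252, nat_lit 210, nat_lit 420, nat_lit 294, nat_lit 336, nat_lit 252, nat_lit 294, nat_lit 168, nat_lit 210, nat_lit 252, nat_lit 126, nat_lit 168, nat_lit 210, nat_lit 420, nat_lit 462, nat_lit 294, nat_lit 210, nat_lit 252, nat_lit 126, nat_lit 168, nat_lit 210, nat_lit 420, nat_lit 378, nat_lit 336, nat_lit 294, nat_lit 252, nat_lit 210, nat_lit 168, nat_lit 126, nat_lit 84, nat_lit 126, nat_lit 168, nat_lit 210, nat_lit 252, nat_lit 294, nat_lit 336, nat_lit 378, nat_lit 420, nat_lit 210, nat_lit 168, nat_lit 126, nat_lit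 252, nat_lit 210, nat_lit 294, nat_lit 462, nat_lit 420, nat_lit 210, nat_lit 168, nat_lit 126, nat_lit 252, nat_lit 210, nat_lit 168, nat_lit 294, nat_lit 252, nat_lit 336, nat_lit 294, nat_lit 420, nat_lit 210, nat_lit 252, nat_lit 462, nat_lit 420, nat_lit 210, nat_lit 168, nat_lit 126, nat_lit 84, nat_lit 42, nat_lit 84, nat_lit 126, nat_lit 168, nat_lit 210, nat_lit 420, nat_lit 462, nat_lit 252, nat_lit 210, nat_lit 420, nat_lit 294, nat_lit 336, nat_lit 252, nat_lit 294, nat_lit 168, nat_lit 210, nat_lit 252, nat_lit 126, nat_lit 168, nat_lit 210, nat_lit 420, nat_lit 462, nat_lit 294, nat_lit 210, nat_lit 252, nat_lit 126, nat_lit 168, nat_lit 210, nat_lit 420, nat_lit 378, nat_lit 336, nat_lit 294, nat_lit 252, nat_lit 210, nat_lit 168, nat_lit 126, nat_lit 84, nat_lit 126, nat_lit 168, nat_lit 210, nat_lit 252, nat_lit 294, nat_lit 336, nat_lit 378, nat_lit 420, nat_lit 210])))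
(.node (nat_lit 26) (.node (nat_lit 25) (.leaf 159 86 [nat_lit 210, nat_lit 252, nat_lit 126, nat_lit 168, nat_lit 210, nat_lit 420, nat_lit 462, nat_lit 294, nat_lit 210, nat_lit 252, nat_lit 126, nat_lit 168, nat_lit 210, nat_lit 420, nat_lit 378, nat_lit 336, nat_lit 294, nat_lit 252, nat_lit 210, nat_lit 168, nat_lit 126, nat_lit 84, nat_lit 126, nat_lit 168, nat_lit 210, nat_lit 252, nat_lit 294, nat_lit 336, nat_lit 378, nat_lit 420, nat_lit 210, nat_lit 168, nat_lit 126, nat_lit 252, nat_lit 210, nat_lit 294, nat_lit 462, nat_lit 420, nat_lit 210, nat_lit 168, nat_lit 126, nat_lit 252, nat_lit 210, nat_lit 168, nat_lit 294, nat_lit 252, nat_lit 336, nat_lit 294, nat_lit 420, nat_lit 210, nat_lit 252, nat_lit 462, nat_lit 420, nat_lit 210, nat_lit 168, nat_lit 126, nat_lit 84, nat_lit 42, nat_lit 84, nat_lit 126, nat_lit 168, nat_lit 210, nat_lit 420, nat_lit 462, nat_lit 252, nat_lit 210, nat_lit 420, nat_lit 294, nat_lit 336, nat_lit 252, nat_lit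 294, nat_lit 168, nat_lit 210, nat_lit 252, nat_lit 126, nat_lit 168, nat_lit 210, nat_lit 420, nat_lit 462, nat_lit 294, nat_lit 210, nat_lit 252, nat_lit 126, nat_lit 168, nat_lit 210, nat_lit 420, nat_lit 378, nat_lit 336, nat_lit 294, nat_lit 252, nat_lit 210, nat_lit 168, nat_lit 126, nat_lit 84, nat_lit 126, nat_lit 168, nat_lit 210, nat_lit 252, nat_lit 294, nat_lit 336, nat_lit 378, nat_lit 420, nat_lit 210, nat_lit 168, nat_lit 126, nat_lit 252, nat_lit 210, nat_lit 294, nat_lit 462, nat_lit 420, nat_lit 210, nat_lit 168, nat_lit 126, nat_lit 252, nat_lit 210, nat_lit 168, nat_lit 294, nat_lit 252, nat_lit 336, nat_lit 294, nat_lit 420, nat_lit 210, nat_lit 252, nat_lit 462, nat_lit 420, nat_lit 210, nat_lit 168, nat_lit 126, nat_lit 84, nat_lit 42, nat_lit 84, nat_lit 126, nat_lit 168, nat_lit 210, nat_lit 420, nat_lit 462, nat_lit 252, nat_lit 210, nat_lit 420, nat_lit 294, nat_lit 336, nat_lit 252, nat_lit 294])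
(.leaf 159 98 [nat_lit 210, nat_lit 420, nat_lit 378, nat_lit 336, nat_lit 294, nat_lit 252, nat_lit 210, nat_lit 168, nat_lit 126, nat_lit 84, nat_lit 126, nat_lit 168, nat_lit 210, nat_lit 252, nat_lit 294, nat_lit 336, nat_lit 378, nat_lit 420, nat_lit 210, nat_lit 168, nat_lit 126, nat_lit 252, nat_lit 210, nat_lit 294, nat_lit 462, nat_lit 420, nat_lit 210, nat_lit 168, nat_lit 126, nat_lit 252, nat_lit 210, nat_lit 168, nat_lit 294, nat_lit 252, nat_lit 336, nat_lit 294, nat_lit 420, nat_lit 210, nat_lit 252, nat_lit 462, nat_lit 420, nat_lit 210, nat_lit 168, nat_lit 126, nat_lit 84, nat_lit 42, nat_lit 84, nat_lit 126, nat_lit 168, nat_lit 210, nat_lit 420, nat_lit 462, nat_lit 252, nat_lit 210, nat_lit 420, nat_lit 294, nat_lit 336, nat_lit 252, nat_lit 294, nat_lit 168, nat_lit 210, nat_lit 252, nat_lit 126, nat_lit 168, nat_lit 210, nat_lit 420, nat_lit 462, nat_lit 294, nat_lit 210, nat_lit 252, nat_lit 126, nat_lit 168, nat_lit 210, nat_lit 420,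 nat_lit 378, nat_lit 336, nat_lit 294, nat_lit 252, nat_lit 210, nat_lit 168, nat_lit 126, nat_lit 84, nat_lit 126, nat_lit 168, nat_lit 210, nat_lit 252, nat_lit 294, nat_lit 336, nat_lit 378, nat_lit 420, nat_lit 210, nat_lit 168, nat_lit 126, nat_lit 252, nat_lit 210, nat_lit 294, nat_lit 462, nat_lit 420, nat_lit 210, nat_lit 168, nat_lit 126, nat_lit 252, nat_lit 210, nat_lit 168, nat_lit 294, nat_lit 252, nat_lit 336, nat_lit 294, nat_lit 420, nat_lit 210, nat_lit 252, nat_lit 462, nat_lit 420, nat_lit 210, nat_lit 168, nat_lit 126, nat_lit 84, nat_lit 42, nat_lit 84, nat_lit 126, nat_lit 168, nat_lit 210, nat_lit 420, nat_lit 462, nat_lit 252, nat_lit 210, nat_lit 420, nat_lit 294, nat_lit 336, nat_lit 252, nat_lit 294, nat_lit 168, nat_lit 210, nat_lit 252, nat_lit 126, nat_lit 168, nat_lit 210, nat_lit 420, nat_lit 462, nat_lit 294, nat_lit 210, nat_lit 252, nat_lit 126]))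
(.node (nat_lit 28) (.node (nat_lit 27) (.leaf 159 90 [nat_lit 210, nat_lit 420, nat_lit 462, nat_lit 294, nat_lit 210, nat_lit 252, nat_lit 126, nat_lit 168, nat_lit 210, nat_lit 420, nat_lit 378, nat_lit 336, nat_lit 294, nat_lit 252, nat_lit 210, nat_lit 168, nat_lit 126, nat_lit 84, nat_lit 126, nat_lit 168, nat_lit 210, nat_lit 252, nat_lit 294, nat_lit 336, nat_lit 378, nat_lit 420, nat_lit 210, nat_lit 168, nat_lit 126, nat_lit 252, nat_lit 210, nat_lit 294, nat_lit 462, nat_lit 420, nat_lit 210, nat_lit 168, nat_lit 126, nat_lit 252, nat_lit 210, nat_lit 168, nat_lit 294, nat_lit 252, nat_lit 336, nat_lit 294, nat_lit 420, nat_lit 210, nat_lit 252, nat_lit 462, nat_lit 420, nat_lit 210, nat_lit 168, nat_lit 126, nat_lit 84, nat_lit 42, nat_lit 84, nat_lit 126, nat_lit 168, nat_lit 210, nat_lit 420, nat_lit 462, nat_lit 252, nat_lit 210, nat_lit 420, nat_lit 294, nat_lit 336, nat_lit 252, nat_lit 294, nat_lit 168, nat_lit 210, nat_lit 252, nat_lit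 126, nat_lit 168, nat_lit 210, nat_lit 420, nat_lit 462, nat_lit 294, nat_lit 210, nat_lit 252, nat_lit 126, nat_lit 168, nat_lit 210, nat_lit 420, nat_lit 378, nat_lit 336, nat_lit 294, nat_lit 252, nat_lit 210, nat_lit 168, nat_lit 126, nat_lit 84, nat_lit 126, nat_lit 168, nat_lit 210, nat_lit 252, nat_lit 294, nat_lit 336, nat_lit 378, nat_lit 420, nat_lit 210, nat_lit 168, nat_lit 126, nat_lit 252, nat_lit 210, nat_lit 294, nat_lit 462, nat_lit 420, nat_lit 210, nat_lit 168, nat_lit 126, nat_lit 252, nat_lit 210, nat_lit 168, nat_lit 294, nat_lit 252, nat_lit 336, nat_lit 294, nat_lit 420, nat_lit 210, nat_lit 252, nat_lit 462, nat_lit 420, nat_lit 210, nat_lit 168, nat_lit 126, nat_lit 84, nat_lit 42, nat_lit 84, nat_lit 126, nat_lit 168, nat_lit 210, nat_lit 420, nat_lit 462, nat_lit 252, nat_lit 210, nat_lit 420, nat_lit 294, nat_lit 336, nat_lit 252, nat_lit 294, nat_lit 168, nat_lit 210, nat_lit 252, nat_lit 126])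
(.leaf 159 141 [nat_lit 126, nat_lit 84, nat_lit 42, nat_lit 84, nat_lit 126, nat_lit 168, nat_lit 210, nat_lit 420, nat_lit 462, nat_lit 252, nat_lit 210, nat_lit 420, nat_lit 294, nat_lit 336, nat_lit 252, nat_lit 294, nat_lit 168, nat_lit 210, nat_lit 252, nat_lit 126, nat_lit 168, nat_lit 210, nat_lit 420, nat_lit 462, nat_lit 294, nat_lit 210, nat_lit 252, nat_lit 126, nat_lit 168, nat_lit 210, nat_lit 420, nat_lit 378, nat_lit 336, nat_lit 294, nat_lit 252, nat_lit 210, nat_lit 168, nat_lit 126, nat_lit 84, nat_lit 126, nat_lit 168, nat_lit 210, nat_lit 252, nat_lit 294, nat_lit 336, nat_lit 378, nat_lit 420, nat_lit 210, nat_lit 168, nat_lit 126, nat_lit 252, nat_lit 210, nat_lit 294, nat_lit 462, nat_lit 420, nat_lit 210, nat_lit 168, nat_lit 126, nat_lit 252, nat_lit 210, nat_lit 168, nat_lit 294, nat_lit 252, nat_lit 336, nat_lit 294, nat_lit 420, nat_lit 210, nat_lit 252, nat_lit 462, nat_lit 420, nat_lit 210, nat_lit 168, nat_lit 126, nat_lit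 84, nat_lit 42, nat_lit 84, nat_lit 126, nat_lit 168, nat_lit 210, nat_lit 420, nat_lit 462, nat_lit 252, nat_lit 210, nat_lit 420, nat_lit 294, nat_lit 336, nat_lit 252, nat_lit 294, nat_lit 168, nat_lit 210, nat_lit 252, nat_lit 126, nat_lit 168, nat_lit 210, nat_lit 420, nat_lit 462, nat_lit 294, nat_lit 210, nat_lit 252, nat_lit 126, nat_lit 168, nat_lit 210, nat_lit 420, nat_lit 378, nat_lit 336, nat_lit 294, nat_lit 252, nat_lit 210, nat_lit 168, nat_lit 126, nat_lit 84, nat_lit 126, nat_lit 168, nat_lit 210, nat_lit 252, nat_lit 294, nat_lit 336, nat_lit 378, nat_lit 420, nat_lit 210, nat_lit 168, nat_lit 126, nat_lit 252, nat_lit 210, nat_lit 294, nat_lit 462, nat_lit 420, nat_lit 210, nat_lit 168, nat_lit 126, nat_lit 252, nat_lit 210, nat_lit 168, nat_lit 294, nat_lit 252, nat_lit 336, nat_lit 294, nat_lit 420, nat_lit 210, nat_lit 252, nat_lit 462, nat_lit 420, nat_lit 210]))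
(.node (nat_lit 29) (.leaf 159 106 [nat_lit 126, nat_lit 84, nat_lit 126, nat_lit 168, nat_lit 210, nat_lit 252, nat_lit 294, nat_lit 336, nat_lit 378, nat_lit 420, nat_lit 210, nat_lit 168, nat_lit 126, nat_lit 252, nat_lit 210, nat_lit 294, nat_lit 462, nat_lit 420, nat_lit 210, nat_lit 168, nat_lit 126, nat_lit 252, nat_lit 210, nat_lit 168, nat_lit 294, nat_lit 252, nat_lit 336, nat_lit 294, nat_lit 420, nat_lit 210, nat_lit 252, nat_lit 462, nat_lit 420, nat_lit 210, nat_lit 168, nat_lit 126, nat_lit 84, nat_lit 42, nat_lit 84, nat_lit 126, nat_lit 168, nat_lit 210, nat_lit 420, nat_lit 462, nat_lit 252, nat_lit 210, nat_lit 420, nat_lit 294, nat_lit 336, nat_lit 252, nat_lit 294, nat_lit 168, nat_lit 210, nat_lit 252, nat_lit 126, nat_lit 168, nat_lit 210, nat_lit 420, nat_lit 462, nat_lit 294, nat_lit 210, nat_lit 252, nat_lit 126, nat_lit 168, nat_lit 210, nat_lit 420, nat_lit 378, nat_lit 336, nat_lit 294, nat_lit 252, nat_lit 210, nat_lit 168, nat_lit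 126, nat_lit 84, nat_lit 126, nat_lit 168, nat_lit 210, nat_lit 252, nat_lit 294, nat_lit 336, nat_lit 378, nat_lit 420, nat_lit 210, nat_lit 168, nat_lit 126, nat_lit 252, nat_lit 210, nat_lit 294, nat_lit 462, nat_lit 420, nat_lit 210, nat_lit 168, nat_lit 126, nat_lit 252, nat_lit 210, nat_lit 168, nat_lit 294, nat_lit 252, nat_lit 336, nat_lit 294, nat_lit 420, nat_lit 210, nat_lit 252, nat_lit 462, nat_lit 420, nat_lit 210, nat_lit 168, nat_lit 126, nat_lit 84, nat_lit 42, nat_lit 84, nat_lit 126, nat_lit 168, nat_lit 210, nat_lit 420, nat_lit 462, nat_lit 252, nat_lit 210, nat_lit 420, nat_lit 294, nat_lit 336, nat_lit 252, nat_lit 294, nat_lit 168, nat_lit 210, nat_lit 252, nat_lit 126, nat_lit 168, nat_lit 210, nat_lit 420, nat_lit 462, nat_lit 294, nat_lit 210, nat_lit 252, nat_lit 126, nat_lit 168, nat_lit 210, nat_lit 420, nat_lit 378, nat_lit 336, nat_lit 294, nat_lit 252, nat_lit 210])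
(.node (nat_lit 30) (.leaf 159 130 [nat_lit 294, nat_lit 252, nat_lit 336, nat_lit 294, nat_lit 420, nat_lit 210, nat_lit 252, nat_lit 462, nat_lit 420, nat_lit 210, nat_lit 168, nat_lit 126, nat_lit 84, nat_lit 42, nat_lit 84, nat_lit 126, nat_lit 168, nat_lit 210, nat_lit 420, nat_lit 462, nat_lit 252, nat_lit 210, nat_lit 420, nat_lit 294, nat_lit 336, nat_lit 252, nat_lit 294, nat_lit 168, nat_lit 210, nat_lit 252, nat_lit 126, nat_lit 168, nat_lit 210, nat_lit 420, nat_lit 462, nat_lit 294, nat_lit 210, nat_lit 252, nat_lit 126, nat_lit 168, nat_lit 210, nat_lit 420, nat_lit 378, nat_lit 336, nat_lit 294, nat_lit 252, nat_lit 210, nat_lit 168, nat_lit 126, nat_lit 84, nat_lit 126, nat_lit 168, nat_lit 210, nat_lit 252, nat_lit 294, nat_lit 336, nat_lit 378, nat_lit 420, nat_lit 210, nat_lit 168, nat_lit 126, nat_lit 252, nat_lit 210, nat_lit 294, nat_lit 462, nat_lit 420, nat_lit 210, nat_lit 168, nat_lit 126, nat_lit 252, nat_lit 210, nat_lit 168, nat_lit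 294, nat_lit 252, nat_lit 336, nat_lit 294, nat_lit 420, nat_lit 210, nat_lit 252, nat_lit 462, nat_lit 420, nat_lit 210, nat_lit 168, nat_lit 126, nat_lit 84, nat_lit 42, nat_lit 84, nat_lit 126, nat_lit 168, nat_lit 210, nat_lit 420, nat_lit 462, nat_lit 252, nat_lit 210, nat_lit 420, nat_lit 294, nat_lit 336, nat_lit 252, nat_lit 294, nat_lit 168, nat_lit 210, nat_lit 252, nat_lit 126, nat_lit 168, nat_lit 210, nat_lit 420, nat_lit 462, nat_lit 294, nat_lit 210, nat_lit 252, nat_lit 126, nat_lit 168, nat_lit 210, nat_lit 420, nat_lit 378, nat_lit 336, nat_lit 294, nat_lit 252, nat_lit 210, nat_lit 168, nat_lit 126, nat_lit 84, nat_lit 126, nat_lit 168, nat_lit 210, nat_lit 252, nat_lit 294, nat_lit 336, nat_lit 378, nat_lit 420, nat_lit 210, nat_lit 168, nat_lit 126, nat_lit 252, nat_lit 210, nat_lit 294, nat_lit 462, nat_lit 420, nat_lit 210, nat_lit 168, nat_lit 126, nat_lit 252, nat_lit 210])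
(.node (nat_lit 31) (.leaf 159 75 [nat_lit 210, nat_lit 420, nat_lit 462, nat_lit 252, nat_lit 210, nat_lit 420, nat_lit 294, nat_lit 336, nat_lit 252, nat_lit 294, nat_lit 168, nat_lit 210, nat_lit 252, nat_lit 126, nat_lit 168, nat_lit 210, nat_lit 420, nat_lit 462, nat_lit 294, nat_lit 210, nat_lit 252, nat_lit 126, nat_lit 168, nat_lit 210, nat_lit 420, nat_lit 378, nat_lit 336, nat_lit 294, nat_lit 252, nat_lit 210, nat_lit 168, nat_lit 126, nat_lit 84, nat_lit 126, nat_lit 168, nat_lit 210, nat_lit 252, nat_lit 294, nat_lit 336, nat_lit 378, nat_lit 420, nat_lit 210, nat_lit 168, nat_lit 126, nat_lit 252, nat_lit 210, nat_lit 294, nat_lit 462, nat_lit 420, nat_lit 210, nat_lit 168, nat_lit 126, nat_lit 252, nat_lit 210, nat_lit 168, nat_lit 294, nat_lit 252, nat_lit 336, nat_lit 294, nat_lit 420, nat_lit 210, nat_lit 252, nat_lit 462, nat_lit 420, nat_lit 210, nat_lit 168, nat_lit 126, nat_lit 84, nat_lit 42, nat_lit 84, nat_lit 126, nat_lit 168, nat_lit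 210, nat_lit 420, nat_lit 462, nat_lit 252, nat_lit 210, nat_lit 420, nat_lit 294, nat_lit 336, nat_lit 252, nat_lit 294, nat_lit 168, nat_lit 210, nat_lit 252, nat_lit 126, nat_lit 168, nat_lit 210, nat_lit 420, nat_lit 462, nat_lit 294, nat_lit 210, nat_lit 252, nat_lit 126, nat_lit 168, nat_lit 210, nat_lit 420, nat_lit 378, nat_lit 336, nat_lit 294, nat_lit 252, nat_lit 210, nat_lit 168, nat_lit 126, nat_lit 84, nat_lit 126, nat_lit 168, nat_lit 210, nat_lit 252, nat_lit 294, nat_lit 336, nat_lit 378, nat_lit 420, nat_lit 210, nat_lit 168, nat_lit 126, nat_lit 252, nat_lit 210, nat_lit 294, nat_lit 462, nat_lit 420, nat_lit 210, nat_lit 168, nat_lit 126, nat_lit 252, nat_lit 210, nat_lit 168, nat_lit 294, nat_lit 252, nat_lit 336, nat_lit 294, nat_lit 420, nat_lit 210, nat_lit 252, nat_lit 462, nat_lit 420, nat_lit 210, nat_lit 168, nat_lit 126, nat_lit 84, nat_lit 42, nat_lit 84, nat_lit 126])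
(.leaf 159 110 [nat_lit 210, nat_lit 252, nat_lit 294, nat_lit 336, nat_lit 378, nat_lit 420, nat_lit 210, nat_lit 168, nat_lit 126, nat_lit 252, nat_lit 210, nat_lit 294, nat_lit 462, nat_lit 420, nat_lit 210, nat_lit 168, nat_lit 126, nat_lit 252, nat_lit 210, nat_lit 168, nat_lit 294, nat_lit 252, nat_lit 336, nat_lit 294, nat_lit 420, nat_lit 210, nat_lit 252, nat_lit 462, nat_lit 420, nat_lit 210, nat_lit 168, nat_lit 126, nat_lit 84, nat_lit 42, nat_lit 84, nat_lit 126, nat_lit 168, nat_lit 210, nat_lit 420, nat_lit 462, nat_lit 252, nat_lit 210, nat_lit 420, nat_lit 294, nat_lit 336, nat_lit 252, nat_lit 294, nat_lit 168, nat_lit 210, nat_lit 252, nat_lit 126, nat_lit 168, nat_lit 210, nat_lit 420, nat_lit 462, nat_lit 294, nat_lit 210, nat_lit 252, nat_lit 126, nat_lit 168, nat_lit 210, nat_lit 420, nat_lit 378, nat_lit 336, nat_lit 294, nat_lit 252, nat_lit 210, nat_lit 168, nat_lit 126, nat_lit 84, nat_lit 126, nat_lit 168, nat_lit 210, nat_lit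 252, nat_lit 294, nat_lit 336, nat_lit 378, nat_lit 420, nat_lit 210, nat_lit 168, nat_lit 126, nat_lit 252, nat_lit 210, nat_lit 294, nat_lit 462, nat_lit 420, nat_lit 210, nat_lit 168, nat_lit 126, nat_lit 252, nat_lit 210, nat_lit 168, nat_lit 294, nat_lit 252, nat_lit 336, nat_lit 294, nat_lit 420, nat_lit 210, nat_lit 252, nat_lit 462, nat_lit 420, nat_lit 210, nat_lit 168, nat_lit 126, nat_lit 84, nat_lit 42, nat_lit 84, nat_lit 126, nat_lit 168, nat_lit 210, nat_lit 420, nat_lit 462, nat_lit 252, nat_lit 210, nat_lit 420, nat_lit 294, nat_lit 336, nat_lit 252, nat_lit 294, nat_lit 168, nat_lit 210, nat_lit 252, nat_lit 126, nat_lit 168, nat_lit 210, nat_lit 420, nat_lit 462, nat_lit 294, nat_lit 210, nat_lit 252, nat_lit 126, nat_lit 168, nat_lit 210, nat_lit 420, nat_lit 378, nat_lit 336, nat_lit 294, nat_lit 252, nat_lit 210, nat_lit 168, nat_lit 126, nat_lit 84, nat_lit 126])))))))))))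
(.leaf 0 0 [])))))
noncomputable def wt5 : LT := (.node (nat_lit 3) (.node (nat_lit 0) (.leaf 125 0 [nat_lit 462, nat_lit 210, nat_lit 462])
(.node (nat_lit 1) (.leaf 33 3 [nat_lit 0, nat_lit 210, nat_lit 0])
(.node (nat_lit 2) (.leaf 121 0 [nat_lit 378, nat_lit 210, nat_lit 378])
(.leaf 53 3 [nat_lit 42, nat_lit 210, nat_lit 42]))))
(.node (nat_lit 7) (.node (nat_lit 5) (.node (nat_lit 4) (.leaf 123 0 [nat_lit 420, nat_lit 210, nat_lit 420, nat_lit 210, nat_lit 420])
(.leaf 119 0 [nat_lit 336, nat_lit 210, nat_lit 336]))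
(.node (nat_lit 6) (.leaf 71 3 [nat_lit 84, nat_lit 210, nat_lit 84])
(.leaf 117 0 [nat_lit 294, nat_lit 210, nat_lit 294])))
(.node (nat_lit 12) (.node (nat_lit 8) (.leaf 87 3 [nat_lit 126, nat_lit 210, nat_lit 126])
(.node (nat_lit 9) (.leaf 115 0 [nat_lit 252, nat_lit 210, nat_lit 252, nat_lit 210, nat_lit 252])
(.node (nat_lit 10) (.leaf 101 5 [nat_lit 168, nat_lit 210, nat_lit 168, nat_lit 210, nat_lit 168])
(.node (nat_lit 11) (.leaf 157 48 [nat_lit 420, nat_lit 252, nat_lit 210, nat_lit 168, nat_lit 126, nat_lit 84, nat_lit 126, nat_lit 168, nat_lit 210, nat_lit 252, nat_lit 420, nat_lit 210, nat_lit 168, nat_lit 126, nat_lit 84, nat_lit 0, nat_lit 210, nat_lit 420, nat_lit 252, nat_lit 210, nat_lit 168, nat_lit 210, nat_lit 252, nat_lit 420, nat_lit 210, nat_lit 420, nat_lit 252, nat_lit 168, nat_lit 294, nat_lit 252, nat_lit 210, nat_lit 420, nat_lit 168, nat_lit 210, nat_lit 252, nat_lit 126, nat_lit 168, nat_lit 210, nat_lit 420, nat_lit 294, nat_lit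 252, nat_lit 210, nat_lit 168, nat_lit 126, nat_lit 84, nat_lit 126, nat_lit 168, nat_lit 210, nat_lit 252, nat_lit 294, nat_lit 420, nat_lit 210, nat_lit 168, nat_lit 126, nat_lit 252, nat_lit 210, nat_lit 168, nat_lit 420, nat_lit 210, nat_lit 252, nat_lit 294, nat_lit 126, nat_lit 168])
(.leaf 157 15 [nat_lit 420, nat_lit 168, nat_lit 210, nat_lit 252, nat_lit 126, nat_lit 168, nat_lit 210, nat_lit 420, nat_lit 294, nat_lit 252, nat_lit 210, nat_lit 168, nat_lit 126, nat_lit 84, nat_lit 126, nat_lit 168, nat_lit 210, nat_lit 252, nat_lit 294, nat_lit 420, nat_lit 210, nat_lit 168, nat_lit 126, nat_lit 252, nat_lit 210, nat_lit 168, nat_lit 420, nat_lit 210, nat_lit 252, nat_lit 294, nat_lit 126, nat_lit 168, nat_lit 210, nat_lit 420, nat_lit 252, nat_lit 210, nat_lit 168, nat_lit 126, nat_lit 84, nat_lit 126, nat_lit 168, nat_lit 210, nat_lit 252, nat_lit 420, nat_lit 210, nat_lit 168, nat_lit 126, nat_lit 84, nat_lit 0, nat_lit 210, nat_lit 420, nat_lit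 252, nat_lit 210, nat_lit 168, nat_lit 210, nat_lit 252, nat_lit 420, nat_lit 210, nat_lit 420, nat_lit 252, nat_lit 168, nat_lit 294, nat_lit 252])))))
(.node (nat_lit 40) (.node (nat_lit 17) (.node (nat_lit 14) (.node (nat_lit 13) (.leaf 157 60 [nat_lit 168, nat_lit 126, nat_lit 84, nat_lit 0, nat_lit 210, nat_lit 420, nat_lit 252, nat_lit 210, nat_lit 168, nat_lit 210, nat_lit 252, nat_lit 420, nat_lit 210, nat_lit 420, nat_lit 252, nat_lit 168, nat_lit 294, nat_lit 252, nat_lit 210, nat_lit 420, nat_lit 168, nat_lit 210, nat_lit 252, nat_lit 126, nat_lit 168, nat_lit 210, nat_lit 420, nat_lit 294, nat_lit 252, nat_lit 210, nat_lit 168, nat_lit 126, nat_lit 84, nat_lit 126, nat_lit 168, nat_lit 210, nat_lit 252, nat_lit 294, nat_lit 420, nat_lit 210, nat_lit 168, nat_lit 126, nat_lit 252, nat_lit 210, nat_lit 168, nat_lit 420, nat_lit 210, nat_lit 252, nat_lit 294, nat_lit 126, nat_lit 168, nat_lit 210, nat_lit 420, nat_lit 252, nat_lit 210, nat_lit 168,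 nat_lit 126, nat_lit 84, nat_lit 126, nat_lit 168, nat_lit 210, nat_lit 252, nat_lit 420])
(.leaf 157 43 [nat_lit 252, nat_lit 294, nat_lit 126, nat_lit 168, nat_lit 210, nat_lit 420, nat_lit 252, nat_lit 210, nat_lit 168, nat_lit 126, nat_lit 84, nat_lit 126, nat_lit 168, nat_lit 210, nat_lit 252, nat_lit 420, nat_lit 210, nat_lit 168, nat_lit 126, nat_lit 84, nat_lit 0, nat_lit 210, nat_lit 420, nat_lit 252, nat_lit 210, nat_lit 168, nat_lit 210, nat_lit 252, nat_lit 420, nat_lit 210, nat_lit 420, nat_lit 252, nat_lit 168, nat_lit 294, nat_lit 252, nat_lit 210, nat_lit 420, nat_lit 168, nat_lit 210, nat_lit 252, nat_lit 126, nat_lit 168, nat_lit 210, nat_lit 420, nat_lit 294, nat_lit 252, nat_lit 210, nat_lit 168, nat_lit 126, nat_lit 84, nat_lit 126, nat_lit 168, nat_lit 210, nat_lit 252, nat_lit 294, nat_lit 420, nat_lit 210, nat_lit 168, nat_lit 126, nat_lit 252, nat_lit 210, nat_lit 168, nat_lit 420]))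
(.node (nat_lit 15) (.leaf 157 57 [nat_lit 252, nat_lit 420, nat_lit 210, nat_lit 168, nat_lit 126, nat_lit 84, nat_lit 0, nat_lit 210, nat_lit 420, nat_lit 252, nat_lit 210, nat_lit 168, nat_lit 210, nat_lit 252, nat_lit 420, nat_lit 210, nat_lit 420, nat_lit 252, nat_lit 168, nat_lit 294, nat_lit 252, nat_lit 210, nat_lit 420, nat_lit 168, nat_lit 210, nat_lit 252, nat_lit 126, nat_lit 168, nat_lit 210, nat_lit 420, nat_lit 294, nat_lit 252, nat_lit 210, nat_lit 168, nat_lit 126, nat_lit 84, nat_lit 126, nat_lit 168, nat_lit 210, nat_lit 252, nat_lit 294, nat_lit 420, nat_lit 210, nat_lit 168, nat_lit 126, nat_lit 252, nat_lit 210, nat_lit 168, nat_lit 420, nat_lit 210, nat_lit 252, nat_lit 294, nat_lit 126, nat_lit 168, nat_lit 210, nat_lit 420, nat_lit 252, nat_lit 210, nat_lit 168, nat_lit 126, nat_lit 84, nat_lit 126, nat_lit 168])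
(.node (nat_lit 16) (.leaf 157 22 [nat_lit 420, nat_lit 294, nat_lit 252, nat_lit 210, nat_lit 168, nat_lit 126, nat_lit 84, nat_lit 126, nat_lit 168, nat_lit 210, nat_lit 252, nat_lit 294, nat_lit 420, nat_lit 210, nat_lit 168, nat_lit 126, nat_lit 252, nat_lit 210, nat_lit 168, nat_lit 420, nat_lit 210, nat_lit 252, nat_lit 294, nat_lit 126, nat_lit 168, nat_lit 210, nat_lit 420, nat_lit 252, nat_lit 210, nat_lit 168, nat_lit 126, nat_lit 84, nat_lit 126, nat_lit 168, nat_lit 210, nat_lit 252, nat_lit 420, nat_lit 210, nat_lit 168, nat_lit 126, nat_lit 84, nat_lit 0, nat_lit 210, nat_lit 420, nat_lit 252, nat_lit 210, nat_lit 168, nat_lit 210, nat_lit 252, nat_lit 420, nat_lit 210, nat_lit 420, nat_lit 252, nat_lit 168, nat_lit 294, nat_lit 252, nat_lit 210, nat_lit 420, nat_lit 168, nat_lit 210, nat_lit 252, nat_lit 126, nat_lit 168])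
(.leaf 157 9 [nat_lit 420, nat_lit 252, nat_lit 168, nat_lit 294, nat_lit 252, nat_lit 210, nat_lit 420, nat_lit 168, nat_lit 210, nat_lit 252, nat_lit 126, nat_lit 168, nat_lit 210, nat_lit 420, nat_lit 294, nat_lit 252, nat_lit 210, nat_lit 168, nat_lit 126, nat_lit 84, nat_lit 126, nat_lit 168, nat_lit 210, nat_lit 252, nat_lit 294, nat_lit 420, nat_lit 210, nat_lit 168, nat_lit 126, nat_lit 252, nat_lit 210, nat_lit 168, nat_lit 420, nat_lit 210, nat_lit 252, nat_lit 294, nat_lit 126, nat_lit 168, nat_lit 210, nat_lit 420, nat_lit 252, nat_lit 210, nat_lit 168, nat_lit 126, nat_lit 84, nat_lit 126, nat_lit 168, nat_lit 210, nat_lit 252, nat_lit 420, nat_lit 210, nat_lit 168, nat_lit 126, nat_lit 84, nat_lit 0, nat_lit 210, nat_lit 420, nat_lit 252, nat_lit 210, nat_lit 168, nat_lit 210, nat_lit 252, nat_lit 420]))))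
(.node (nat_lit 21) (.node (nat_lit 19) (.node (nat_lit 18) (.leaf 157 18 [nat_lit 252, nat_lit 126, nat_lit 168, nat_lit 210, nat_lit 420, nat_lit 294, nat_lit 252, nat_lit 210, nat_lit 168, nat_lit 126, nat_lit 84, nat_lit 126, nat_lit 168, nat_lit 210, nat_lit 252, nat_lit 294, nat_lit 420, nat_lit 210, nat_lit 168, nat_lit 126, nat_lit 252, nat_lit 210, nat_lit 168, nat_lit 420, nat_lit 210, nat_lit 252, nat_lit 294, nat_lit 126, nat_lit 168, nat_lit 210, nat_lit 420, nat_lit 252, nat_lit 210, nat_lit 168, nat_lit 126, nat_lit 84, nat_lit 126, nat_lit 168, nat_lit 210, nat_lit 252, nat_lit 420, nat_lit 210, nat_lit 168, nat_lit 126, nat_lit 84, nat_lit 0, nat_lit 210, nat_lit 420, nat_lit 252, nat_lit 210, nat_lit 168, nat_lit 210, nat_lit 252, nat_lit 420, nat_lit 210, nat_lit 420, nat_lit 252, nat_lit 168, nat_lit 294, nat_lit 252, nat_lit 210, nat_lit 420, nat_lit 168])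
(.leaf 157 40 [nat_lit 168, nat_lit 420, nat_lit 210, nat_lit 252, nat_lit 294, nat_lit 126, nat_lit 168, nat_lit 210, nat_lit 420, nat_lit 252, nat_lit 210, nat_lit 168, nat_lit 126, nat_lit 84, nat_lit 126, nat_lit 168, nat_lit 210, nat_lit 252, nat_lit 420, nat_lit 210, nat_lit 168, nat_lit 126, nat_lit 84, nat_lit 0, nat_lit 210, nat_lit 420, nat_lit 252, nat_lit 210, nat_lit 168, nat_lit 210, nat_lit 252, nat_lit 420, nat_lit 210, nat_lit 420, nat_lit 252, nat_lit 168, nat_lit 294, nat_lit 252, nat_lit 210, nat_lit 420, nat_lit 168, nat_lit 210, nat_lit 252, nat_lit 126, nat_lit 168, nat_lit 210, nat_lit 420, nat_lit 294, nat_lit 252, nat_lit 210, nat_lit 168, nat_lit 126, nat_lit 84, nat_lit 126, nat_lit 168, nat_lit 210, nat_lit 252, nat_lit 294, nat_lit 420, nat_lit 210, nat_lit 168, nat_lit 126, nat_lit 252]))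
(.node (nat_lit 20) (.leaf 157 36 [nat_lit 168, nat_lit 126, nat_lit 252, nat_lit 210, nat_lit 168, nat_lit 420, nat_lit 210, nat_lit 252, nat_lit 294, nat_lit 126, nat_lit 168, nat_lit 210, nat_lit 420, nat_lit 252, nat_lit 210, nat_lit 168, nat_lit 126, nat_lit 84, nat_lit 126, nat_lit 168, nat_lit 210, nat_lit 252, nat_lit 420, nat_lit 210, nat_lit 168, nat_lit 126, nat_lit 84, nat_lit 0, nat_lit 210, nat_lit 420, nat_lit 252, nat_lit 210, nat_lit 168, nat_lit 210, nat_lit 252, nat_lit 420, nat_lit 210, nat_lit 420, nat_lit 252, nat_lit 168, nat_lit 294, nat_lit 252, nat_lit 210, nat_lit 420, nat_lit 168, nat_lit 210, nat_lit 252, nat_lit 126, nat_lit 168, nat_lit 210, nat_lit 420, nat_lit 294, nat_lit 252, nat_lit 210, nat_lit 168, nat_lit 126, nat_lit 84, nat_lit 126, nat_lit 168, nat_lit 210, nat_lit 252, nat_lit 294, nat_lit 420])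
(.leaf 157 51 [nat_lit 168, nat_lit 126, nat_lit 84, nat_lit 126, nat_lit 168, nat_lit 210, nat_lit 252, nat_lit 420, nat_lit 210, nat_lit 168, nat_lit 126, nat_lit 84, nat_lit 0, nat_lit 210, nat_lit 420, nat_lit 252, nat_lit 210, nat_lit 168, nat_lit 210, nat_lit 252, nat_lit 420, nat_lit 210, nat_lit 420, nat_lit 252, nat_lit 168, nat_lit 294, nat_lit 252, nat_lit 210, nat_lit 420, nat_lit 168, nat_lit 210, nat_lit 252, nat_lit 126, nat_lit 168, nat_lit 210, nat_lit 420, nat_lit 294, nat_lit 252, nat_lit 210, nat_lit 168, nat_lit 126, nat_lit 84, nat_lit 126, nat_lit 168, nat_lit 210, nat_lit 252, nat_lit 294, nat_lit 420, nat_lit 210, nat_lit 168, nat_lit 126, nat_lit 252, nat_lit 210, nat_lit 168, nat_lit 420, nat_lit 210, nat_lit 252, nat_lit 294, nat_lit 126, nat_lit 168, nat_lit 210, nat_lit 420, nat_lit 252])))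
(.node (nat_lit 26) (.node (nat_lit 23) (.node (nat_lit 22) (.leaf 157 1 [nat_lit 420, nat_lit 252, nat_lit 210, nat_lit 168, nat_lit 210, nat_lit 252, nat_lit 420, nat_lit 210, nat_lit 420, nat_lit 252, nat_lit 168, nat_lit 294, nat_lit 252, nat_lit 210, nat_lit 420, nat_lit 168, nat_lit 210, nat_lit 252, nat_lit 126, nat_lit 168, nat_lit 210, nat_lit 420, nat_lit 294, nat_lit 252, nat_lit 210, nat_lit 168, nat_lit 126, nat_lit 84, nat_lit 126, nat_lit 168, nat_lit 210, nat_lit 252, nat_lit 294, nat_lit 420, nat_lit 210, nat_lit 168, nat_lit 126, nat_lit 252, nat_lit 210, nat_lit 168, nat_lit 420, nat_lit 210, nat_lit 252, nat_lit 294, nat_lit 126, nat_lit 168, nat_lit 210, nat_lit 420, nat_lit 252, nat_lit 210, nat_lit 168, nat_lit 126, nat_lit 84, nat_lit 126, nat_lit 168, nat_lit 210, nat_lit 252, nat_lit 420, nat_lit 210, nat_lit 168, nat_lit 126, nat_lit 84, nat_lit 0])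
(.leaf 159 99 [nat_lit 420, nat_lit 378, nat_lit 336, nat_lit 294, nat_lit 252, nat_lit 210, nat_lit 168, nat_lit 126, nat_lit 84, nat_lit 126, nat_lit 168, nat_lit 210, nat_lit 252, nat_lit 294, nat_lit 336, nat_lit 378, nat_lit 420, nat_lit 210, nat_lit 168, nat_lit 126, nat_lit 252, nat_lit 210, nat_lit 294, nat_lit 462, nat_lit 420, nat_lit 210, nat_lit 168, nat_lit 126, nat_lit 252, nat_lit 210, nat_lit 168, nat_lit 294, nat_lit 252, nat_lit 336, nat_lit 294, nat_lit 420, nat_lit 210, nat_lit 252, nat_lit 462, nat_lit 420, nat_lit 210, nat_lit 168, nat_lit 126, nat_lit 84, nat_lit 42, nat_lit 84, nat_lit 126, nat_lit 168, nat_lit 210, nat_lit 420, nat_lit 462, nat_lit 252, nat_lit 210, nat_lit 420, nat_lit 294, nat_lit 336, nat_lit 252, nat_lit 294, nat_lit 168, nat_lit 210, nat_lit 252, nat_lit 126, nat_lit 168, nat_lit 210, nat_lit 420, nat_lit 462, nat_lit 294, nat_lit 210, nat_lit 252, nat_lit 126, nat_lit 168, nat_lit 210, nat_lit 420, nat_lit 378,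 nat_lit 336, nat_lit 294, nat_lit 252, nat_lit 210, nat_lit 168, nat_lit 126, nat_lit 84, nat_lit 126, nat_lit 168, nat_lit 210, nat_lit 252, nat_lit 294, nat_lit 336, nat_lit 378, nat_lit 420, nat_lit 210, nat_lit 168, nat_lit 126, nat_lit 252, nat_lit 210, nat_lit 294, nat_lit 462, nat_lit 420, nat_lit 210, nat_lit 168, nat_lit 126, nat_lit 252, nat_lit 210, nat_lit 168, nat_lit 294, nat_lit 252, nat_lit 336, nat_lit 294, nat_lit 420, nat_lit 210, nat_lit 252, nat_lit 462, nat_lit 420, nat_lit 210, nat_lit 168, nat_lit 126, nat_lit 84, nat_lit 42, nat_lit 84, nat_lit 126, nat_lit 168, nat_lit 210, nat_lit 420, nat_lit 462, nat_lit 252, nat_lit 210, nat_lit 420, nat_lit 294, nat_lit 336, nat_lit 252, nat_lit 294, nat_lit 168, nat_lit 210, nat_lit 252, nat_lit 126, nat_lit 168, nat_lit 210, nat_lit 420, nat_lit 462, nat_lit 294, nat_lit 210, nat_lit 252, nat_lit 126, nat_lit 168]))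
(.node (nat_lit 24) (.leaf 157 32 [nat_lit 252, nat_lit 294, nat_lit 420, nat_lit 210, nat_lit 168, nat_lit 126, nat_lit 252, nat_lit 210, nat_lit 168, nat_lit 420, nat_lit 210, nat_lit 252, nat_lit 294, nat_lit 126, nat_lit 168, nat_lit 210, nat_lit 420, nat_lit 252, nat_lit 210, nat_lit 168, nat_lit 126, nat_lit 84, nat_lit 126, nat_lit 168, nat_lit 210, nat_lit 252, nat_lit 420, nat_lit 210, nat_lit 168, nat_lit 126, nat_lit 84, nat_lit 0, nat_lit 210, nat_lit 420, nat_lit 252, nat_lit 210, nat_lit 168, nat_lit 210, nat_lit 252, nat_lit 420, nat_lit 210, nat_lit 420, nat_lit 252, nat_lit 168, nat_lit 294, nat_lit 252, nat_lit 210, nat_lit 420, nat_lit 168, nat_lit 210, nat_lit 252, nat_lit 126, nat_lit 168, nat_lit 210, nat_lit 420, nat_lit 294, nat_lit 252, nat_lit 210, nat_lit 168, nat_lit 126, nat_lit 84, nat_lit 126, nat_lit 168])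
(.node (nat_lit 25) (.leaf 157 6 [nat_lit 252, nat_lit 420, nat_lit 210, nat_lit 420, nat_lit 252, nat_lit 168, nat_lit 294, nat_lit 252, nat_lit 210, nat_lit 420, nat_lit 168, nat_lit 210, nat_lit 252, nat_lit 126, nat_lit 168, nat_lit 210, nat_lit 420, nat_lit 294, nat_lit 252, nat_lit 210, nat_lit 168, nat_lit 126, nat_lit 84, nat_lit 126, nat_lit 168, nat_lit 210, nat_lit 252, nat_lit 294, nat_lit 420, nat_lit 210, nat_lit 168, nat_lit 126, nat_lit 252, nat_lit 210, nat_lit 168, nat_lit 420, nat_lit 210, nat_lit 252, nat_lit 294, nat_lit 126, nat_lit 168, nat_lit 210, nat_lit 420, nat_lit 252, nat_lit 210, nat_lit 168, nat_lit 126, nat_lit 84, nat_lit 126, nat_lit 168, nat_lit 210, nat_lit 252, nat_lit 420, nat_lit 210, nat_lit 168, nat_lit 126, nat_lit 84, nat_lit 0, nat_lit 210, nat_lit 420, nat_lit 252, nat_lit 210, nat_lit 168])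
(.leaf 157 26 [nat_lit 168, nat_lit 126, nat_lit 84, nat_lit 126, nat_lit 168, nat_lit 210, nat_lit 252, nat_lit 294, nat_lit 420, nat_lit 210, nat_lit 168, nat_lit 126, nat_lit 252, nat_lit 210, nat_lit 168, nat_lit 420, nat_lit 210, nat_lit 252, nat_lit 294, nat_lit 126, nat_lit 168, nat_lit 210, nat_lit 420, nat_lit 252, nat_lit 210, nat_lit 168, nat_lit 126, nat_lit 84, nat_lit 126, nat_lit 168, nat_lit 210, nat_lit 252, nat_lit 420, nat_lit 210, nat_lit 168, nat_lit 126, nat_lit 84, nat_lit 0, nat_lit 210, nat_lit 420, nat_lit 252, nat_lit 210, nat_lit 168, nat_lit 210, nat_lit 252, nat_lit 420, nat_lit 210, nat_lit 420, nat_lit 252, nat_lit 168, nat_lit 294, nat_lit 252, nat_lit 210, nat_lit 420, nat_lit 168, nat_lit 210, nat_lit 252, nat_lit 126, nat_lit 168, nat_lit 210, nat_lit 420, nat_lit 294, nat_lit 252]))))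
(.node (nat_lit 31) (.node (nat_lit 28) (.node (nat_lit 27) (.leaf 159 129 [nat_lit 168, nat_lit 294, nat_lit 252, nat_lit 336, nat_lit 294, nat_lit 420, nat_lit 210, nat_lit 252, nat_lit 462, nat_lit 420, nat_lit 210, nat_lit 168, nat_lit 126, nat_lit 84, nat_lit 42, nat_lit 84, nat_lit 126, nat_lit 168, nat_lit 210, nat_lit 420, nat_lit 462, nat_lit 252, nat_lit 210, nat_lit 420, nat_lit 294, nat_lit 336, nat_lit 252, nat_lit 294, nat_lit 168, nat_lit 210, nat_lit 252, nat_lit 126, nat_lit 168, nat_lit 210, nat_lit 420, nat_lit 462, nat_lit 294, nat_lit 210, nat_lit 252, nat_lit 126, nat_lit 168, nat_lit 210, nat_lit 420, nat_lit 378, nat_lit 336, nat_lit 294, nat_lit 252, nat_lit 210, nat_lit 168, nat_lit 126, nat_lit 84, nat_lit 126, nat_lit 168, nat_lit 210, nat_lit 252, nat_lit 294, nat_lit 336, nat_lit 378, nat_lit 420, nat_lit 210, nat_lit 168, nat_lit 126, nat_lit 252, nat_lit 210, nat_lit 294, nat_lit 462, nat_lit 420, nat_lit 210, nat_lit 168,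 nat_lit 126, nat_lit 252, nat_lit 210, nat_lit 168, nat_lit 294, nat_lit 252, nat_lit 336, nat_lit 294, nat_lit 420, nat_lit 210, nat_lit 252, nat_lit 462, nat_lit 420, nat_lit 210, nat_lit 168, nat_lit 126, nat_lit 84, nat_lit 42, nat_lit 84, nat_lit 126, nat_lit 168, nat_lit 210, nat_lit 420, nat_lit 462, nat_lit 252, nat_lit 210, nat_lit 420, nat_lit 294, nat_lit 336, nat_lit 252, nat_lit 294, nat_lit 168, nat_lit 210, nat_lit 252, nat_lit 126, nat_lit 168, nat_lit 210, nat_lit 420, nat_lit 462, nat_lit 294, nat_lit 210, nat_lit 252, nat_lit 126, nat_lit 168, nat_lit 210, nat_lit 420, nat_lit 378, nat_lit 336, nat_lit 294, nat_lit 252, nat_lit 210, nat_lit 168, nat_lit 126, nat_lit 84, nat_lit 126, nat_lit 168, nat_lit 210, nat_lit 252, nat_lit 294, nat_lit 336, nat_lit 378, nat_lit 420, nat_lit 210, nat_lit 168, nat_lit 126, nat_lit 252, nat_lit 210, nat_lit 294, nat_lit 462, nat_lit 420, nat_lit 210, nat_lit 168, nat_lit 126, nat_lit 252])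
(.leaf 157 4 [nat_lit 168, nat_lit 210, nat_lit 252, nat_lit 420, nat_lit 210, nat_lit 420, nat_lit 252, nat_lit 168, nat_lit 294, nat_lit 252, nat_lit 210, nat_lit 420, nat_lit 168, nat_lit 210, nat_lit 252, nat_lit 126, nat_lit 168, nat_lit 210, nat_lit 420, nat_lit 294, nat_lit 252, nat_lit 210, nat_lit 168, nat_lit 126, nat_lit 84, nat_lit 126, nat_lit 168, nat_lit 210, nat_lit 252, nat_lit 294, nat_lit 420, nat_lit 210, nat_lit 168, nat_lit 126, nat_lit 252, nat_lit 210, nat_lit 168, nat_lit 420, nat_lit 210, nat_lit 252, nat_lit 294, nat_lit 126, nat_lit 168, nat_lit 210, nat_lit 420, nat_lit 252, nat_lit 210, nat_lit 168, nat_lit 126, nat_lit 84, nat_lit 126, nat_lit 168, nat_lit 210, nat_lit 252, nat_lit 420, nat_lit 210, nat_lit 168, nat_lit 126, nat_lit 84, nat_lit 0, nat_lit 210, nat_lit 420, nat_lit 252]))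
(.node (nat_lit 29) (.leaf 159 87 [nat_lit 252, nat_lit 126, nat_lit 168, nat_lit 210, nat_lit 420, nat_lit 462, nat_lit 294, nat_lit 210, nat_lit 252, nat_lit 126, nat_lit 168, nat_lit 210, nat_lit 420, nat_lit 378, nat_lit 336, nat_lit 294, nat_lit 252, nat_lit 210, nat_lit 168, nat_lit 126, nat_lit 84, nat_lit 126, nat_lit 168, nat_lit 210, nat_lit 252, nat_lit 294, nat_lit 336, nat_lit 378, nat_lit 420, nat_lit 210, nat_lit 168, nat_lit 126, nat_lit 252, nat_lit 210, nat_lit 294, nat_lit 462, nat_lit 420, nat_lit 210, nat_lit 168, nat_lit 126, nat_lit 252, nat_lit 210, nat_lit 168, nat_lit 294, nat_lit 252, nat_lit 336, nat_lit 294, nat_lit 420, nat_lit 210, nat_lit 252, nat_lit 462, nat_lit 420, nat_lit 210, nat_lit 168, nat_lit 126, nat_lit 84, nat_lit 42, nat_lit 84, nat_lit 126, nat_lit 168, nat_lit 210, nat_lit 420, nat_lit 462, nat_lit 252, nat_lit 210, nat_lit 420, nat_lit 294, nat_lit 336, nat_lit 252, nat_lit 294, nat_lit 168, nat_lit 210, nat_lit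 252, nat_lit 126, nat_lit 168, nat_lit 210, nat_lit 420, nat_lit 462, nat_lit 294, nat_lit 210, nat_lit 252, nat_lit 126, nat_lit 168, nat_lit 210, nat_lit 420, nat_lit 378, nat_lit 336, nat_lit 294, nat_lit 252, nat_lit 210, nat_lit 168, nat_lit 126, nat_lit 84, nat_lit 126, nat_lit 168, nat_lit 210, nat_lit 252, nat_lit 294, nat_lit 336, nat_lit 378, nat_lit 420, nat_lit 210, nat_lit 168, nat_lit 126, nat_lit 252, nat_lit 210, nat_lit 294, nat_lit 462, nat_lit 420, nat_lit 210, nat_lit 168, nat_lit 126, nat_lit 252, nat_lit 210, nat_lit 168, nat_lit 294, nat_lit 252, nat_lit 336, nat_lit 294, nat_lit 420, nat_lit 210, nat_lit 252, nat_lit 462, nat_lit 420, nat_lit 210, nat_lit 168, nat_lit 126, nat_lit 84, nat_lit 42, nat_lit 84, nat_lit 126, nat_lit 168, nat_lit 210, nat_lit 420, nat_lit 462, nat_lit 252, nat_lit 210, nat_lit 420, nat_lit 294, nat_lit 336, nat_lit 252, nat_lit 294, nat_lit 168])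
(.node (nat_lit 30) (.leaf 159 95 [nat_lit 252, nat_lit 126, nat_lit 168, nat_lit 210, nat_lit 420, nat_lit 378, nat_lit 336, nat_lit 294, nat_lit 252, nat_lit 210, nat_lit 168, nat_lit 126, nat_lit 84, nat_lit 126, nat_lit 168, nat_lit 210, nat_lit 252, nat_lit 294, nat_lit 336, nat_lit 378, nat_lit 420, nat_lit 210, nat_lit 168, nat_lit 126, nat_lit 252, nat_lit 210, nat_lit 294, nat_lit 462, nat_lit 420, nat_lit 210, nat_lit 168, nat_lit 126, nat_lit 252, nat_lit 210, nat_lit 168, nat_lit 294, nat_lit 252, nat_lit 336, nat_lit 294, nat_lit 420, nat_lit 210, nat_lit 252, nat_lit 462, nat_lit 420, nat_lit 210, nat_lit 168, nat_lit 126, nat_lit 84, nat_lit 42, nat_lit 84, nat_lit 126, nat_lit 168, nat_lit 210, nat_lit 420, nat_lit 462, nat_lit 252, nat_lit 210, nat_lit 420, nat_lit 294, nat_lit 336, nat_lit 252, nat_lit 294, nat_lit 168, nat_lit 210, nat_lit 252, nat_lit 126, nat_lit 168, nat_lit 210, nat_lit 420, nat_lit 462, nat_lit 294, nat_lit 210, nat_lit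 252, nat_lit 126, nat_lit 168, nat_lit 210, nat_lit 420, nat_lit 378, nat_lit 336, nat_lit 294, nat_lit 252, nat_lit 210, nat_lit 168, nat_lit 126, nat_lit 84, nat_lit 126, nat_lit 168, nat_lit 210, nat_lit 252, nat_lit 294, nat_lit 336, nat_lit 378, nat_lit 420, nat_lit 210, nat_lit 168, nat_lit 126, nat_lit 252, nat_lit 210, nat_lit 294, nat_lit 462, nat_lit 420, nat_lit 210, nat_lit 168, nat_lit 126, nat_lit 252, nat_lit 210, nat_lit 168, nat_lit 294, nat_lit 252, nat_lit 336, nat_lit 294, nat_lit 420, nat_lit 210, nat_lit 252, nat_lit 462, nat_lit 420, nat_lit 210, nat_lit 168, nat_lit 126, nat_lit 84, nat_lit 42, nat_lit 84, nat_lit 126, nat_lit 168, nat_lit 210, nat_lit 420, nat_lit 462, nat_lit 252, nat_lit 210, nat_lit 420, nat_lit 294, nat_lit 336, nat_lit 252, nat_lit 294, nat_lit 168, nat_lit 210, nat_lit 252, nat_lit 126, nat_lit 168, nat_lit 210, nat_lit 420, nat_lit 462, nat_lit 294])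
(.leaf 159 136 [nat_lit 252, nat_lit 462, nat_lit 420, nat_lit 210, nat_lit 168, nat_lit 126, nat_lit 84, nat_lit 42, nat_lit 84, nat_lit 126, nat_lit 168, nat_lit 210, nat_lit 420, nat_lit 462, nat_lit 252, nat_lit 210, nat_lit 420, nat_lit 294, nat_lit 336, nat_lit 252, nat_lit 294, nat_lit 168, nat_lit 210, nat_lit 252, nat_lit 126, nat_lit 168, nat_lit 210, nat_lit 420, nat_lit 462, nat_lit 294, nat_lit 210, nat_lit 252, nat_lit 126, nat_lit 168, nat_lit 210, nat_lit 420, nat_lit 378, nat_lit 336, nat_lit 294, nat_lit 252, nat_lit 210, nat_lit 168, nat_lit 126, nat_lit 84, nat_lit 126, nat_lit 168, nat_lit 210, nat_lit 252, nat_lit 294, nat_lit 336, nat_lit 378, nat_lit 420, nat_lit 210, nat_lit 168, nat_lit 126, nat_lit 252, nat_lit 210, nat_lit 294, nat_lit 462, nat_lit 420, nat_lit 210, nat_lit 168, nat_lit 126, nat_lit 252, nat_lit 210, nat_lit 168, nat_lit 294, nat_lit 252, nat_lit 336, nat_lit 294, nat_lit 420, nat_lit 210, nat_lit 252, nat_lit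 462, nat_lit 420, nat_lit 210, nat_lit 168, nat_lit 126, nat_lit 84, nat_lit 42, nat_lit 84, nat_lit 126, nat_lit 168, nat_lit 210, nat_lit 420, nat_lit 462, nat_lit 252, nat_lit 210, nat_lit 420, nat_lit 294, nat_lit 336, nat_lit 252, nat_lit 294, nat_lit 168, nat_lit 210, nat_lit 252, nat_lit 126, nat_lit 168, nat_lit 210, nat_lit 420, nat_lit 462, nat_lit 294, nat_lit 210, nat_lit 252, nat_lit 126, nat_lit 168, nat_lit 210, nat_lit 420, nat_lit 378, nat_lit 336, nat_lit 294, nat_lit 252, nat_lit 210, nat_lit 168, nat_lit 126, nat_lit 84, nat_lit 126, nat_lit 168, nat_lit 210, nat_lit 252, nat_lit 294, nat_lit 336, nat_lit 378, nat_lit 420, nat_lit 210, nat_lit 168, nat_lit 126, nat_lit 252, nat_lit 210, nat_lit 294, nat_lit 462, nat_lit 420, nat_lit 210, nat_lit 168, nat_lit 126, nat_lit 252, nat_lit 210, nat_lit 168, nat_lit 294, nat_lit 252, nat_lit 336, nat_lit 294, nat_lit 420]))))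
(.node (nat_lit 34) (.node (nat_lit 32) (.leaf 159 125 [nat_lit 168, nat_lit 126, nat_lit 252, nat_lit 210, nat_lit 168, nat_lit 294, nat_lit 252, nat_lit 336, nat_lit 294, nat_lit 420, nat_lit 210, nat_lit 252, nat_lit 462, nat_lit 420, nat_lit 210, nat_lit 168, nat_lit 126, nat_lit 84, nat_lit 42, nat_lit 84, nat_lit 126, nat_lit 168, nat_lit 210, nat_lit 420, nat_lit 462, nat_lit 252, nat_lit 210, nat_lit 420, nat_lit 294, nat_lit 336, nat_lit 252, nat_lit 294, nat_lit 168, nat_lit 210, nat_lit 252, nat_lit 126, nat_lit 168, nat_lit 210, nat_lit 420, nat_lit 462, nat_lit 294, nat_lit 210, nat_lit 252, nat_lit 126, nat_lit 168, nat_lit 210, nat_lit 420, nat_lit 378, nat_lit 336, nat_lit 294, nat_lit 252, nat_lit 210, nat_lit 168, nat_lit 126, nat_lit 84, nat_lit 126, nat_lit 168, nat_lit 210, nat_lit 252, nat_lit 294, nat_lit 336, nat_lit 378, nat_lit 420, nat_lit 210, nat_lit 168, nat_lit 126, nat_lit 252, nat_lit 210, nat_lit 294, nat_lit 462, nat_lit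 420, nat_lit 210, nat_lit 168, nat_lit 126, nat_lit 252, nat_lit 210, nat_lit 168, nat_lit 294, nat_lit 252, nat_lit 336, nat_lit 294, nat_lit 420, nat_lit 210, nat_lit 252, nat_lit 462, nat_lit 420, nat_lit 210, nat_lit 168, nat_lit 126, nat_lit 84, nat_lit 42, nat_lit 84, nat_lit 126, nat_lit 168, nat_lit 210, nat_lit 420, nat_lit 462, nat_lit 252, nat_lit 210, nat_lit 420, nat_lit 294, nat_lit 336, nat_lit 252, nat_lit 294, nat_lit 168, nat_lit 210, nat_lit 252, nat_lit 126, nat_lit 168, nat_lit 210, nat_lit 420, nat_lit 462, nat_lit 294, nat_lit 210, nat_lit 252, nat_lit 126, nat_lit 168, nat_lit 210, nat_lit 420, nat_lit 378, nat_lit 336, nat_lit 294, nat_lit 252, nat_lit 210, nat_lit 168, nat_lit 126, nat_lit 84, nat_lit 126, nat_lit 168, nat_lit 210, nat_lit 252, nat_lit 294, nat_lit 336, nat_lit 378, nat_lit 420, nat_lit 210, nat_lit 168, nat_lit 126, nat_lit 252, nat_lit 210, nat_lit 294, nat_lit 462, nat_lit 420])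
(.node (nat_lit 33) (.leaf 159 91 [nat_lit 420, nat_lit 462, nat_lit 294, nat_lit 210, nat_lit 252, nat_lit 126, nat_lit 168, nat_lit 210, nat_lit 420, nat_lit 378, nat_lit 336, nat_lit 294, nat_lit 252, nat_lit 210, nat_lit 168, nat_lit 126, nat_lit 84, nat_lit 126, nat_lit 168, nat_lit 210, nat_lit 252, nat_lit 294, nat_lit 336, nat_lit 378, nat_lit 420, nat_lit 210, nat_lit 168, nat_lit 126, nat_lit 252, nat_lit 210, nat_lit 294, nat_lit 462, nat_lit 420, nat_lit 210, nat_lit 168, nat_lit 126, nat_lit 252, nat_lit 210, nat_lit 168, nat_lit 294, nat_lit 252, nat_lit 336, nat_lit 294, nat_lit 420, nat_lit 210, nat_lit 252, nat_lit 462, nat_lit 420, nat_lit 210, nat_lit 168, nat_lit 126, nat_lit 84, nat_lit 42, nat_lit 84, nat_lit 126, nat_lit 168, nat_lit 210, nat_lit 420, nat_lit 462, nat_lit 252, nat_lit 210, nat_lit 420, nat_lit 294, nat_lit 336, nat_lit 252, nat_lit 294, nat_lit 168, nat_lit 210, nat_lit 252, nat_lit 126, nat_lit 168, nat_lit 210, nat_lit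 420, nat_lit 462, nat_lit 294, nat_lit 210, nat_lit 252, nat_lit 126, nat_lit 168, nat_lit 210, nat_lit 420, nat_lit 378, nat_lit 336, nat_lit 294, nat_lit 252, nat_lit 210, nat_lit 168, nat_lit 126, nat_lit 84, nat_lit 126, nat_lit 168, nat_lit 210, nat_lit 252, nat_lit 294, nat_lit 336, nat_lit 378, nat_lit 420, nat_lit 210, nat_lit 168, nat_lit 126, nat_lit 252, nat_lit 210, nat_lit 294, nat_lit 462, nat_lit 420, nat_lit 210, nat_lit 168, nat_lit 126, nat_lit 252, nat_lit 210, nat_lit 168, nat_lit 294, nat_lit 252, nat_lit 336, nat_lit 294, nat_lit 420, nat_lit 210, nat_lit 252, nat_lit 462, nat_lit 420, nat_lit 210, nat_lit 168, nat_lit 126, nat_lit 84, nat_lit 42, nat_lit 84, nat_lit 126, nat_lit 168, nat_lit 210, nat_lit 420, nat_lit 462, nat_lit 252, nat_lit 210, nat_lit 420, nat_lit 294, nat_lit 336, nat_lit 252, nat_lit 294, nat_lit 168, nat_lit 210, nat_lit 252, nat_lit 126, nat_lit 168])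
(.leaf 159 80 [nat_lit 420, nat_lit 294, nat_lit 336, nat_lit 252, nat_lit 294, nat_lit 168, nat_lit 210, nat_lit 252, nat_lit 126, nat_lit 168, nat_lit 210, nat_lit 420, nat_lit 462, nat_lit 294, nat_lit 210, nat_lit 252, nat_lit 126, nat_lit 168, nat_lit 210, nat_lit 420, nat_lit 378, nat_lit 336, nat_lit 294, nat_lit 252, nat_lit 210, nat_lit 168, nat_lit 126, nat_lit 84, nat_lit 126, nat_lit 168, nat_lit 210, nat_lit 252, nat_lit 294, nat_lit 336, nat_lit 378, nat_lit 420, nat_lit 210, nat_lit 168, nat_lit 126, nat_lit 252, nat_lit 210, nat_lit 294, nat_lit 462, nat_lit 420, nat_lit 210, nat_lit 168, nat_lit 126, nat_lit 252, nat_lit 210, nat_lit 168, nat_lit 294, nat_lit 252, nat_lit 336, nat_lit 294, nat_lit 420, nat_lit 210, nat_lit 252, nat_lit 462, nat_lit 420, nat_lit 210, nat_lit 168, nat_lit 126, nat_lit 84, nat_lit 42, nat_lit 84, nat_lit 126, nat_lit 168, nat_lit 210, nat_lit 420, nat_lit 462, nat_lit 252, nat_lit 210, nat_lit 420, nat_lit 294,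 nat_lit 336, nat_lit 252, nat_lit 294, nat_lit 168, nat_lit 210, nat_lit 252, nat_lit 126, nat_lit 168, nat_lit 210, nat_lit 420, nat_lit 462, nat_lit 294, nat_lit 210, nat_lit 252, nat_lit 126, nat_lit 168, nat_lit 210, nat_lit 420, nat_lit 378, nat_lit 336, nat_lit 294, nat_lit 252, nat_lit 210, nat_lit 168, nat_lit 126, nat_lit 84, nat_lit 126, nat_lit 168, nat_lit 210, nat_lit 252, nat_lit 294, nat_lit 336, nat_lit 378, nat_lit 420, nat_lit 210, nat_lit 168, nat_lit 126, nat_lit 252, nat_lit 210, nat_lit 294, nat_lit 462, nat_lit 420, nat_lit 210, nat_lit 168, nat_lit 126, nat_lit 252, nat_lit 210, nat_lit 168, nat_lit 294, nat_lit 252, nat_lit 336, nat_lit 294, nat_lit 420, nat_lit 210, nat_lit 252, nat_lit 462, nat_lit 420, nat_lit 210, nat_lit 168, nat_lit 126, nat_lit 84, nat_lit 42, nat_lit 84, nat_lit 126, nat_lit 168, nat_lit 210, nat_lit 420, nat_lit 462, nat_lit 252])))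
(.node (nat_lit 36) (.node (nat_lit 35) (.leaf 159 111 [nat_lit 252, nat_lit 294, nat_lit 336, nat_lit 378, nat_lit 420, nat_lit 210, nat_lit 168, nat_lit 126, nat_lit 252, nat_lit 210, nat_lit 294, nat_lit 462, nat_lit 420, nat_lit 210, nat_lit 168, nat_lit 126, nat_lit 252, nat_lit 210, nat_lit 168, nat_lit 294, nat_lit 252, nat_lit 336, nat_lit 294, nat_lit 420, nat_lit 210, nat_lit 252, nat_lit 462, nat_lit 420, nat_lit 210, nat_lit 168, nat_lit 126, nat_lit 84, nat_lit 42, nat_lit 84, nat_lit 126, nat_lit 168, nat_lit 210, nat_lit 420, nat_lit 462, nat_lit 252, nat_lit 210, nat_lit 420, nat_lit 294, nat_lit 336, nat_lit 252, nat_lit 294, nat_lit 168, nat_lit 210, nat_lit 252, nat_lit 126, nat_lit 168, nat_lit 210, nat_lit 420, nat_lit 462, nat_lit 294, nat_lit 210, nat_lit 252, nat_lit 126, nat_lit 168, nat_lit 210, nat_lit 420, nat_lit 378, nat_lit 336, nat_lit 294, nat_lit 252, nat_lit 210, nat_lit 168, nat_lit 126, nat_lit 84, nat_lit 126, nat_lit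 168, nat_lit 210, nat_lit 252, nat_lit 294, nat_lit 336, nat_lit 378, nat_lit 420, nat_lit 210, nat_lit 168, nat_lit 126, nat_lit 252, nat_lit 210, nat_lit 294, nat_lit 462, nat_lit 420, nat_lit 210, nat_lit 168, nat_lit 126, nat_lit 252, nat_lit 210, nat_lit 168, nat_lit 294, nat_lit 252, nat_lit 336, nat_lit 294, nat_lit 420, nat_lit 210, nat_lit 252, nat_lit 462, nat_lit 420, nat_lit 210, nat_lit 168, nat_lit 126, nat_lit 84, nat_lit 42, nat_lit 84, nat_lit 126, nat_lit 168, nat_lit 210, nat_lit 420, nat_lit 462, nat_lit 252, nat_lit 210, nat_lit 420, nat_lit 294, nat_lit 336, nat_lit 252, nat_lit 294, nat_lit 168, nat_lit 210, nat_lit 252, nat_lit 126, nat_lit 168, nat_lit 210, nat_lit 420, nat_lit 462, nat_lit 294, nat_lit 210, nat_lit 252, nat_lit 126, nat_lit 168, nat_lit 210, nat_lit 420, nat_lit 378, nat_lit 336, nat_lit 294, nat_lit 252, nat_lit 210, nat_lit 168, nat_lit 126, nat_lit 84, nat_lit 126, nat_lit 168])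
(.leaf 159 117 [nat_lit 168, nat_lit 126, nat_lit 252, nat_lit 210, nat_lit 294, nat_lit 462, nat_lit 420, nat_lit 210, nat_lit 168, nat_lit 126, nat_lit 252, nat_lit 210, nat_lit 168, nat_lit 294, nat_lit 252, nat_lit 336, nat_lit 294, nat_lit 420, nat_lit 210, nat_lit 252, nat_lit 462, nat_lit 420, nat_lit 210, nat_lit 168, nat_lit 126, nat_lit 84, nat_lit 42, nat_lit 84, nat_lit 126, nat_lit 168, nat_lit 210, nat_lit 420, nat_lit 462, nat_lit 252, nat_lit 210, nat_lit 420, nat_lit 294, nat_lit 336, nat_lit 252, nat_lit 294, nat_lit 168, nat_lit 210, nat_lit 252, nat_lit 126, nat_lit 168, nat_lit 210, nat_lit 420, nat_lit 462, nat_lit 294, nat_lit 210, nat_lit 252, nat_lit 126, nat_lit 168, nat_lit 210, nat_lit 420, nat_lit 378, nat_lit 336, nat_lit 294, nat_lit 252, nat_lit 210, nat_lit 168, nat_lit 126, nat_lit 84, nat_lit 126, nat_lit 168, nat_lit 210, nat_lit 252, nat_lit 294, nat_lit 336, nat_lit 378, nat_lit 420, nat_lit 210, nat_lit 168, nat_lit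 126, nat_lit 252, nat_lit 210, nat_lit 294, nat_lit 462, nat_lit 420, nat_lit 210, nat_lit 168, nat_lit 126, nat_lit 252, nat_lit 210, nat_lit 168, nat_lit 294, nat_lit 252, nat_lit 336, nat_lit 294, nat_lit 420, nat_lit 210, nat_lit 252, nat_lit 462, nat_lit 420, nat_lit 210, nat_lit 168, nat_lit 126, nat_lit 84, nat_lit 42, nat_lit 84, nat_lit 126, nat_lit 168, nat_lit 210, nat_lit 420, nat_lit 462, nat_lit 252, nat_lit 210, nat_lit 420, nat_lit 294, nat_lit 336, nat_lit 252, nat_lit 294, nat_lit 168, nat_lit 210, nat_lit 252, nat_lit 126, nat_lit 168, nat_lit 210, nat_lit 420, nat_lit 462, nat_lit 294, nat_lit 210, nat_lit 252, nat_lit 126, nat_lit 168, nat_lit 210, nat_lit 420, nat_lit 378, nat_lit 336, nat_lit 294, nat_lit 252, nat_lit 210, nat_lit 168, nat_lit 126, nat_lit 84, nat_lit 126, nat_lit 168, nat_lit 210, nat_lit 252, nat_lit 294, nat_lit 336, nat_lit 378, nat_lit 420]))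
(.node (nat_lit 37) (.leaf 159 121 [nat_lit 294, nat_lit 462, nat_lit 420, nat_lit 210, nat_lit 168, nat_lit 126, nat_lit 252, nat_lit 210, nat_lit 168, nat_lit 294, nat_lit 252, nat_lit 336, nat_lit 294, nat_lit 420, nat_lit 210, nat_lit 252, nat_lit 462, nat_lit 420, nat_lit 210, nat_lit 168, nat_lit 126, nat_lit 84, nat_lit 42, nat_lit 84, nat_lit 126, nat_lit 168, nat_lit 210, nat_lit 420, nat_lit 462, nat_lit 252, nat_lit 210, nat_lit 420, nat_lit 294, nat_lit 336, nat_lit 252, nat_lit 294, nat_lit 168, nat_lit 210, nat_lit 252, nat_lit 126, nat_lit 168, nat_lit 210, nat_lit 420, nat_lit 462, nat_lit 294, nat_lit 210, nat_lit 252, nat_lit 126, nat_lit 168, nat_lit 210, nat_lit 420, nat_lit 378, nat_lit 336, nat_lit 294, nat_lit 252, nat_lit 210, nat_lit 168, nat_lit 126, nat_lit 84, nat_lit 126, nat_lit 168, nat_lit 210, nat_lit 252, nat_lit 294, nat_lit 336, nat_lit 378, nat_lit 420, nat_lit 210, nat_lit 168, nat_lit 126, nat_lit 252, nat_lit 210, nat_lit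 294, nat_lit 462, nat_lit 420, nat_lit 210, nat_lit 168, nat_lit 126, nat_lit 252, nat_lit 210, nat_lit 168, nat_lit 294, nat_lit 252, nat_lit 336, nat_lit 294, nat_lit 420, nat_lit 210, nat_lit 252, nat_lit 462, nat_lit 420, nat_lit 210, nat_lit 168, nat_lit 126, nat_lit 84, nat_lit 42, nat_lit 84, nat_lit 126, nat_lit 168, nat_lit 210, nat_lit 420, nat_lit 462, nat_lit 252, nat_lit 210, nat_lit 420, nat_lit 294, nat_lit 336, nat_lit 252, nat_lit 294, nat_lit 168, nat_lit 210, nat_lit 252, nat_lit 126, nat_lit 168, nat_lit 210, nat_lit 420, nat_lit 462, nat_lit 294, nat_lit 210, nat_lit 252, nat_lit 126, nat_lit 168, nat_lit 210, nat_lit 420, nat_lit 378, nat_lit 336, nat_lit 294, nat_lit 252, nat_lit 210, nat_lit 168, nat_lit 126, nat_lit 84, nat_lit 126, nat_lit 168, nat_lit 210, nat_lit 252, nat_lit 294, nat_lit 336, nat_lit 378, nat_lit 420, nat_lit 210, nat_lit 168, nat_lit 126, nat_lit 252])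
(.node (nat_lit 38) (.leaf 159 140 [nat_lit 168, nat_lit 126, nat_lit 84, nat_lit 42, nat_lit 84, nat_lit 126, nat_lit 168, nat_lit 210, nat_lit 420, nat_lit 462, nat_lit 252, nat_lit 210, nat_lit 420, nat_lit 294, nat_lit 336, nat_lit 252, nat_lit 294, nat_lit 168, nat_lit 210, nat_lit 252, nat_lit 126, nat_lit 168, nat_lit 210, nat_lit 420, nat_lit 462, nat_lit 294, nat_lit 210, nat_lit 252, nat_lit 126, nat_lit 168, nat_lit 210, nat_lit 420, nat_lit 378, nat_lit 336, nat_lit 294, nat_lit 252, nat_lit 210, nat_lit 168, nat_lit 126, nat_lit 84, nat_lit 126, nat_lit 168, nat_lit 210, nat_lit 252, nat_lit 294, nat_lit 336, nat_lit 378, nat_lit 420, nat_lit 210, nat_lit 168, nat_lit 126, nat_lit 252, nat_lit 210, nat_lit 294, nat_lit 462, nat_lit 420, nat_lit 210, nat_lit 168, nat_lit 126, nat_lit 252, nat_lit 210, nat_lit 168, nat_lit 294, nat_lit 252, nat_lit 336, nat_lit 294, nat_lit 420, nat_lit 210, nat_lit 252, nat_lit 462, nat_lit 420, nat_lit 210, nat_lit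 168, nat_lit 126, nat_lit 84, nat_lit 42, nat_lit 84, nat_lit 126, nat_lit 168, nat_lit 210, nat_lit 420, nat_lit 462, nat_lit 252, nat_lit 210, nat_lit 420, nat_lit 294, nat_lit 336, nat_lit 252, nat_lit 294, nat_lit 168, nat_lit 210, nat_lit 252, nat_lit 126, nat_lit 168, nat_lit 210, nat_lit 420, nat_lit 462, nat_lit 294, nat_lit 210, nat_lit 252, nat_lit 126, nat_lit 168, nat_lit 210, nat_lit 420, nat_lit 378, nat_lit 336, nat_lit 294, nat_lit 252, nat_lit 210, nat_lit 168, nat_lit 126, nat_lit 84, nat_lit 126, nat_lit 168, nat_lit 210, nat_lit 252, nat_lit 294, nat_lit 336, nat_lit 378, nat_lit 420, nat_lit 210, nat_lit 168, nat_lit 126, nat_lit 252, nat_lit 210, nat_lit 294, nat_lit 462, nat_lit 420, nat_lit 210, nat_lit 168, nat_lit 126, nat_lit 252, nat_lit 210, nat_lit 168, nat_lit 294, nat_lit 252, nat_lit 336, nat_lit 294, nat_lit 420, nat_lit 210, nat_lit 252, nat_lit 462, nat_lit 420])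
(.node (nat_lit 39) (.leaf 159 76 [nat_lit 420, nat_lit 462, nat_lit 252, nat_lit 210, nat_lit 420, nat_lit 294, nat_lit 336, nat_lit 252, nat_lit 294, nat_lit 168, nat_lit 210, nat_lit 252, nat_lit 126, nat_lit 168, nat_lit 210, nat_lit 420, nat_lit 462, nat_lit 294, nat_lit 210, nat_lit 252, nat_lit 126, nat_lit 168, nat_lit 210, nat_lit 420, nat_lit 378, nat_lit 336, nat_lit 294, nat_lit 252, nat_lit 210, nat_lit 168, nat_lit 126, nat_lit 84, nat_lit 126, nat_lit 168, nat_lit 210, nat_lit 252, nat_lit 294, nat_lit 336, nat_lit 378, nat_lit 420, nat_lit 210, nat_lit 168, nat_lit 126, nat_lit 252, nat_lit 210, nat_lit 294, nat_lit 462, nat_lit 420, nat_lit 210, nat_lit 168, nat_lit 126, nat_lit 252, nat_lit 210, nat_lit 168, nat_lit 294, nat_lit 252, nat_lit 336, nat_lit 294, nat_lit 420, nat_lit 210, nat_lit 252, nat_lit 462, nat_lit 420, nat_lit 210, nat_lit 168, nat_lit 126, nat_lit 84, nat_lit 42, nat_lit 84, nat_lit 126, nat_lit 168, nat_lit 210, nat_lit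 420, nat_lit 462, nat_lit 252, nat_lit 210, nat_lit 420, nat_lit 294, nat_lit 336, nat_lit 252, nat_lit 294, nat_lit 168, nat_lit 210, nat_lit 252, nat_lit 126, nat_lit 168, nat_lit 210, nat_lit 420, nat_lit 462, nat_lit 294, nat_lit 210, nat_lit 252, nat_lit 126, nat_lit 168, nat_lit 210, nat_lit 420, nat_lit 378, nat_lit 336, nat_lit 294, nat_lit 252, nat_lit 210, nat_lit 168, nat_lit 126, nat_lit 84, nat_lit 126, nat_lit 168, nat_lit 210, nat_lit 252, nat_lit 294, nat_lit 336, nat_lit 378, nat_lit 420, nat_lit 210, nat_lit 168, nat_lit 126, nat_lit 252, nat_lit 210, nat_lit 294, nat_lit 462, nat_lit 420, nat_lit 210, nat_lit 168, nat_lit 126, nat_lit 252, nat_lit 210, nat_lit 168, nat_lit 294, nat_lit 252, nat_lit 336, nat_lit 294, nat_lit 420, nat_lit 210, nat_lit 252, nat_lit 462, nat_lit 420, nat_lit 210, nat_lit 168, nat_lit 126, nat_lit 84, nat_lit 42, nat_lit 84, nat_lit 126, nat_lit 168])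
(.leaf 159 105 [nat_lit 168, nat_lit 126, nat_lit 84, nat_lit 126, nat_lit 168, nat_lit 210, nat_lit 252, nat_lit 294, nat_lit 336, nat_lit 378, nat_lit 420, nat_lit 210, nat_lit 168, nat_lit 126, nat_lit 252, nat_lit 210, nat_lit 294, nat_lit 462, nat_lit 420, nat_lit 210, nat_lit 168, nat_lit 126, nat_lit 252, nat_lit 210, nat_lit 168, nat_lit 294, nat_lit 252, nat_lit 336, nat_lit 294, nat_lit 420, nat_lit 210, nat_lit 252, nat_lit 462, nat_lit 420, nat_lit 210, nat_lit 168, nat_lit 126, nat_lit 84, nat_lit 42, nat_lit 84, nat_lit 126, nat_lit 168, nat_lit 210, nat_lit 420, nat_lit 462, nat_lit 252, nat_lit 210, nat_lit 420, nat_lit 294, nat_lit 336, nat_lit 252, nat_lit 294, nat_lit 168, nat_lit 210, nat_lit 252, nat_lit 126, nat_lit 168, nat_lit 210, nat_lit 420, nat_lit 462, nat_lit 294, nat_lit 210, nat_lit 252, nat_lit 126, nat_lit 168, nat_lit 210, nat_lit 420, nat_lit 378, nat_lit 336, nat_lit 294, nat_lit 252, nat_lit 210, nat_lit 168, nat_lit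 126, nat_lit 84, nat_lit 126, nat_lit 168, nat_lit 210, nat_lit 252, nat_lit 294, nat_lit 336, nat_lit 378, nat_lit 420, nat_lit 210, nat_lit 168, nat_lit 126, nat_lit 252, nat_lit 210, nat_lit 294, nat_lit 462, nat_lit 420, nat_lit 210, nat_lit 168, nat_lit 126, nat_lit 252, nat_lit 210, nat_lit 168, nat_lit 294, nat_lit 252, nat_lit 336, nat_lit 294, nat_lit 420, nat_lit 210, nat_lit 252, nat_lit 462, nat_lit 420, nat_lit 210, nat_lit 168, nat_lit 126, nat_lit 84, nat_lit 42, nat_lit 84, nat_lit 126, nat_lit 168, nat_lit 210, nat_lit 420, nat_lit 462, nat_lit 252, nat_lit 210, nat_lit 420, nat_lit 294, nat_lit 336, nat_lit 252, nat_lit 294, nat_lit 168, nat_lit 210, nat_lit 252, nat_lit 126, nat_lit 168, nat_lit 210, nat_lit 420, nat_lit 462, nat_lit 294, nat_lit 210, nat_lit 252, nat_lit 126, nat_lit 168, nat_lit 210, nat_lit 420, nat_lit 378, nat_lit 336, nat_lit 294, nat_lit 252]))))))))))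
(.leaf 0 0 [])))))
noncomputable def wt6 : LT := (.node (nat_lit 2) (.node (nat_lit 0) (.leaf 35 3 [nat_lit 0, nat_lit 252, nat_lit 0])
(.node (nat_lit 1) (.leaf 135 0 [nat_lit 462, nat_lit 252, nat_lit 462])
(.leaf 133 0 [nat_lit 420, nat_lit 252, nat_lit 420])))
(.node (nat_lit 6) (.node (nat_lit 4) (.node (nat_lit 3) (.leaf 131 0 [nat_lit 378, nat_lit 252, nat_lit 378])
(.leaf 55 3 [nat_lit 42, nat_lit 252, nat_lit 42]))
(.node (nat_lit 5) (.leaf 129 0 [nat_lit 336, nat_lit 252, nat_lit 336])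
(.leaf 73 3 [nat_lit 84, nat_lit 252, nat_lit 84])))
(.node (nat_lit 9) (.node (nat_lit 7) (.leaf 89 3 [nat_lit 126, nat_lit 252, nat_lit 126])
(.node (nat_lit 8) (.leaf 103 3 [nat_lit 168, nat_lit 252, nat_lit 168])
(.leaf 115 5 [nat_lit 210, nat_lit 252, nat_lit 210, nat_lit 252, nat_lit 210])))
(.node (nat_lit 31) (.node (nat_lit 10) (.leaf 127 0 [nat_lit 294, nat_lit 252, nat_lit 294, nat_lit 252, nat_lit 294])
(.node (nat_lit 14) (.node (nat_lit 12) (.node (nat_lit 11) (.leaf 157 39 [nat_lit 210, nat_lit 168, nat_lit 420, nat_lit 210, nat_lit 252, nat_lit 294, nat_lit 126, nat_lit 168, nat_lit 210, nat_lit 420, nat_lit 252, nat_lit 210, nat_lit 168, nat_lit 126, nat_lit 84, nat_lit 126, nat_lit 168, nat_lit 210, nat_lit 252, nat_lit 420, nat_lit 210, nat_lit 168, nat_lit 126, nat_lit 84, nat_lit 0, nat_lit 210, nat_lit 420, nat_lit 252, nat_lit 210, nat_lit 168, nat_lit 210, nat_lit 252, nat_lit 420, nat_lit 210, nat_lit 420, nat_lit 252, nat_lit 168,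 nat_lit 294, nat_lit 252, nat_lit 210, nat_lit 420, nat_lit 168, nat_lit 210, nat_lit 252, nat_lit 126, nat_lit 168, nat_lit 210, nat_lit 420, nat_lit 294, nat_lit 252, nat_lit 210, nat_lit 168, nat_lit 126, nat_lit 84, nat_lit 126, nat_lit 168, nat_lit 210, nat_lit 252, nat_lit 294, nat_lit 420, nat_lit 210, nat_lit 168, nat_lit 126])
(.leaf 157 44 [nat_lit 294, nat_lit 126, nat_lit 168, nat_lit 210, nat_lit 420, nat_lit 252, nat_lit 210, nat_lit 168, nat_lit 126, nat_lit 84, nat_lit 126, nat_lit 168, nat_lit 210, nat_lit 252, nat_lit 420, nat_lit 210, nat_lit 168, nat_lit 126, nat_lit 84, nat_lit 0, nat_lit 210, nat_lit 420, nat_lit 252, nat_lit 210, nat_lit 168, nat_lit 210, nat_lit 252, nat_lit 420, nat_lit 210, nat_lit 420, nat_lit 252, nat_lit 168, nat_lit 294, nat_lit 252, nat_lit 210, nat_lit 420, nat_lit 168, nat_lit 210, nat_lit 252, nat_lit 126, nat_lit 168, nat_lit 210, nat_lit 420, nat_lit 294, nat_lit 252, nat_lit 210, nat_lit 168, nat_lit 126,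 nat_lit 84, nat_lit 126, nat_lit 168, nat_lit 210, nat_lit 252, nat_lit 294, nat_lit 420, nat_lit 210, nat_lit 168, nat_lit 126, nat_lit 252, nat_lit 210, nat_lit 168, nat_lit 420, nat_lit 210]))
(.node (nat_lit 13) (.leaf 157 14 [nat_lit 210, nat_lit 420, nat_lit 168, nat_lit 210, nat_lit 252, nat_lit 126, nat_lit 168, nat_lit 210, nat_lit 420, nat_lit 294, nat_lit 252, nat_lit 210, nat_lit 168, nat_lit 126, nat_lit 84, nat_lit 126, nat_lit 168, nat_lit 210, nat_lit 252, nat_lit 294, nat_lit 420, nat_lit 210, nat_lit 168, nat_lit 126, nat_lit 252, nat_lit 210, nat_lit 168, nat_lit 420, nat_lit 210, nat_lit 252, nat_lit 294, nat_lit 126, nat_lit 168, nat_lit 210, nat_lit 420, nat_lit 252, nat_lit 210, nat_lit 168, nat_lit 126, nat_lit 84, nat_lit 126, nat_lit 168, nat_lit 210, nat_lit 252, nat_lit 420, nat_lit 210, nat_lit 168, nat_lit 126, nat_lit 84, nat_lit 0, nat_lit 210, nat_lit 420, nat_lit 252, nat_lit 210, nat_lit 168, nat_lit 210, nat_lit 252, nat_lit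 420, nat_lit 210, nat_lit 420, nat_lit 252, nat_lit 168, nat_lit 294])
(.leaf 157 50 [nat_lit 210, nat_lit 168, nat_lit 126, nat_lit 84, nat_lit 126, nat_lit 168, nat_lit 210, nat_lit 252, nat_lit 420, nat_lit 210, nat_lit 168, nat_lit 126, nat_lit 84, nat_lit 0, nat_lit 210, nat_lit 420, nat_lit 252, nat_lit 210, nat_lit 168, nat_lit 210, nat_lit 252, nat_lit 420, nat_lit 210, nat_lit 420, nat_lit 252, nat_lit 168, nat_lit 294, nat_lit 252, nat_lit 210, nat_lit 420, nat_lit 168, nat_lit 210, nat_lit 252, nat_lit 126, nat_lit 168, nat_lit 210, nat_lit 420, nat_lit 294, nat_lit 252, nat_lit 210, nat_lit 168, nat_lit 126, nat_lit 84, nat_lit 126, nat_lit 168, nat_lit 210, nat_lit 252, nat_lit 294, nat_lit 420, nat_lit 210, nat_lit 168, nat_lit 126, nat_lit 252, nat_lit 210, nat_lit 168, nat_lit 420, nat_lit 210, nat_lit 252, nat_lit 294, nat_lit 126, nat_lit 168, nat_lit 210, nat_lit 420])))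
(.node (nat_lit 18) (.node (nat_lit 16) (.node (nat_lit 15) (.leaf 157 33 [nat_lit 294, nat_lit 420, nat_lit 210, nat_lit 168, nat_lit 126, nat_lit 252, nat_lit 210, nat_lit 168, nat_lit 420, nat_lit 210, nat_lit 252, nat_lit 294, nat_lit 126, nat_lit 168, nat_lit 210, nat_lit 420, nat_lit 252, nat_lit 210, nat_lit 168, nat_lit 126, nat_lit 84, nat_lit 126, nat_lit 168, nat_lit 210, nat_lit 252, nat_lit 420, nat_lit 210, nat_lit 168, nat_lit 126, nat_lit 84, nat_lit 0, nat_lit 210, nat_lit 420, nat_lit 252, nat_lit 210, nat_lit 168, nat_lit 210, nat_lit 252, nat_lit 420, nat_lit 210, nat_lit 420, nat_lit 252, nat_lit 168, nat_lit 294, nat_lit 252, nat_lit 210, nat_lit 420, nat_lit 168, nat_lit 210, nat_lit 252, nat_lit 126, nat_lit 168, nat_lit 210, nat_lit 420, nat_lit 294, nat_lit 252, nat_lit 210, nat_lit 168, nat_lit 126, nat_lit 84, nat_lit 126, nat_lit 168, nat_lit 210])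
(.leaf 157 58 [nat_lit 420, nat_lit 210, nat_lit 168, nat_lit 126, nat_lit 84, nat_lit 0, nat_lit 210, nat_lit 420, nat_lit 252, nat_lit 210, nat_lit 168, nat_lit 210, nat_lit 252, nat_lit 420, nat_lit 210, nat_lit 420, nat_lit 252, nat_lit 168, nat_lit 294, nat_lit 252, nat_lit 210, nat_lit 420, nat_lit 168, nat_lit 210, nat_lit 252, nat_lit 126, nat_lit 168, nat_lit 210, nat_lit 420, nat_lit 294, nat_lit 252, nat_lit 210, nat_lit 168, nat_lit 126, nat_lit 84, nat_lit 126, nat_lit 168, nat_lit 210, nat_lit 252, nat_lit 294, nat_lit 420, nat_lit 210, nat_lit 168, nat_lit 126, nat_lit 252, nat_lit 210, nat_lit 168, nat_lit 420, nat_lit 210, nat_lit 252, nat_lit 294, nat_lit 126, nat_lit 168, nat_lit 210, nat_lit 420, nat_lit 252, nat_lit 210, nat_lit 168, nat_lit 126, nat_lit 84, nat_lit 126, nat_lit 168, nat_lit 210]))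
(.node (nat_lit 17) (.leaf 157 25 [nat_lit 210, nat_lit 168, nat_lit 126, nat_lit 84, nat_lit 126, nat_lit 168, nat_lit 210, nat_lit 252, nat_lit 294, nat_lit 420, nat_lit 210, nat_lit 168, nat_lit 126, nat_lit 252, nat_lit 210, nat_lit 168, nat_lit 420, nat_lit 210, nat_lit 252, nat_lit 294, nat_lit 126, nat_lit 168, nat_lit 210, nat_lit 420, nat_lit 252, nat_lit 210, nat_lit 168, nat_lit 126, nat_lit 84, nat_lit 126, nat_lit 168, nat_lit 210, nat_lit 252, nat_lit 420, nat_lit 210, nat_lit 168, nat_lit 126, nat_lit 84, nat_lit 0, nat_lit 210, nat_lit 420, nat_lit 252, nat_lit 210, nat_lit 168, nat_lit 210, nat_lit 252, nat_lit 420, nat_lit 210, nat_lit 420, nat_lit 252, nat_lit 168, nat_lit 294, nat_lit 252, nat_lit 210, nat_lit 420, nat_lit 168, nat_lit 210, nat_lit 252, nat_lit 126, nat_lit 168, nat_lit 210, nat_lit 420, nat_lit 294])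
(.leaf 157 19 [nat_lit 126, nat_lit 168, nat_lit 210, nat_lit 420, nat_lit 294, nat_lit 252, nat_lit 210, nat_lit 168, nat_lit 126, nat_lit 84, nat_lit 126, nat_lit 168, nat_lit 210, nat_lit 252, nat_lit 294, nat_lit 420, nat_lit 210, nat_lit 168, nat_lit 126, nat_lit 252, nat_lit 210, nat_lit 168, nat_lit 420, nat_lit 210, nat_lit 252, nat_lit 294, nat_lit 126, nat_lit 168, nat_lit 210, nat_lit 420, nat_lit 252, nat_lit 210, nat_lit 168, nat_lit 126, nat_lit 84, nat_lit 126, nat_lit 168, nat_lit 210, nat_lit 252, nat_lit 420, nat_lit 210, nat_lit 168, nat_lit 126, nat_lit 84, nat_lit 0, nat_lit 210, nat_lit 420, nat_lit 252, nat_lit 210, nat_lit 168, nat_lit 210, nat_lit 252, nat_lit 420, nat_lit 210, nat_lit 420, nat_lit 252, nat_lit 168, nat_lit 294, nat_lit 252, nat_lit 210, nat_lit 420, nat_lit 168, nat_lit 210])))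
(.node (nat_lit 22) (.node (nat_lit 20) (.node (nat_lit 19) (.leaf 159 137 [nat_lit 462, nat_lit 420, nat_lit 210, nat_lit 168, nat_lit 126, nat_lit 84, nat_lit 42, nat_lit 84, nat_lit 126, nat_lit 168, nat_lit 210, nat_lit 420, nat_lit 462, nat_lit 252, nat_lit 210, nat_lit 420, nat_lit 294, nat_lit 336, nat_lit 252, nat_lit 294, nat_lit 168, nat_lit 210, nat_lit 252, nat_lit 126, nat_lit 168, nat_lit 210, nat_lit 420, nat_lit 462, nat_lit 294, nat_lit 210, nat_lit 252, nat_lit 126, nat_lit 168, nat_lit 210, nat_lit 420, nat_lit 378, nat_lit 336, nat_lit 294, nat_lit 252, nat_lit 210, nat_lit 168, nat_lit 126, nat_lit 84, nat_lit 126, nat_lit 168, nat_lit 210, nat_lit 252, nat_lit 294, nat_lit 336, nat_lit 378, nat_lit 420, nat_lit 210, nat_lit 168, nat_lit 126, nat_lit 252, nat_lit 210, nat_lit 294, nat_lit 462, nat_lit 420, nat_lit 210, nat_lit 168, nat_lit 126, nat_lit 252, nat_lit 210, nat_lit 168, nat_lit 294, nat_lit 252, nat_lit 336, nat_lit 294,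 nat_lit 420, nat_lit 210, nat_lit 252, nat_lit 462, nat_lit 420, nat_lit 210, nat_lit 168, nat_lit 126, nat_lit 84, nat_lit 42, nat_lit 84, nat_lit 126, nat_lit 168, nat_lit 210, nat_lit 420, nat_lit 462, nat_lit 252, nat_lit 210, nat_lit 420, nat_lit 294, nat_lit 336, nat_lit 252, nat_lit 294, nat_lit 168, nat_lit 210, nat_lit 252, nat_lit 126, nat_lit 168, nat_lit 210, nat_lit 420, nat_lit 462, nat_lit 294, nat_lit 210, nat_lit 252, nat_lit 126, nat_lit 168, nat_lit 210, nat_lit 420, nat_lit 378, nat_lit 336, nat_lit 294, nat_lit 252, nat_lit 210, nat_lit 168, nat_lit 126, nat_lit 84, nat_lit 126, nat_lit 168, nat_lit 210, nat_lit 252, nat_lit 294, nat_lit 336, nat_lit 378, nat_lit 420, nat_lit 210, nat_lit 168, nat_lit 126, nat_lit 252, nat_lit 210, nat_lit 294, nat_lit 462, nat_lit 420, nat_lit 210, nat_lit 168, nat_lit 126, nat_lit 252, nat_lit 210, nat_lit 168, nat_lit 294, nat_lit 252, nat_lit 336, nat_lit 294, nat_lit 420, nat_lit 210])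
(.leaf 157 3 [nat_lit 210, nat_lit 168, nat_lit 210, nat_lit 252, nat_lit 420, nat_lit 210, nat_lit 420, nat_lit 252, nat_lit 168, nat_lit 294, nat_lit 252, nat_lit 210, nat_lit 420, nat_lit 168, nat_lit 210, nat_lit 252, nat_lit 126, nat_lit 168, nat_lit 210, nat_lit 420, nat_lit 294, nat_lit 252, nat_lit 210, nat_lit 168, nat_lit 126, nat_lit 84, nat_lit 126, nat_lit 168, nat_lit 210, nat_lit 252, nat_lit 294, nat_lit 420, nat_lit 210, nat_lit 168, nat_lit 126, nat_lit 252, nat_lit 210, nat_lit 168, nat_lit 420, nat_lit 210, nat_lit 252, nat_lit 294, nat_lit 126, nat_lit 168, nat_lit 210, nat_lit 420, nat_lit 252, nat_lit 210, nat_lit 168, nat_lit 126, nat_lit 84, nat_lit 126, nat_lit 168, nat_lit 210, nat_lit 252, nat_lit 420, nat_lit 210, nat_lit 168, nat_lit 126, nat_lit 84, nat_lit 0, nat_lit 210, nat_lit 420]))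
(.node (nat_lit 21) (.leaf 157 11 [nat_lit 168, nat_lit 294, nat_lit 252, nat_lit 210, nat_lit 420, nat_lit 168, nat_lit 210, nat_lit 252, nat_lit 126, nat_lit 168, nat_lit 210, nat_lit 420, nat_lit 294, nat_lit 252, nat_lit 210, nat_lit 168, nat_lit 126, nat_lit 84, nat_lit 126, nat_lit 168, nat_lit 210, nat_lit 252, nat_lit 294, nat_lit 420, nat_lit 210, nat_lit 168, nat_lit 126, nat_lit 252, nat_lit 210, nat_lit 168, nat_lit 420, nat_lit 210, nat_lit 252, nat_lit 294, nat_lit 126, nat_lit 168, nat_lit 210, nat_lit 420, nat_lit 252, nat_lit 210, nat_lit 168, nat_lit 126, nat_lit 84, nat_lit 126, nat_lit 168, nat_lit 210, nat_lit 252, nat_lit 420, nat_lit 210, nat_lit 168, nat_lit 126, nat_lit 84, nat_lit 0, nat_lit 210, nat_lit 420, nat_lit 252, nat_lit 210, nat_lit 168, nat_lit 210, nat_lit 252, nat_lit 420, nat_lit 210, nat_lit 420])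
(.leaf 157 7 [nat_lit 420, nat_lit 210, nat_lit 420, nat_lit 252, nat_lit 168, nat_lit 294, nat_lit 252, nat_lit 210, nat_lit 420, nat_lit 168, nat_lit 210, nat_lit 252, nat_lit 126, nat_lit 168, nat_lit 210, nat_lit 420, nat_lit 294, nat_lit 252, nat_lit 210, nat_lit 168, nat_lit 126, nat_lit 84, nat_lit 126, nat_lit 168, nat_lit 210, nat_lit 252, nat_lit 294, nat_lit 420, nat_lit 210, nat_lit 168, nat_lit 126, nat_lit 252, nat_lit 210, nat_lit 168, nat_lit 420, nat_lit 210, nat_lit 252, nat_lit 294, nat_lit 126, nat_lit 168, nat_lit 210, nat_lit 420, nat_lit 252, nat_lit 210, nat_lit 168, nat_lit 126, nat_lit 84, nat_lit 126, nat_lit 168, nat_lit 210, nat_lit 252, nat_lit 420, nat_lit 210, nat_lit 168, nat_lit 126, nat_lit 84, nat_lit 0, nat_lit 210, nat_lit 420, nat_lit 252, nat_lit 210, nat_lit 168, nat_lit 210])))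
(.node (nat_lit 25) (.node (nat_lit 23) (.leaf 159 84 [nat_lit 294, nat_lit 168, nat_lit 210, nat_lit 252, nat_lit 126, nat_lit 168, nat_lit 210, nat_lit 420, nat_lit 462, nat_lit 294, nat_lit 210, nat_lit 252, nat_lit 126, nat_lit 168, nat_lit 210, nat_lit 420, nat_lit 378, nat_lit 336, nat_lit 294, nat_lit 252, nat_lit 210, nat_lit 168, nat_lit 126, nat_lit 84, nat_lit 126, nat_lit 168, nat_lit 210, nat_lit 252, nat_lit 294, nat_lit 336, nat_lit 378, nat_lit 420, nat_lit 210, nat_lit 168, nat_lit 126, nat_lit 252, nat_lit 210, nat_lit 294, nat_lit 462, nat_lit 420, nat_lit 210, nat_lit 168, nat_lit 126, nat_lit 252, nat_lit 210, nat_lit 168, nat_lit 294, nat_lit 252, nat_lit 336, nat_lit 294, nat_lit 420, nat_lit 210, nat_lit 252, nat_lit 462, nat_lit 420, nat_lit 210, nat_lit 168, nat_lit 126, nat_lit 84, nat_lit 42, nat_lit 84, nat_lit 126, nat_lit 168, nat_lit 210, nat_lit 420, nat_lit 462, nat_lit 252, nat_lit 210, nat_lit 420, nat_lit 294, nat_lit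 336, nat_lit 252, nat_lit 294, nat_lit 168, nat_lit 210, nat_lit 252, nat_lit 126, nat_lit 168, nat_lit 210, nat_lit 420, nat_lit 462, nat_lit 294, nat_lit 210, nat_lit 252, nat_lit 126, nat_lit 168, nat_lit 210, nat_lit 420, nat_lit 378, nat_lit 336, nat_lit 294, nat_lit 252, nat_lit 210, nat_lit 168, nat_lit 126, nat_lit 84, nat_lit 126, nat_lit 168, nat_lit 210, nat_lit 252, nat_lit 294, nat_lit 336, nat_lit 378, nat_lit 420, nat_lit 210, nat_lit 168, nat_lit 126, nat_lit 252, nat_lit 210, nat_lit 294, nat_lit 462, nat_lit 420, nat_lit 210, nat_lit 168, nat_lit 126, nat_lit 252, nat_lit 210, nat_lit 168, nat_lit 294, nat_lit 252, nat_lit 336, nat_lit 294, nat_lit 420, nat_lit 210, nat_lit 252, nat_lit 462, nat_lit 420, nat_lit 210, nat_lit 168, nat_lit 126, nat_lit 84, nat_lit 42, nat_lit 84, nat_lit 126, nat_lit 168, nat_lit 210, nat_lit 420, nat_lit 462, nat_lit 252, nat_lit 210, nat_lit 420, nat_lit 294, nat_lit 336])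
(.node (nat_lit 24) (.leaf 159 132 [nat_lit 336, nat_lit 294, nat_lit 420, nat_lit 210, nat_lit 252, nat_lit 462, nat_lit 420, nat_lit 210, nat_lit 168, nat_lit 126, nat_lit 84, nat_lit 42, nat_lit 84, nat_lit 126, nat_lit 168, nat_lit 210, nat_lit 420, nat_lit 462, nat_lit 252, nat_lit 210, nat_lit 420, nat_lit 294, nat_lit 336, nat_lit 252, nat_lit 294, nat_lit 168, nat_lit 210, nat_lit 252, nat_lit 126, nat_lit 168, nat_lit 210, nat_lit 420, nat_lit 462, nat_lit 294, nat_lit 210, nat_lit 252, nat_lit 126, nat_lit 168, nat_lit 210, nat_lit 420, nat_lit 378, nat_lit 336, nat_lit 294, nat_lit 252, nat_lit 210, nat_lit 168, nat_lit 126, nat_lit 84, nat_lit 126, nat_lit 168, nat_lit 210, nat_lit 252, nat_lit 294, nat_lit 336, nat_lit 378, nat_lit 420, nat_lit 210, nat_lit 168, nat_lit 126, nat_lit 252, nat_lit 210, nat_lit 294, nat_lit 462, nat_lit 420, nat_lit 210, nat_lit 168, nat_lit 126, nat_lit 252, nat_lit 210, nat_lit 168, nat_lit 294, nat_lit 252, nat_lit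 336, nat_lit 294, nat_lit 420, nat_lit 210, nat_lit 252, nat_lit 462, nat_lit 420, nat_lit 210, nat_lit 168, nat_lit 126, nat_lit 84, nat_lit 42, nat_lit 84, nat_lit 126, nat_lit 168, nat_lit 210, nat_lit 420, nat_lit 462, nat_lit 252, nat_lit 210, nat_lit 420, nat_lit 294, nat_lit 336, nat_lit 252, nat_lit 294, nat_lit 168, nat_lit 210, nat_lit 252, nat_lit 126, nat_lit 168, nat_lit 210, nat_lit 420, nat_lit 462, nat_lit 294, nat_lit 210, nat_lit 252, nat_lit 126, nat_lit 168, nat_lit 210, nat_lit 420, nat_lit 378, nat_lit 336, nat_lit 294, nat_lit 252, nat_lit 210, nat_lit 168, nat_lit 126, nat_lit 84, nat_lit 126, nat_lit 168, nat_lit 210, nat_lit 252, nat_lit 294, nat_lit 336, nat_lit 378, nat_lit 420, nat_lit 210, nat_lit 168, nat_lit 126, nat_lit 252, nat_lit 210, nat_lit 294, nat_lit 462, nat_lit 420, nat_lit 210, nat_lit 168, nat_lit 126, nat_lit 252, nat_lit 210, nat_lit 168, nat_lit 294])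
(.leaf 159 112 [nat_lit 294, nat_lit 336, nat_lit 378, nat_lit 420, nat_lit 210, nat_lit 168, nat_lit 126, nat_lit 252, nat_lit 210, nat_lit 294, nat_lit 462, nat_lit 420, nat_lit 210, nat_lit 168, nat_lit 126, nat_lit 252, nat_lit 210, nat_lit 168, nat_lit 294, nat_lit 252, nat_lit 336, nat_lit 294, nat_lit 420, nat_lit 210, nat_lit 252, nat_lit 462, nat_lit 420, nat_lit 210, nat_lit 168, nat_lit 126, nat_lit 84, nat_lit 42, nat_lit 84, nat_lit 126, nat_lit 168, nat_lit 210, nat_lit 420, nat_lit 462, nat_lit 252, nat_lit 210, nat_lit 420, nat_lit 294, nat_lit 336, nat_lit 252, nat_lit 294, nat_lit 168, nat_lit 210, nat_lit 252, nat_lit 126, nat_lit 168, nat_lit 210, nat_lit 420, nat_lit 462, nat_lit 294, nat_lit 210, nat_lit 252, nat_lit 126, nat_lit 168, nat_lit 210, nat_lit 420, nat_lit 378, nat_lit 336, nat_lit 294, nat_lit 252, nat_lit 210, nat_lit 168, nat_lit 126, nat_lit 84, nat_lit 126, nat_lit 168, nat_lit 210, nat_lit 252, nat_lit 294, nat_lit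 336, nat_lit 378, nat_lit 420, nat_lit 210, nat_lit 168, nat_lit 126, nat_lit 252, nat_lit 210, nat_lit 294, nat_lit 462, nat_lit 420, nat_lit 210, nat_lit 168, nat_lit 126, nat_lit 252, nat_lit 210, nat_lit 168, nat_lit 294, nat_lit 252, nat_lit 336, nat_lit 294, nat_lit 420, nat_lit 210, nat_lit 252, nat_lit 462, nat_lit 420, nat_lit 210, nat_lit 168, nat_lit 126, nat_lit 84, nat_lit 42, nat_lit 84, nat_lit 126, nat_lit 168, nat_lit 210, nat_lit 420, nat_lit 462, nat_lit 252, nat_lit 210, nat_lit 420, nat_lit 294, nat_lit 336, nat_lit 252, nat_lit 294, nat_lit 168, nat_lit 210, nat_lit 252, nat_lit 126, nat_lit 168, nat_lit 210, nat_lit 420, nat_lit 462, nat_lit 294, nat_lit 210, nat_lit 252, nat_lit 126, nat_lit 168, nat_lit 210, nat_lit 420, nat_lit 378, nat_lit 336, nat_lit 294, nat_lit 252, nat_lit 210, nat_lit 168, nat_lit 126, nat_lit 84, nat_lit 126, nat_lit 168, nat_lit 210])))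
(.node (nat_lit 27) (.node (nat_lit 26) (.leaf 159 120 [nat_lit 210, nat_lit 294, nat_lit 462, nat_lit 420, nat_lit 210, nat_lit 168, nat_lit 126, nat_lit 252, nat_lit 210, nat_lit 168, nat_lit 294, nat_lit 252, nat_lit 336, nat_lit 294, nat_lit 420, nat_lit 210, nat_lit 252, nat_lit 462, nat_lit 420, nat_lit 210, nat_lit 168, nat_lit 126, nat_lit 84, nat_lit 42, nat_lit 84, nat_lit 126, nat_lit 168, nat_lit 210, nat_lit 420, nat_lit 462, nat_lit 252, nat_lit 210, nat_lit 420, nat_lit 294, nat_lit 336, nat_lit 252, nat_lit 294, nat_lit 168, nat_lit 210, nat_lit 252, nat_lit 126, nat_lit 168, nat_lit 210, nat_lit 420, nat_lit 462, nat_lit 294, nat_lit 210, nat_lit 252, nat_lit 126, nat_lit 168, nat_lit 210, nat_lit 420, nat_lit 378, nat_lit 336, nat_lit 294, nat_lit 252, nat_lit 210, nat_lit 168, nat_lit 126, nat_lit 84, nat_lit 126, nat_lit 168, nat_lit 210, nat_lit 252, nat_lit 294, nat_lit 336, nat_lit 378, nat_lit 420, nat_lit 210, nat_lit 168, nat_lit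 126, nat_lit 252, nat_lit 210, nat_lit 294, nat_lit 462, nat_lit 420, nat_lit 210, nat_lit 168, nat_lit 126, nat_lit 252, nat_lit 210, nat_lit 168, nat_lit 294, nat_lit 252, nat_lit 336, nat_lit 294, nat_lit 420, nat_lit 210, nat_lit 252, nat_lit 462, nat_lit 420, nat_lit 210, nat_lit 168, nat_lit 126, nat_lit 84, nat_lit 42, nat_lit 84, nat_lit 126, nat_lit 168, nat_lit 210, nat_lit 420, nat_lit 462, nat_lit 252, nat_lit 210, nat_lit 420, nat_lit 294, nat_lit 336, nat_lit 252, nat_lit 294, nat_lit 168, nat_lit 210, nat_lit 252, nat_lit 126, nat_lit 168, nat_lit 210, nat_lit 420, nat_lit 462, nat_lit 294, nat_lit 210, nat_lit 252, nat_lit 126, nat_lit 168, nat_lit 210, nat_lit 420, nat_lit 378, nat_lit 336, nat_lit 294, nat_lit 252, nat_lit 210, nat_lit 168, nat_lit 126, nat_lit 84, nat_lit 126, nat_lit 168, nat_lit 210, nat_lit 252, nat_lit 294, nat_lit 336, nat_lit 378, nat_lit 420, nat_lit 210, nat_lit 168, nat_lit 126])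
(.leaf 159 79 [nat_lit 210, nat_lit 420, nat_lit 294, nat_lit 336, nat_lit 252, nat_lit 294, nat_lit 168, nat_lit 210, nat_lit 252, nat_lit 126, nat_lit 168, nat_lit 210, nat_lit 420, nat_lit 462, nat_lit 294, nat_lit 210, nat_lit 252, nat_lit 126, nat_lit 168, nat_lit 210, nat_lit 420, nat_lit 378, nat_lit 336, nat_lit 294, nat_lit 252, nat_lit 210, nat_lit 168, nat_lit 126, nat_lit 84, nat_lit 126, nat_lit 168, nat_lit 210, nat_lit 252, nat_lit 294, nat_lit 336, nat_lit 378, nat_lit 420, nat_lit 210, nat_lit 168, nat_lit 126, nat_lit 252, nat_lit 210, nat_lit 294, nat_lit 462, nat_lit 420, nat_lit 210, nat_lit 168, nat_lit 126, nat_lit 252, nat_lit 210, nat_lit 168, nat_lit 294, nat_lit 252, nat_lit 336, nat_lit 294, nat_lit 420, nat_lit 210, nat_lit 252, nat_lit 462, nat_lit 420, nat_lit 210, nat_lit 168, nat_lit 126, nat_lit 84, nat_lit 42, nat_lit 84, nat_lit 126, nat_lit 168, nat_lit 210, nat_lit 420, nat_lit 462, nat_lit 252, nat_lit 210, nat_lit 420,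 nat_lit 294, nat_lit 336, nat_lit 252, nat_lit 294, nat_lit 168, nat_lit 210, nat_lit 252, nat_lit 126, nat_lit 168, nat_lit 210, nat_lit 420, nat_lit 462, nat_lit 294, nat_lit 210, nat_lit 252, nat_lit 126, nat_lit 168, nat_lit 210, nat_lit 420, nat_lit 378, nat_lit 336, nat_lit 294, nat_lit 252, nat_lit 210, nat_lit 168, nat_lit 126, nat_lit 84, nat_lit 126, nat_lit 168, nat_lit 210, nat_lit 252, nat_lit 294, nat_lit 336, nat_lit 378, nat_lit 420, nat_lit 210, nat_lit 168, nat_lit 126, nat_lit 252, nat_lit 210, nat_lit 294, nat_lit 462, nat_lit 420, nat_lit 210, nat_lit 168, nat_lit 126, nat_lit 252, nat_lit 210, nat_lit 168, nat_lit 294, nat_lit 252, nat_lit 336, nat_lit 294, nat_lit 420, nat_lit 210, nat_lit 252, nat_lit 462, nat_lit 420, nat_lit 210, nat_lit 168, nat_lit 126, nat_lit 84, nat_lit 42, nat_lit 84, nat_lit 126, nat_lit 168, nat_lit 210, nat_lit 420, nat_lit 462]))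
(.node (nat_lit 29) (.node (nat_lit 28) (.leaf 159 128 [nat_lit 210, nat_lit 168, nat_lit 294, nat_lit 252, nat_lit 336, nat_lit 294, nat_lit 420, nat_lit 210, nat_lit 252, nat_lit 462, nat_lit 420, nat_lit 210, nat_lit 168, nat_lit 126, nat_lit 84, nat_lit 42, nat_lit 84, nat_lit 126, nat_lit 168, nat_lit 210, nat_lit 420, nat_lit 462, nat_lit 252, nat_lit 210, nat_lit 420, nat_lit 294, nat_lit 336, nat_lit 252, nat_lit 294, nat_lit 168, nat_lit 210, nat_lit 252, nat_lit 126, nat_lit 168, nat_lit 210, nat_lit 420, nat_lit 462, nat_lit 294, nat_lit 210, nat_lit 252, nat_lit 126, nat_lit 168, nat_lit 210, nat_lit 420, nat_lit 378, nat_lit 336, nat_lit 294, nat_lit 252, nat_lit 210, nat_lit 168, nat_lit 126, nat_lit 84, nat_lit 126, nat_lit 168, nat_lit 210, nat_lit 252, nat_lit 294, nat_lit 336, nat_lit 378, nat_lit 420, nat_lit 210, nat_lit 168, nat_lit 126, nat_lit 252, nat_lit 210, nat_lit 294, nat_lit 462, nat_lit 420, nat_lit 210, nat_lit 168, nat_lit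 126, nat_lit 252, nat_lit 210, nat_lit 168, nat_lit 294, nat_lit 252, nat_lit 336, nat_lit 294, nat_lit 420, nat_lit 210, nat_lit 252, nat_lit 462, nat_lit 420, nat_lit 210, nat_lit 168, nat_lit 126, nat_lit 84, nat_lit 42, nat_lit 84, nat_lit 126, nat_lit 168, nat_lit 210, nat_lit 420, nat_lit 462, nat_lit 252, nat_lit 210, nat_lit 420, nat_lit 294, nat_lit 336, nat_lit 252, nat_lit 294, nat_lit 168, nat_lit 210, nat_lit 252, nat_lit 126, nat_lit 168, nat_lit 210, nat_lit 420, nat_lit 462, nat_lit 294, nat_lit 210, nat_lit 252, nat_lit 126, nat_lit 168, nat_lit 210, nat_lit 420, nat_lit 378, nat_lit 336, nat_lit 294, nat_lit 252, nat_lit 210, nat_lit 168, nat_lit 126, nat_lit 84, nat_lit 126, nat_lit 168, nat_lit 210, nat_lit 252, nat_lit 294, nat_lit 336, nat_lit 378, nat_lit 420, nat_lit 210, nat_lit 168, nat_lit 126, nat_lit 252, nat_lit 210, nat_lit 294, nat_lit 462, nat_lit 420, nat_lit 210, nat_lit 168, nat_lit 126])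
(.leaf 159 96 [nat_lit 126, nat_lit 168, nat_lit 210, nat_lit 420, nat_lit 378, nat_lit 336, nat_lit 294, nat_lit 252, nat_lit 210, nat_lit 168, nat_lit 126, nat_lit 84, nat_lit 126, nat_lit 168, nat_lit 210, nat_lit 252, nat_lit 294, nat_lit 336, nat_lit 378, nat_lit 420, nat_lit 210, nat_lit 168, nat_lit 126, nat_lit 252, nat_lit 210, nat_lit 294, nat_lit 462, nat_lit 420, nat_lit 210, nat_lit 168, nat_lit 126, nat_lit 252, nat_lit 210, nat_lit 168, nat_lit 294, nat_lit 252, nat_lit 336, nat_lit 294, nat_lit 420, nat_lit 210, nat_lit 252, nat_lit 462, nat_lit 420, nat_lit 210, nat_lit 168, nat_lit 126, nat_lit 84, nat_lit 42, nat_lit 84, nat_lit 126, nat_lit 168, nat_lit 210, nat_lit 420, nat_lit 462, nat_lit 252, nat_lit 210, nat_lit 420, nat_lit 294, nat_lit 336, nat_lit 252, nat_lit 294, nat_lit 168, nat_lit 210, nat_lit 252, nat_lit 126, nat_lit 168, nat_lit 210, nat_lit 420, nat_lit 462, nat_lit 294, nat_lit 210, nat_lit 252, nat_lit 126, nat_lit 168,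 nat_lit 210, nat_lit 420, nat_lit 378, nat_lit 336, nat_lit 294, nat_lit 252, nat_lit 210, nat_lit 168, nat_lit 126, nat_lit 84, nat_lit 126, nat_lit 168, nat_lit 210, nat_lit 252, nat_lit 294, nat_lit 336, nat_lit 378, nat_lit 420, nat_lit 210, nat_lit 168, nat_lit 126, nat_lit 252, nat_lit 210, nat_lit 294, nat_lit 462, nat_lit 420, nat_lit 210, nat_lit 168, nat_lit 126, nat_lit 252, nat_lit 210, nat_lit 168, nat_lit 294, nat_lit 252, nat_lit 336, nat_lit 294, nat_lit 420, nat_lit 210, nat_lit 252, nat_lit 462, nat_lit 420, nat_lit 210, nat_lit 168, nat_lit 126, nat_lit 84, nat_lit 42, nat_lit 84, nat_lit 126, nat_lit 168, nat_lit 210, nat_lit 420, nat_lit 462, nat_lit 252, nat_lit 210, nat_lit 420, nat_lit 294, nat_lit 336, nat_lit 252, nat_lit 294, nat_lit 168, nat_lit 210, nat_lit 252, nat_lit 126, nat_lit 168, nat_lit 210, nat_lit 420, nat_lit 462, nat_lit 294, nat_lit 210]))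
(.node (nat_lit 30) (.leaf 159 104 [nat_lit 210, nat_lit 168, nat_lit 126, nat_lit 84, nat_lit 126, nat_lit 168, nat_lit 210, nat_lit 252, nat_lit 294, nat_lit 336, nat_lit 378, nat_lit 420, nat_lit 210, nat_lit 168, nat_lit 126, nat_lit 252, nat_lit 210, nat_lit 294, nat_lit 462, nat_lit 420, nat_lit 210, nat_lit 168, nat_lit 126, nat_lit 252, nat_lit 210, nat_lit 168, nat_lit 294, nat_lit 252, nat_lit 336, nat_lit 294, nat_lit 420, nat_lit 210, nat_lit 252, nat_lit 462, nat_lit 420, nat_lit 210, nat_lit 168, nat_lit 126, nat_lit 84, nat_lit 42, nat_lit 84, nat_lit 126, nat_lit 168, nat_lit 210, nat_lit 420, nat_lit 462, nat_lit 252, nat_lit 210, nat_lit 420, nat_lit 294, nat_lit 336, nat_lit 252, nat_lit 294, nat_lit 168, nat_lit 210, nat_lit 252, nat_lit 126, nat_lit 168, nat_lit 210, nat_lit 420, nat_lit 462, nat_lit 294, nat_lit 210, nat_lit 252, nat_lit 126, nat_lit 168, nat_lit 210, nat_lit 420, nat_lit 378, nat_lit 336, nat_lit 294, nat_lit 252, nat_lit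 210, nat_lit 168, nat_lit 126, nat_lit 84, nat_lit 126, nat_lit 168, nat_lit 210, nat_lit 252, nat_lit 294, nat_lit 336, nat_lit 378, nat_lit 420, nat_lit 210, nat_lit 168, nat_lit 126, nat_lit 252, nat_lit 210, nat_lit 294, nat_lit 462, nat_lit 420, nat_lit 210, nat_lit 168, nat_lit 126, nat_lit 252, nat_lit 210, nat_lit 168, nat_lit 294, nat_lit 252, nat_lit 336, nat_lit 294, nat_lit 420, nat_lit 210, nat_lit 252, nat_lit 462, nat_lit 420, nat_lit 210, nat_lit 168, nat_lit 126, nat_lit 84, nat_lit 42, nat_lit 84, nat_lit 126, nat_lit 168, nat_lit 210, nat_lit 420, nat_lit 462, nat_lit 252, nat_lit 210, nat_lit 420, nat_lit 294, nat_lit 336, nat_lit 252, nat_lit 294, nat_lit 168, nat_lit 210, nat_lit 252, nat_lit 126, nat_lit 168, nat_lit 210, nat_lit 420, nat_lit 462, nat_lit 294, nat_lit 210, nat_lit 252, nat_lit 126, nat_lit 168, nat_lit 210, nat_lit 420, nat_lit 378, nat_lit 336, nat_lit 294])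
(.leaf 159 88 [nat_lit 126, nat_lit 168, nat_lit 210, nat_lit 420, nat_lit 462, nat_lit 294, nat_lit 210, nat_lit 252, nat_lit 126, nat_lit 168, nat_lit 210, nat_lit 420, nat_lit 378, nat_lit 336, nat_lit 294, nat_lit 252, nat_lit 210, nat_lit 168, nat_lit 126, nat_lit 84, nat_lit 126, nat_lit 168, nat_lit 210, nat_lit 252, nat_lit 294, nat_lit 336, nat_lit 378, nat_lit 420, nat_lit 210, nat_lit 168, nat_lit 126, nat_lit 252, nat_lit 210, nat_lit 294, nat_lit 462, nat_lit 420, nat_lit 210, nat_lit 168, nat_lit 126, nat_lit 252, nat_lit 210, nat_lit 168, nat_lit 294, nat_lit 252, nat_lit 336, nat_lit 294, nat_lit 420, nat_lit 210, nat_lit 252, nat_lit 462, nat_lit 420, nat_lit 210, nat_lit 168, nat_lit 126, nat_lit 84, nat_lit 42, nat_lit 84, nat_lit 126, nat_lit 168, nat_lit 210, nat_lit 420, nat_lit 462, nat_lit 252, nat_lit 210, nat_lit 420, nat_lit 294, nat_lit 336, nat_lit 252, nat_lit 294, nat_lit 168, nat_lit 210, nat_lit 252, nat_lit 126, nat_lit 168,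 nat_lit 210, nat_lit 420, nat_lit 462, nat_lit 294, nat_lit 210, nat_lit 252, nat_lit 126, nat_lit 168, nat_lit 210, nat_lit 420, nat_lit 378, nat_lit 336, nat_lit 294, nat_lit 252, nat_lit 210, nat_lit 168, nat_lit 126, nat_lit 84, nat_lit 126, nat_lit 168, nat_lit 210, nat_lit 252, nat_lit 294, nat_lit 336, nat_lit 378, nat_lit 420, nat_lit 210, nat_lit 168, nat_lit 126, nat_lit 252, nat_lit 210, nat_lit 294, nat_lit 462, nat_lit 420, nat_lit 210, nat_lit 168, nat_lit 126, nat_lit 252, nat_lit 210, nat_lit 168, nat_lit 294, nat_lit 252, nat_lit 336, nat_lit 294, nat_lit 420, nat_lit 210, nat_lit 252, nat_lit 462, nat_lit 420, nat_lit 210, nat_lit 168, nat_lit 126, nat_lit 84, nat_lit 42, nat_lit 84, nat_lit 126, nat_lit 168, nat_lit 210, nat_lit 420, nat_lit 462, nat_lit 252, nat_lit 210, nat_lit 420, nat_lit 294, nat_lit 336, nat_lit 252, nat_lit 294, nat_lit 168, nat_lit 210])))))))))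
(.leaf 0 0 [])))))
noncomputable def wt7 : LT := (.node (nat_lit 2) (.node (nat_lit 0) (.leaf 37 3 [nat_lit 0, nat_lit 294, nat_lit 0])
(.node (nat_lit 1) (.leaf 143 0 [nat_lit 462, nat_lit 294, nat_lit 462])
(.leaf 141 0 [nat_lit 420, nat_lit 294, nat_lit 420])))
(.node (nat_lit 6) (.node (nat_lit 4) (.node (nat_lit 3) (.leaf 139 0 [nat_lit 378, nat_lit 294, nat_lit 378])
(.leaf 57 3 [nat_lit 42, nat_lit 294, nat_lit 42]))
(.node (nat_lit 5) (.leaf 75 3 [nat_lit 84, nat_lit 294, nat_lit 84])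
(.leaf 91 3 [nat_lit 126, nat_lit 294, nat_lit 126])))
(.node (nat_lit 10) (.node (nat_lit 8) (.node (nat_lit 7) (.leaf 117 3 [nat_lit 210, nat_lit 294, nat_lit 210])
(.leaf 105 3 [nat_lit 168, nat_lit 294, nat_lit 168]))
(.node (nat_lit 9) (.leaf 137 0 [nat_lit 336, nat_lit 294, nat_lit 336, nat_lit 294, nat_lit 336])
(.leaf 127 5 [nat_lit 252, nat_lit 294, nat_lit 252, nat_lit 294, nat_lit 252])))
(.node (nat_lit 22) (.node (nat_lit 12) (.node (nat_lit 11) (.leaf 157 24 [nat_lit 252, nat_lit 210, nat_lit 168, nat_lit 126, nat_lit 84, nat_lit 126, nat_lit 168, nat_lit 210, nat_lit 252, nat_lit 294, nat_lit 420, nat_lit 210, nat_lit 168, nat_lit 126, nat_lit 252, nat_lit 210, nat_lit 168, nat_lit 420, nat_lit 210, nat_lit 252, nat_lit 294, nat_lit 126, nat_lit 168, nat_lit 210, nat_lit 420, nat_lit 252, nat_lit 210, nat_lit 168, nat_lit 126, nat_lit 84, nat_lit 126, nat_lit 168, nat_lit 210, nat_lit 252, nat_lit 420, nat_lit 210, nat_lit 168, nat_lit 126,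 nat_lit 84, nat_lit 0, nat_lit 210, nat_lit 420, nat_lit 252, nat_lit 210, nat_lit 168, nat_lit 210, nat_lit 252, nat_lit 420, nat_lit 210, nat_lit 420, nat_lit 252, nat_lit 168, nat_lit 294, nat_lit 252, nat_lit 210, nat_lit 420, nat_lit 168, nat_lit 210, nat_lit 252, nat_lit 126, nat_lit 168, nat_lit 210, nat_lit 420])
(.leaf 157 13 [nat_lit 252, nat_lit 210, nat_lit 420, nat_lit 168, nat_lit 210, nat_lit 252, nat_lit 126, nat_lit 168, nat_lit 210, nat_lit 420, nat_lit 294, nat_lit 252, nat_lit 210, nat_lit 168, nat_lit 126, nat_lit 84, nat_lit 126, nat_lit 168, nat_lit 210, nat_lit 252, nat_lit 294, nat_lit 420, nat_lit 210, nat_lit 168, nat_lit 126, nat_lit 252, nat_lit 210, nat_lit 168, nat_lit 420, nat_lit 210, nat_lit 252, nat_lit 294, nat_lit 126, nat_lit 168, nat_lit 210, nat_lit 420, nat_lit 252, nat_lit 210, nat_lit 168, nat_lit 126, nat_lit 84, nat_lit 126, nat_lit 168, nat_lit 210, nat_lit 252, nat_lit 420, nat_lit 210, nat_lit 168, nat_lit 126,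 nat_lit 84, nat_lit 0, nat_lit 210, nat_lit 420, nat_lit 252, nat_lit 210, nat_lit 168, nat_lit 210, nat_lit 252, nat_lit 420, nat_lit 210, nat_lit 420, nat_lit 252, nat_lit 168]))
(.node (nat_lit 14) (.node (nat_lit 13) (.leaf 157 45 [nat_lit 126, nat_lit 168, nat_lit 210, nat_lit 420, nat_lit 252, nat_lit 210, nat_lit 168, nat_lit 126, nat_lit 84, nat_lit 126, nat_lit 168, nat_lit 210, nat_lit 252, nat_lit 420, nat_lit 210, nat_lit 168, nat_lit 126, nat_lit 84, nat_lit 0, nat_lit 210, nat_lit 420, nat_lit 252, nat_lit 210, nat_lit 168, nat_lit 210, nat_lit 252, nat_lit 420, nat_lit 210, nat_lit 420, nat_lit 252, nat_lit 168, nat_lit 294, nat_lit 252, nat_lit 210, nat_lit 420, nat_lit 168, nat_lit 210, nat_lit 252, nat_lit 126, nat_lit 168, nat_lit 210, nat_lit 420, nat_lit 294, nat_lit 252, nat_lit 210, nat_lit 168, nat_lit 126, nat_lit 84, nat_lit 126, nat_lit 168, nat_lit 210, nat_lit 252, nat_lit 294, nat_lit 420, nat_lit 210, nat_lit 168, nat_lit 126,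 nat_lit 252, nat_lit 210, nat_lit 168, nat_lit 420, nat_lit 210, nat_lit 252])
(.leaf 157 34 [nat_lit 420, nat_lit 210, nat_lit 168, nat_lit 126, nat_lit 252, nat_lit 210, nat_lit 168, nat_lit 420, nat_lit 210, nat_lit 252, nat_lit 294, nat_lit 126, nat_lit 168, nat_lit 210, nat_lit 420, nat_lit 252, nat_lit 210, nat_lit 168, nat_lit 126, nat_lit 84, nat_lit 126, nat_lit 168, nat_lit 210, nat_lit 252, nat_lit 420, nat_lit 210, nat_lit 168, nat_lit 126, nat_lit 84, nat_lit 0, nat_lit 210, nat_lit 420, nat_lit 252, nat_lit 210, nat_lit 168, nat_lit 210, nat_lit 252, nat_lit 420, nat_lit 210, nat_lit 420, nat_lit 252, nat_lit 168, nat_lit 294, nat_lit 252, nat_lit 210, nat_lit 420, nat_lit 168, nat_lit 210, nat_lit 252, nat_lit 126, nat_lit 168, nat_lit 210, nat_lit 420, nat_lit 294, nat_lit 252, nat_lit 210, nat_lit 168, nat_lit 126, nat_lit 84, nat_lit 126, nat_lit 168, nat_lit 210, nat_lit 252]))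
(.node (nat_lit 16) (.node (nat_lit 15) (.leaf 159 113 [nat_lit 336, nat_lit 378, nat_lit 420, nat_lit 210, nat_lit 168, nat_lit 126, nat_lit 252, nat_lit 210, nat_lit 294, nat_lit 462, nat_lit 420, nat_lit 210, nat_lit 168, nat_lit 126, nat_lit 252, nat_lit 210, nat_lit 168, nat_lit 294, nat_lit 252, nat_lit 336, nat_lit 294, nat_lit 420, nat_lit 210, nat_lit 252, nat_lit 462, nat_lit 420, nat_lit 210, nat_lit 168, nat_lit 126, nat_lit 84, nat_lit 42, nat_lit 84, nat_lit 126, nat_lit 168, nat_lit 210, nat_lit 420, nat_lit 462, nat_lit 252, nat_lit 210, nat_lit 420, nat_lit 294, nat_lit 336, nat_lit 252, nat_lit 294, nat_lit 168, nat_lit 210, nat_lit 252, nat_lit 126, nat_lit 168, nat_lit 210, nat_lit 420, nat_lit 462, nat_lit 294, nat_lit 210, nat_lit 252, nat_lit 126, nat_lit 168, nat_lit 210, nat_lit 420, nat_lit 378, nat_lit 336, nat_lit 294, nat_lit 252, nat_lit 210, nat_lit 168, nat_lit 126, nat_lit 84, nat_lit 126, nat_lit 168, nat_lit 210, nat_lit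 252, nat_lit 294, nat_lit 336, nat_lit 378, nat_lit 420, nat_lit 210, nat_lit 168, nat_lit 126, nat_lit 252, nat_lit 210, nat_lit 294, nat_lit 462, nat_lit 420, nat_lit 210, nat_lit 168, nat_lit 126, nat_lit 252, nat_lit 210, nat_lit 168, nat_lit 294, nat_lit 252, nat_lit 336, nat_lit 294, nat_lit 420, nat_lit 210, nat_lit 252, nat_lit 462, nat_lit 420, nat_lit 210, nat_lit 168, nat_lit 126, nat_lit 84, nat_lit 42, nat_lit 84, nat_lit 126, nat_lit 168, nat_lit 210, nat_lit 420, nat_lit 462, nat_lit 252, nat_lit 210, nat_lit 420, nat_lit 294, nat_lit 336, nat_lit 252, nat_lit 294, nat_lit 168, nat_lit 210, nat_lit 252, nat_lit 126, nat_lit 168, nat_lit 210, nat_lit 420, nat_lit 462, nat_lit 294, nat_lit 210, nat_lit 252, nat_lit 126, nat_lit 168, nat_lit 210, nat_lit 420, nat_lit 378, nat_lit 336, nat_lit 294, nat_lit 252, nat_lit 210, nat_lit 168, nat_lit 126, nat_lit 84, nat_lit 126, nat_lit 168, nat_lit 210, nat_lit 252])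
(.leaf 159 122 [nat_lit 462, nat_lit 420, nat_lit 210, nat_lit 168, nat_lit 126, nat_lit 252, nat_lit 210, nat_lit 168, nat_lit 294, nat_lit 252, nat_lit 336, nat_lit 294, nat_lit 420, nat_lit 210, nat_lit 252, nat_lit 462, nat_lit 420, nat_lit 210, nat_lit 168, nat_lit 126, nat_lit 84, nat_lit 42, nat_lit 84, nat_lit 126, nat_lit 168, nat_lit 210, nat_lit 420, nat_lit 462, nat_lit 252, nat_lit 210, nat_lit 420, nat_lit 294, nat_lit 336, nat_lit 252, nat_lit 294, nat_lit 168, nat_lit 210, nat_lit 252, nat_lit 126, nat_lit 168, nat_lit 210, nat_lit 420, nat_lit 462, nat_lit 294, nat_lit 210, nat_lit 252, nat_lit 126, nat_lit 168, nat_lit 210, nat_lit 420, nat_lit 378, nat_lit 336, nat_lit 294, nat_lit 252, nat_lit 210, nat_lit 168, nat_lit 126, nat_lit 84, nat_lit 126, nat_lit 168, nat_lit 210, nat_lit 252, nat_lit 294, nat_lit 336, nat_lit 378, nat_lit 420, nat_lit 210, nat_lit 168, nat_lit 126, nat_lit 252, nat_lit 210, nat_lit 294, nat_lit 462, nat_lit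 420, nat_lit 210, nat_lit 168, nat_lit 126, nat_lit 252, nat_lit 210, nat_lit 168, nat_lit 294, nat_lit 252, nat_lit 336, nat_lit 294, nat_lit 420, nat_lit 210, nat_lit 252, nat_lit 462, nat_lit 420, nat_lit 210, nat_lit 168, nat_lit 126, nat_lit 84, nat_lit 42, nat_lit 84, nat_lit 126, nat_lit 168, nat_lit 210, nat_lit 420, nat_lit 462, nat_lit 252, nat_lit 210, nat_lit 420, nat_lit 294, nat_lit 336, nat_lit 252, nat_lit 294, nat_lit 168, nat_lit 210, nat_lit 252, nat_lit 126, nat_lit 168, nat_lit 210, nat_lit 420, nat_lit 462, nat_lit 294, nat_lit 210, nat_lit 252, nat_lit 126, nat_lit 168, nat_lit 210, nat_lit 420, nat_lit 378, nat_lit 336, nat_lit 294, nat_lit 252, nat_lit 210, nat_lit 168, nat_lit 126, nat_lit 84, nat_lit 126, nat_lit 168, nat_lit 210, nat_lit 252, nat_lit 294, nat_lit 336, nat_lit 378, nat_lit 420, nat_lit 210, nat_lit 168, nat_lit 126, nat_lit 252, nat_lit 210]))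
(.node (nat_lit 17) (.leaf 159 82 [nat_lit 336, nat_lit 252, nat_lit 294, nat_lit 168, nat_lit 210, nat_lit 252, nat_lit 126, nat_lit 168, nat_lit 210, nat_lit 420, nat_lit 462, nat_lit 294, nat_lit 210, nat_lit 252, nat_lit 126, nat_lit 168, nat_lit 210, nat_lit 420, nat_lit 378, nat_lit 336, nat_lit 294, nat_lit 252, nat_lit 210, nat_lit 168, nat_lit 126, nat_lit 84, nat_lit 126, nat_lit 168, nat_lit 210, nat_lit 252, nat_lit 294, nat_lit 336, nat_lit 378, nat_lit 420, nat_lit 210, nat_lit 168, nat_lit 126, nat_lit 252, nat_lit 210, nat_lit 294, nat_lit 462, nat_lit 420, nat_lit 210, nat_lit 168, nat_lit 126, nat_lit 252, nat_lit 210, nat_lit 168, nat_lit 294, nat_lit 252, nat_lit 336, nat_lit 294, nat_lit 420, nat_lit 210, nat_lit 252, nat_lit 462, nat_lit 420, nat_lit 210, nat_lit 168, nat_lit 126, nat_lit 84, nat_lit 42, nat_lit 84, nat_lit 126, nat_lit 168, nat_lit 210, nat_lit 420, nat_lit 462, nat_lit 252, nat_lit 210, nat_lit 420, nat_lit 294, nat_lit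 336, nat_lit 252, nat_lit 294, nat_lit 168, nat_lit 210, nat_lit 252, nat_lit 126, nat_lit 168, nat_lit 210, nat_lit 420, nat_lit 462, nat_lit 294, nat_lit 210, nat_lit 252, nat_lit 126, nat_lit 168, nat_lit 210, nat_lit 420, nat_lit 378, nat_lit 336, nat_lit 294, nat_lit 252, nat_lit 210, nat_lit 168, nat_lit 126, nat_lit 84, nat_lit 126, nat_lit 168, nat_lit 210, nat_lit 252, nat_lit 294, nat_lit 336, nat_lit 378, nat_lit 420, nat_lit 210, nat_lit 168, nat_lit 126, nat_lit 252, nat_lit 210, nat_lit 294, nat_lit 462, nat_lit 420, nat_lit 210, nat_lit 168, nat_lit 126, nat_lit 252, nat_lit 210, nat_lit 168, nat_lit 294, nat_lit 252, nat_lit 336, nat_lit 294, nat_lit 420, nat_lit 210, nat_lit 252, nat_lit 462, nat_lit 420, nat_lit 210, nat_lit 168, nat_lit 126, nat_lit 84, nat_lit 42, nat_lit 84, nat_lit 126, nat_lit 168, nat_lit 210, nat_lit 420, nat_lit 462, nat_lit 252, nat_lit 210, nat_lit 420])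
(.node (nat_lit 18) (.leaf 159 131 [nat_lit 252, nat_lit 336, nat_lit 294, nat_lit 420, nat_lit 210, nat_lit 252, nat_lit 462, nat_lit 420, nat_lit 210, nat_lit 168, nat_lit 126, nat_lit 84, nat_lit 42, nat_lit 84, nat_lit 126, nat_lit 168, nat_lit 210, nat_lit 420, nat_lit 462, nat_lit 252, nat_lit 210, nat_lit 420, nat_lit 294, nat_lit 336, nat_lit 252, nat_lit 294, nat_lit 168, nat_lit 210, nat_lit 252, nat_lit 126, nat_lit 168, nat_lit 210, nat_lit 420, nat_lit 462, nat_lit 294, nat_lit 210, nat_lit 252, nat_lit 126, nat_lit 168, nat_lit 210, nat_lit 420, nat_lit 378, nat_lit 336, nat_lit 294, nat_lit 252, nat_lit 210, nat_lit 168, nat_lit 126, nat_lit 84, nat_lit 126, nat_lit 168, nat_lit 210, nat_lit 252, nat_lit 294, nat_lit 336, nat_lit 378, nat_lit 420, nat_lit 210, nat_lit 168, nat_lit 126, nat_lit 252, nat_lit 210, nat_lit 294, nat_lit 462, nat_lit 420, nat_lit 210, nat_lit 168, nat_lit 126, nat_lit 252, nat_lit 210, nat_lit 168, nat_lit 294, nat_lit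 252, nat_lit 336, nat_lit 294, nat_lit 420, nat_lit 210, nat_lit 252, nat_lit 462, nat_lit 420, nat_lit 210, nat_lit 168, nat_lit 126, nat_lit 84, nat_lit 42, nat_lit 84, nat_lit 126, nat_lit 168, nat_lit 210, nat_lit 420, nat_lit 462, nat_lit 252, nat_lit 210, nat_lit 420, nat_lit 294, nat_lit 336, nat_lit 252, nat_lit 294, nat_lit 168, nat_lit 210, nat_lit 252, nat_lit 126, nat_lit 168, nat_lit 210, nat_lit 420, nat_lit 462, nat_lit 294, nat_lit 210, nat_lit 252, nat_lit 126, nat_lit 168, nat_lit 210, nat_lit 420, nat_lit 378, nat_lit 336, nat_lit 294, nat_lit 252, nat_lit 210, nat_lit 168, nat_lit 126, nat_lit 84, nat_lit 126, nat_lit 168, nat_lit 210, nat_lit 252, nat_lit 294, nat_lit 336, nat_lit 378, nat_lit 420, nat_lit 210, nat_lit 168, nat_lit 126, nat_lit 252, nat_lit 210, nat_lit 294, nat_lit 462, nat_lit 420, nat_lit 210, nat_lit 168, nat_lit 126, nat_lit 252, nat_lit 210, nat_lit 168])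
(.node (nat_lit 19) (.leaf 159 103 [nat_lit 252, nat_lit 210, nat_lit 168, nat_lit 126, nat_lit 84, nat_lit 126, nat_lit 168, nat_lit 210, nat_lit 252, nat_lit 294, nat_lit 336, nat_lit 378, nat_lit 420, nat_lit 210, nat_lit 168, nat_lit 126, nat_lit 252, nat_lit 210, nat_lit 294, nat_lit 462, nat_lit 420, nat_lit 210, nat_lit 168, nat_lit 126, nat_lit 252, nat_lit 210, nat_lit 168, nat_lit 294, nat_lit 252, nat_lit 336, nat_lit 294, nat_lit 420, nat_lit 210, nat_lit 252, nat_lit 462, nat_lit 420, nat_lit 210, nat_lit 168, nat_lit 126, nat_lit 84, nat_lit 42, nat_lit 84, nat_lit 126, nat_lit 168, nat_lit 210, nat_lit 420, nat_lit 462, nat_lit 252, nat_lit 210, nat_lit 420, nat_lit 294, nat_lit 336, nat_lit 252, nat_lit 294, nat_lit 168, nat_lit 210, nat_lit 252, nat_lit 126, nat_lit 168, nat_lit 210, nat_lit 420, nat_lit 462, nat_lit 294, nat_lit 210, nat_lit 252, nat_lit 126, nat_lit 168, nat_lit 210, nat_lit 420, nat_lit 378, nat_lit 336, nat_lit 294, nat_lit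 252, nat_lit 210, nat_lit 168, nat_lit 126, nat_lit 84, nat_lit 126, nat_lit 168, nat_lit 210, nat_lit 252, nat_lit 294, nat_lit 336, nat_lit 378, nat_lit 420, nat_lit 210, nat_lit 168, nat_lit 126, nat_lit 252, nat_lit 210, nat_lit 294, nat_lit 462, nat_lit 420, nat_lit 210, nat_lit 168, nat_lit 126, nat_lit 252, nat_lit 210, nat_lit 168, nat_lit 294, nat_lit 252, nat_lit 336, nat_lit 294, nat_lit 420, nat_lit 210, nat_lit 252, nat_lit 462, nat_lit 420, nat_lit 210, nat_lit 168, nat_lit 126, nat_lit 84, nat_lit 42, nat_lit 84, nat_lit 126, nat_lit 168, nat_lit 210, nat_lit 420, nat_lit 462, nat_lit 252, nat_lit 210, nat_lit 420, nat_lit 294, nat_lit 336, nat_lit 252, nat_lit 294, nat_lit 168, nat_lit 210, nat_lit 252, nat_lit 126, nat_lit 168, nat_lit 210, nat_lit 420, nat_lit 462, nat_lit 294, nat_lit 210, nat_lit 252, nat_lit 126, nat_lit 168, nat_lit 210, nat_lit 420, nat_lit 378, nat_lit 336])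
(.node (nat_lit 20) (.leaf 159 134 [nat_lit 420, nat_lit 210, nat_lit 252, nat_lit 462, nat_lit 420, nat_lit 210, nat_lit 168, nat_lit 126, nat_lit 84, nat_lit 42, nat_lit 84, nat_lit 126, nat_lit 168, nat_lit 210, nat_lit 420, nat_lit 462, nat_lit 252, nat_lit 210, nat_lit 420, nat_lit 294, nat_lit 336, nat_lit 252, nat_lit 294, nat_lit 168, nat_lit 210, nat_lit 252, nat_lit 126, nat_lit 168, nat_lit 210, nat_lit 420, nat_lit 462, nat_lit 294, nat_lit 210, nat_lit 252, nat_lit 126, nat_lit 168, nat_lit 210, nat_lit 420, nat_lit 378, nat_lit 336, nat_lit 294, nat_lit 252, nat_lit 210, nat_lit 168, nat_lit 126, nat_lit 84, nat_lit 126, nat_lit 168, nat_lit 210, nat_lit 252, nat_lit 294, nat_lit 336, nat_lit 378, nat_lit 420, nat_lit 210, nat_lit 168, nat_lit 126, nat_lit 252, nat_lit 210, nat_lit 294, nat_lit 462, nat_lit 420, nat_lit 210, nat_lit 168, nat_lit 126, nat_lit 252, nat_lit 210, nat_lit 168, nat_lit 294, nat_lit 252, nat_lit 336, nat_lit 294, nat_lit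 420, nat_lit 210, nat_lit 252, nat_lit 462, nat_lit 420, nat_lit 210, nat_lit 168, nat_lit 126, nat_lit 84, nat_lit 42, nat_lit 84, nat_lit 126, nat_lit 168, nat_lit 210, nat_lit 420, nat_lit 462, nat_lit 252, nat_lit 210, nat_lit 420, nat_lit 294, nat_lit 336, nat_lit 252, nat_lit 294, nat_lit 168, nat_lit 210, nat_lit 252, nat_lit 126, nat_lit 168, nat_lit 210, nat_lit 420, nat_lit 462, nat_lit 294, nat_lit 210, nat_lit 252, nat_lit 126, nat_lit 168, nat_lit 210, nat_lit 420, nat_lit 378, nat_lit 336, nat_lit 294, nat_lit 252, nat_lit 210, nat_lit 168, nat_lit 126, nat_lit 84, nat_lit 126, nat_lit 168, nat_lit 210, nat_lit 252, nat_lit 294, nat_lit 336, nat_lit 378, nat_lit 420, nat_lit 210, nat_lit 168, nat_lit 126, nat_lit 252, nat_lit 210, nat_lit 294, nat_lit 462, nat_lit 420, nat_lit 210, nat_lit 168, nat_lit 126, nat_lit 252, nat_lit 210, nat_lit 168, nat_lit 294, nat_lit 252, nat_lit 336])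
(.node (nat_lit 21) (.leaf 159 94 [nat_lit 210, nat_lit 252, nat_lit 126, nat_lit 168, nat_lit 210, nat_lit 420, nat_lit 378, nat_lit 336, nat_lit 294, nat_lit 252, nat_lit 210, nat_lit 168, nat_lit 126, nat_lit 84, nat_lit 126, nat_lit 168, nat_lit 210, nat_lit 252, nat_lit 294, nat_lit 336, nat_lit 378, nat_lit 420, nat_lit 210, nat_lit 168, nat_lit 126, nat_lit 252, nat_lit 210, nat_lit 294, nat_lit 462, nat_lit 420, nat_lit 210, nat_lit 168, nat_lit 126, nat_lit 252, nat_lit 210, nat_lit 168, nat_lit 294, nat_lit 252, nat_lit 336, nat_lit 294, nat_lit 420, nat_lit 210, nat_lit 252, nat_lit 462, nat_lit 420, nat_lit 210, nat_lit 168, nat_lit 126, nat_lit 84, nat_lit 42, nat_lit 84, nat_lit 126, nat_lit 168, nat_lit 210, nat_lit 420, nat_lit 462, nat_lit 252, nat_lit 210, nat_lit 420, nat_lit 294, nat_lit 336, nat_lit 252, nat_lit 294, nat_lit 168, nat_lit 210, nat_lit 252, nat_lit 126, nat_lit 168, nat_lit 210, nat_lit 420, nat_lit 462, nat_lit 294, nat_lit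 210, nat_lit 252, nat_lit 126, nat_lit 168, nat_lit 210, nat_lit 420, nat_lit 378, nat_lit 336, nat_lit 294, nat_lit 252, nat_lit 210, nat_lit 168, nat_lit 126, nat_lit 84, nat_lit 126, nat_lit 168, nat_lit 210, nat_lit 252, nat_lit 294, nat_lit 336, nat_lit 378, nat_lit 420, nat_lit 210, nat_lit 168, nat_lit 126, nat_lit 252, nat_lit 210, nat_lit 294, nat_lit 462, nat_lit 420, nat_lit 210, nat_lit 168, nat_lit 126, nat_lit 252, nat_lit 210, nat_lit 168, nat_lit 294, nat_lit 252, nat_lit 336, nat_lit 294, nat_lit 420, nat_lit 210, nat_lit 252, nat_lit 462, nat_lit 420, nat_lit 210, nat_lit 168, nat_lit 126, nat_lit 84, nat_lit 42, nat_lit 84, nat_lit 126, nat_lit 168, nat_lit 210, nat_lit 420, nat_lit 462, nat_lit 252, nat_lit 210, nat_lit 420, nat_lit 294, nat_lit 336, nat_lit 252, nat_lit 294, nat_lit 168, nat_lit 210, nat_lit 252, nat_lit 126, nat_lit 168, nat_lit 210, nat_lit 420, nat_lit 462])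
(.leaf 159 85 [nat_lit 168, nat_lit 210, nat_lit 252, nat_lit 126, nat_lit 168, nat_lit 210, nat_lit 420, nat_lit 462, nat_lit 294, nat_lit 210, nat_lit 252, nat_lit 126, nat_lit 168, nat_lit 210, nat_lit 420, nat_lit 378, nat_lit 336, nat_lit 294, nat_lit 252, nat_lit 210, nat_lit 168, nat_lit 126, nat_lit 84, nat_lit 126, nat_lit 168, nat_lit 210, nat_lit 252, nat_lit 294, nat_lit 336, nat_lit 378, nat_lit 420, nat_lit 210, nat_lit 168, nat_lit 126, nat_lit 252, nat_lit 210, nat_lit 294, nat_lit 462, nat_lit 420, nat_lit 210, nat_lit 168, nat_lit 126, nat_lit 252, nat_lit 210, nat_lit 168, nat_lit 294, nat_lit 252, nat_lit 336, nat_lit 294, nat_lit 420, nat_lit 210, nat_lit 252, nat_lit 462, nat_lit 420, nat_lit 210, nat_lit 168, nat_lit 126, nat_lit 84, nat_lit 42, nat_lit 84, nat_lit 126, nat_lit 168, nat_lit 210, nat_lit 420, nat_lit 462, nat_lit 252, nat_lit 210, nat_lit 420, nat_lit 294, nat_lit 336, nat_lit 252, nat_lit 294, nat_lit 168, nat_lit 210,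 nat_lit 252, nat_lit 126, nat_lit 168, nat_lit 210, nat_lit 420, nat_lit 462, nat_lit 294, nat_lit 210, nat_lit 252, nat_lit 126, nat_lit 168, nat_lit 210, nat_lit 420, nat_lit 378, nat_lit 336, nat_lit 294, nat_lit 252, nat_lit 210, nat_lit 168, nat_lit 126, nat_lit 84, nat_lit 126, nat_lit 168, nat_lit 210, nat_lit 252, nat_lit 294, nat_lit 336, nat_lit 378, nat_lit 420, nat_lit 210, nat_lit 168, nat_lit 126, nat_lit 252, nat_lit 210, nat_lit 294, nat_lit 462, nat_lit 420, nat_lit 210, nat_lit 168, nat_lit 126, nat_lit 252, nat_lit 210, nat_lit 168, nat_lit 294, nat_lit 252, nat_lit 336, nat_lit 294, nat_lit 420, nat_lit 210, nat_lit 252, nat_lit 462, nat_lit 420, nat_lit 210, nat_lit 168, nat_lit 126, nat_lit 84, nat_lit 42, nat_lit 84, nat_lit 126, nat_lit 168, nat_lit 210, nat_lit 420, nat_lit 462, nat_lit 252, nat_lit 210, nat_lit 420, nat_lit 294, nat_lit 336, nat_lit 252])))))))))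
(.leaf 0 0 [])))))
noncomputable def wt8 : LT := (.node (nat_lit 2) (.node (nat_lit 0) (.leaf 149 0 [nat_lit 462, nat_lit 336, nat_lit 462])
(.node (nat_lit 1) (.leaf 39 3 [nat_lit 0, nat_lit 336, nat_lit 0])
(.leaf 147 0 [nat_lit 420, nat_lit 336, nat_lit 420])))
(.node (nat_lit 7) (.node (nat_lit 4) (.node (nat_lit 3) (.leaf 59 3 [nat_lit 42, nat_lit 336, nat_lit 42])
(.leaf 77 3 [nat_lit 84, nat_lit 336, nat_lit 84]))
(.node (nat_lit 5) (.leaf 145 0 [nat_lit 378, nat_lit 336, nat_lit 378, nat_lit 336, nat_lit 378])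
(.node (nat_lit 6) (.leaf 93 3 [nat_lit 126, nat_lit 336, nat_lit 126])
(.leaf 119 3 [nat_lit 210, nat_lit 336, nat_lit 210]))))
(.node (nat_lit 14) (.node (nat_lit 8) (.leaf 129 3 [nat_lit 252, nat_lit 336, nat_lit 252])
(.node (nat_lit 9) (.leaf 107 3 [nat_lit 168, nat_lit 336, nat_lit 168])
(.node (nat_lit 10) (.leaf 137 5 [nat_lit 294, nat_lit 336, nat_lit 294, nat_lit 336, nat_lit 294])
(.node (nat_lit 11) (.leaf 159 114 [nat_lit 378, nat_lit 420, nat_lit 210, nat_lit 168, nat_lit 126, nat_lit 252, nat_lit 210, nat_lit 294, nat_lit 462, nat_lit 420, nat_lit 210, nat_lit 168, nat_lit 126, nat_lit 252, nat_lit 210, nat_lit 168, nat_lit 294, nat_lit 252, nat_lit 336, nat_lit 294, nat_lit 420, nat_lit 210, nat_lit 252, nat_lit 462, nat_lit 420, nat_lit 210, nat_lit 168, nat_lit 126, nat_lit 84, nat_lit 42, nat_lit 84, nat_lit 126, nat_lit 168, nat_lit 210, nat_lit 420, nat_lit 462, nat_lit 252, nat_lit 210, nat_lit 420, nat_lit 294, nat_lit 336, nat_lit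 252, nat_lit 294, nat_lit 168, nat_lit 210, nat_lit 252, nat_lit 126, nat_lit 168, nat_lit 210, nat_lit 420, nat_lit 462, nat_lit 294, nat_lit 210, nat_lit 252, nat_lit 126, nat_lit 168, nat_lit 210, nat_lit 420, nat_lit 378, nat_lit 336, nat_lit 294, nat_lit 252, nat_lit 210, nat_lit 168, nat_lit 126, nat_lit 84, nat_lit 126, nat_lit 168, nat_lit 210, nat_lit 252, nat_lit 294, nat_lit 336, nat_lit 378, nat_lit 420, nat_lit 210, nat_lit 168, nat_lit 126, nat_lit 252, nat_lit 210, nat_lit 294, nat_lit 462, nat_lit 420, nat_lit 210, nat_lit 168, nat_lit 126, nat_lit 252, nat_lit 210, nat_lit 168, nat_lit 294, nat_lit 252, nat_lit 336, nat_lit 294, nat_lit 420, nat_lit 210, nat_lit 252, nat_lit 462, nat_lit 420, nat_lit 210, nat_lit 168, nat_lit 126, nat_lit 84, nat_lit 42, nat_lit 84, nat_lit 126, nat_lit 168, nat_lit 210, nat_lit 420, nat_lit 462, nat_lit 252, nat_lit 210, nat_lit 420, nat_lit 294, nat_lit 336, nat_lit 252, nat_lit 294, nat_lit 168, nat_lit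 210, nat_lit 252, nat_lit 126, nat_lit 168, nat_lit 210, nat_lit 420, nat_lit 462, nat_lit 294, nat_lit 210, nat_lit 252, nat_lit 126, nat_lit 168, nat_lit 210, nat_lit 420, nat_lit 378, nat_lit 336, nat_lit 294, nat_lit 252, nat_lit 210, nat_lit 168, nat_lit 126, nat_lit 84, nat_lit 126, nat_lit 168, nat_lit 210, nat_lit 252, nat_lit 294])
(.node (nat_lit 12) (.leaf 159 102 [nat_lit 294, nat_lit 252, nat_lit 210, nat_lit 168, nat_lit 126, nat_lit 84, nat_lit 126, nat_lit 168, nat_lit 210, nat_lit 252, nat_lit 294, nat_lit 336, nat_lit 378, nat_lit 420, nat_lit 210, nat_lit 168, nat_lit 126, nat_lit 252, nat_lit 210, nat_lit 294, nat_lit 462, nat_lit 420, nat_lit 210, nat_lit 168, nat_lit 126, nat_lit 252, nat_lit 210, nat_lit 168, nat_lit 294, nat_lit 252, nat_lit 336, nat_lit 294, nat_lit 420, nat_lit 210, nat_lit 252, nat_lit 462, nat_lit 420, nat_lit 210, nat_lit 168, nat_lit 126, nat_lit 84, nat_lit 42, nat_lit 84, nat_lit 126, nat_lit 168, nat_lit 210,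 nat_lit 420, nat_lit 462, nat_lit 252, nat_lit 210, nat_lit 420, nat_lit 294, nat_lit 336, nat_lit 252, nat_lit 294, nat_lit 168, nat_lit 210, nat_lit 252, nat_lit 126, nat_lit 168, nat_lit 210, nat_lit 420, nat_lit 462, nat_lit 294, nat_lit 210, nat_lit 252, nat_lit 126, nat_lit 168, nat_lit 210, nat_lit 420, nat_lit 378, nat_lit 336, nat_lit 294, nat_lit 252, nat_lit 210, nat_lit 168, nat_lit 126, nat_lit 84, nat_lit 126, nat_lit 168, nat_lit 210, nat_lit 252, nat_lit 294, nat_lit 336, nat_lit 378, nat_lit 420, nat_lit 210, nat_lit 168, nat_lit 126, nat_lit 252, nat_lit 210, nat_lit 294, nat_lit 462, nat_lit 420, nat_lit 210, nat_lit 168, nat_lit 126, nat_lit 252, nat_lit 210, nat_lit 168, nat_lit 294, nat_lit 252, nat_lit 336, nat_lit 294, nat_lit 420, nat_lit 210, nat_lit 252, nat_lit 462, nat_lit 420, nat_lit 210, nat_lit 168, nat_lit 126, nat_lit 84, nat_lit 42, nat_lit 84, nat_lit 126, nat_lit 168, nat_lit 210, nat_lit 420, nat_lit 462, nat_lit 252,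 nat_lit 210, nat_lit 420, nat_lit 294, nat_lit 336, nat_lit 252, nat_lit 294, nat_lit 168, nat_lit 210, nat_lit 252, nat_lit 126, nat_lit 168, nat_lit 210, nat_lit 420, nat_lit 462, nat_lit 294, nat_lit 210, nat_lit 252, nat_lit 126, nat_lit 168, nat_lit 210, nat_lit 420, nat_lit 378])
(.node (nat_lit 13) (.leaf 159 133 [nat_lit 294, nat_lit 420, nat_lit 210, nat_lit 252, nat_lit 462, nat_lit 420, nat_lit 210, nat_lit 168, nat_lit 126, nat_lit 84, nat_lit 42, nat_lit 84, nat_lit 126, nat_lit 168, nat_lit 210, nat_lit 420, nat_lit 462, nat_lit 252, nat_lit 210, nat_lit 420, nat_lit 294, nat_lit 336, nat_lit 252, nat_lit 294, nat_lit 168, nat_lit 210, nat_lit 252, nat_lit 126, nat_lit 168, nat_lit 210, nat_lit 420, nat_lit 462, nat_lit 294, nat_lit 210, nat_lit 252, nat_lit 126, nat_lit 168, nat_lit 210, nat_lit 420, nat_lit 378, nat_lit 336, nat_lit 294, nat_lit 252, nat_lit 210, nat_lit 168, nat_lit 126, nat_lit 84, nat_lit 126, nat_lit 168, nat_lit 210,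 nat_lit 252, nat_lit 294, nat_lit 336, nat_lit 378, nat_lit 420, nat_lit 210, nat_lit 168, nat_lit 126, nat_lit 252, nat_lit 210, nat_lit 294, nat_lit 462, nat_lit 420, nat_lit 210, nat_lit 168, nat_lit 126, nat_lit 252, nat_lit 210, nat_lit 168, nat_lit 294, nat_lit 252, nat_lit 336, nat_lit 294, nat_lit 420, nat_lit 210, nat_lit 252, nat_lit 462, nat_lit 420, nat_lit 210, nat_lit 168, nat_lit 126, nat_lit 84, nat_lit 42, nat_lit 84, nat_lit 126, nat_lit 168, nat_lit 210, nat_lit 420, nat_lit 462, nat_lit 252, nat_lit 210, nat_lit 420, nat_lit 294, nat_lit 336, nat_lit 252, nat_lit 294, nat_lit 168, nat_lit 210, nat_lit 252, nat_lit 126, nat_lit 168, nat_lit 210, nat_lit 420, nat_lit 462, nat_lit 294, nat_lit 210, nat_lit 252, nat_lit 126, nat_lit 168, nat_lit 210, nat_lit 420, nat_lit 378, nat_lit 336, nat_lit 294, nat_lit 252, nat_lit 210, nat_lit 168, nat_lit 126, nat_lit 84, nat_lit 126, nat_lit 168, nat_lit 210, nat_lit 252, nat_lit 294, nat_lit 336,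 nat_lit 378, nat_lit 420, nat_lit 210, nat_lit 168, nat_lit 126, nat_lit 252, nat_lit 210, nat_lit 294, nat_lit 462, nat_lit 420, nat_lit 210, nat_lit 168, nat_lit 126, nat_lit 252, nat_lit 210, nat_lit 168, nat_lit 294, nat_lit 252])
(.leaf 159 83 [nat_lit 252, nat_lit 294, nat_lit 168, nat_lit 210, nat_lit 252, nat_lit 126, nat_lit 168, nat_lit 210, nat_lit 420, nat_lit 462, nat_lit 294, nat_lit 210, nat_lit 252, nat_lit 126, nat_lit 168, nat_lit 210, nat_lit 420, nat_lit 378, nat_lit 336, nat_lit 294, nat_lit 252, nat_lit 210, nat_lit 168, nat_lit 126, nat_lit 84, nat_lit 126, nat_lit 168, nat_lit 210, nat_lit 252, nat_lit 294, nat_lit 336, nat_lit 378, nat_lit 420, nat_lit 210, nat_lit 168, nat_lit 126, nat_lit 252, nat_lit 210, nat_lit 294, nat_lit 462, nat_lit 420, nat_lit 210, nat_lit 168, nat_lit 126, nat_lit 252, nat_lit 210, nat_lit 168, nat_lit 294, nat_lit 252, nat_lit 336, nat_lit 294, nat_lit 420, nat_lit 210, nat_lit 252, nat_lit 462, nat_lit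 420, nat_lit 210, nat_lit 168, nat_lit 126, nat_lit 84, nat_lit 42, nat_lit 84, nat_lit 126, nat_lit 168, nat_lit 210, nat_lit 420, nat_lit 462, nat_lit 252, nat_lit 210, nat_lit 420, nat_lit 294, nat_lit 336, nat_lit 252, nat_lit 294, nat_lit 168, nat_lit 210, nat_lit 252, nat_lit 126, nat_lit 168, nat_lit 210, nat_lit 420, nat_lit 462, nat_lit 294, nat_lit 210, nat_lit 252, nat_lit 126, nat_lit 168, nat_lit 210, nat_lit 420, nat_lit 378, nat_lit 336, nat_lit 294, nat_lit 252, nat_lit 210, nat_lit 168, nat_lit 126, nat_lit 84, nat_lit 126, nat_lit 168, nat_lit 210, nat_lit 252, nat_lit 294, nat_lit 336, nat_lit 378, nat_lit 420, nat_lit 210, nat_lit 168, nat_lit 126, nat_lit 252, nat_lit 210, nat_lit 294, nat_lit 462, nat_lit 420, nat_lit 210, nat_lit 168, nat_lit 126, nat_lit 252, nat_lit 210, nat_lit 168, nat_lit 294, nat_lit 252, nat_lit 336, nat_lit 294, nat_lit 420, nat_lit 210, nat_lit 252, nat_lit 462, nat_lit 420, nat_lit 210, nat_lit 168, nat_lit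 126, nat_lit 84, nat_lit 42, nat_lit 84, nat_lit 126, nat_lit 168, nat_lit 210, nat_lit 420, nat_lit 462, nat_lit 252, nat_lit 210, nat_lit 420, nat_lit 294])))))))
(.leaf 0 0 []))))
noncomputable def wt9 : LT := (.node (nat_lit 2) (.node (nat_lit 0) (.leaf 153 0 [nat_lit 462, nat_lit 378, nat_lit 462])
(.node (nat_lit 1) (.leaf 41 3 [nat_lit 0, nat_lit 378, nat_lit 0])
(.leaf 151 0 [nat_lit 420, nat_lit 378, nat_lit 420])))
(.node (nat_lit 7) (.node (nat_lit 4) (.node (nat_lit 3) (.leaf 61 3 [nat_lit 42, nat_lit 378, nat_lit 42])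
(.leaf 79 3 [nat_lit 84, nat_lit 378, nat_lit 84]))
(.node (nat_lit 5) (.leaf 95 3 [nat_lit 126, nat_lit 378, nat_lit 126])
(.node (nat_lit 6) (.leaf 139 3 [nat_lit 294, nat_lit 378, nat_lit 294])
(.leaf 121 3 [nat_lit 210, nat_lit 378, nat_lit 210]))))
(.node (nat_lit 12) (.node (nat_lit 8) (.leaf 131 3 [nat_lit 252, nat_lit 378, nat_lit 252])
(.node (nat_lit 9) (.leaf 109 3 [nat_lit 168, nat_lit 378, nat_lit 168])
(.node (nat_lit 10) (.leaf 145 5 [nat_lit 336, nat_lit 378, nat_lit 336, nat_lit 378, nat_lit 336])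
(.node (nat_lit 11) (.leaf 159 101 [nat_lit 336, nat_lit 294, nat_lit 252, nat_lit 210, nat_lit 168, nat_lit 126, nat_lit 84, nat_lit 126, nat_lit 168, nat_lit 210, nat_lit 252, nat_lit 294, nat_lit 336, nat_lit 378, nat_lit 420, nat_lit 210, nat_lit 168, nat_lit 126, nat_lit 252, nat_lit 210, nat_lit 294, nat_lit 462, nat_lit 420, nat_lit 210, nat_lit 168, nat_lit 126, nat_lit 252, nat_lit 210, nat_lit 168, nat_lit 294, nat_lit 252, nat_lit 336, nat_lit 294, nat_lit 420, nat_lit 210, nat_lit 252, nat_lit 462, nat_lit 420, nat_lit 210, nat_lit 168, nat_lit 126, nat_lit 84, nat_lit 42, nat_lit 84, nat_lit 126, nat_lit 168, nat_lit 210, nat_lit 420, nat_lit 462, nat_lit 252, nat_lit 210, nat_lit 420, nat_lit 294, nat_lit 336, nat_lit 252, nat_lit 294, nat_lit 168, nat_lit 210, nat_lit 252, nat_lit 126, nat_lit 168, nat_lit 210, nat_lit 420, nat_lit 462, nat_lit 294, nat_lit 210, nat_lit 252, nat_lit 126, nat_lit 168, nat_lit 210, nat_lit 420, nat_lit 378, nat_lit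 336, nat_lit 294, nat_lit 252, nat_lit 210, nat_lit 168, nat_lit 126, nat_lit 84, nat_lit 126, nat_lit 168, nat_lit 210, nat_lit 252, nat_lit 294, nat_lit 336, nat_lit 378, nat_lit 420, nat_lit 210, nat_lit 168, nat_lit 126, nat_lit 252, nat_lit 210, nat_lit 294, nat_lit 462, nat_lit 420, nat_lit 210, nat_lit 168, nat_lit 126, nat_lit 252, nat_lit 210, nat_lit 168, nat_lit 294, nat_lit 252, nat_lit 336, nat_lit 294, nat_lit 420, nat_lit 210, nat_lit 252, nat_lit 462, nat_lit 420, nat_lit 210, nat_lit 168, nat_lit 126, nat_lit 84, nat_lit 42, nat_lit 84, nat_lit 126, nat_lit 168, nat_lit 210, nat_lit 420, nat_lit 462, nat_lit 252, nat_lit 210, nat_lit 420, nat_lit 294, nat_lit 336, nat_lit 252, nat_lit 294, nat_lit 168, nat_lit 210, nat_lit 252, nat_lit 126, nat_lit 168, nat_lit 210, nat_lit 420, nat_lit 462, nat_lit 294, nat_lit 210, nat_lit 252, nat_lit 126, nat_lit 168, nat_lit 210, nat_lit 420])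
(.leaf 159 115 [nat_lit 420, nat_lit 210, nat_lit 168, nat_lit 126, nat_lit 252, nat_lit 210, nat_lit 294, nat_lit 462, nat_lit 420, nat_lit 210, nat_lit 168, nat_lit 126, nat_lit 252, nat_lit 210, nat_lit 168, nat_lit 294, nat_lit 252, nat_lit 336, nat_lit 294, nat_lit 420, nat_lit 210, nat_lit 252, nat_lit 462, nat_lit 420, nat_lit 210, nat_lit 168, nat_lit 126, nat_lit 84, nat_lit 42, nat_lit 84, nat_lit 126, nat_lit 168, nat_lit 210, nat_lit 420, nat_lit 462, nat_lit 252, nat_lit 210, nat_lit 420, nat_lit 294, nat_lit 336, nat_lit 252, nat_lit 294, nat_lit 168, nat_lit 210, nat_lit 252, nat_lit 126, nat_lit 168, nat_lit 210, nat_lit 420, nat_lit 462, nat_lit 294, nat_lit 210, nat_lit 252, nat_lit 126, nat_lit 168, nat_lit 210, nat_lit 420, nat_lit 378, nat_lit 336, nat_lit 294, nat_lit 252, nat_lit 210, nat_lit 168, nat_lit 126, nat_lit 84, nat_lit 126, nat_lit 168, nat_lit 210, nat_lit 252, nat_lit 294, nat_lit 336, nat_lit 378, nat_lit 420, nat_lit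 210, nat_lit 168, nat_lit 126, nat_lit 252, nat_lit 210, nat_lit 294, nat_lit 462, nat_lit 420, nat_lit 210, nat_lit 168, nat_lit 126, nat_lit 252, nat_lit 210, nat_lit 168, nat_lit 294, nat_lit 252, nat_lit 336, nat_lit 294, nat_lit 420, nat_lit 210, nat_lit 252, nat_lit 462, nat_lit 420, nat_lit 210, nat_lit 168, nat_lit 126, nat_lit 84, nat_lit 42, nat_lit 84, nat_lit 126, nat_lit 168, nat_lit 210, nat_lit 420, nat_lit 462, nat_lit 252, nat_lit 210, nat_lit 420, nat_lit 294, nat_lit 336, nat_lit 252, nat_lit 294, nat_lit 168, nat_lit 210, nat_lit 252, nat_lit 126, nat_lit 168, nat_lit 210, nat_lit 420, nat_lit 462, nat_lit 294, nat_lit 210, nat_lit 252, nat_lit 126, nat_lit 168, nat_lit 210, nat_lit 420, nat_lit 378, nat_lit 336, nat_lit 294, nat_lit 252, nat_lit 210, nat_lit 168, nat_lit 126, nat_lit 84, nat_lit 126, nat_lit 168, nat_lit 210, nat_lit 252, nat_lit 294, nat_lit 336])))))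
(.leaf 0 0 []))))
noncomputable def wt10 : LT := (.node (nat_lit 4) (.node (nat_lit 1) (.node (nat_lit 0) (.leaf 43 3 [nat_lit 0, nat_lit 420, nat_lit 0])
(.leaf 155 0 [nat_lit 462, nat_lit 420, nat_lit 462, nat_lit 420, nat_lit 462]))
(.node (nat_lit 2) (.leaf 151 3 [nat_lit 378, nat_lit 420, nat_lit 378])
(.node (nat_lit 3) (.leaf 63 3 [nat_lit 42, nat_lit 420, nat_lit 42])
(.leaf 147 3 [nat_lit 336, nat_lit 420, nat_lit 336]))))
(.node (nat_lit 15) (.node (nat_lit 6) (.node (nat_lit 5) (.leaf 81 3 [nat_lit 84, nat_lit 420, nat_lit 84])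
(.leaf 97 3 [nat_lit 126, nat_lit 420, nat_lit 126]))
(.node (nat_lit 8) (.node (nat_lit 7) (.leaf 141 3 [nat_lit 294, nat_lit 420, nat_lit 294])
(.leaf 133 3 [nat_lit 252, nat_lit 420, nat_lit 252]))
(.node (nat_lit 9) (.leaf 111 3 [nat_lit 168, nat_lit 420, nat_lit 168])
(.node (nat_lit 10) (.leaf 123 5 [nat_lit 210, nat_lit 420, nat_lit 210, nat_lit 420, nat_lit 210])
(.node (nat_lit 12) (.node (nat_lit 11) (.leaf 157 59 [nat_lit 210, nat_lit 168, nat_lit 126, nat_lit 84, nat_lit 0, nat_lit 210, nat_lit 420, nat_lit 252, nat_lit 210, nat_lit 168, nat_lit 210, nat_lit 252, nat_lit 420, nat_lit 210, nat_lit 420, nat_lit 252, nat_lit 168, nat_lit 294, nat_lit 252, nat_lit 210, nat_lit 420, nat_lit 168, nat_lit 210, nat_lit 252, nat_lit 126, nat_lit 168, nat_lit 210, nat_lit 420, nat_lit 294, nat_lit 252, nat_lit 210, nat_lit 168, nat_lit 126, nat_lit 84, nat_lit 126, nat_lit 168, nat_lit 210, nat_lit 252, nat_lit 294, nat_lit 420, nat_lit 210, nat_lit 168,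 nat_lit 126, nat_lit 252, nat_lit 210, nat_lit 168, nat_lit 420, nat_lit 210, nat_lit 252, nat_lit 294, nat_lit 126, nat_lit 168, nat_lit 210, nat_lit 420, nat_lit 252, nat_lit 210, nat_lit 168, nat_lit 126, nat_lit 84, nat_lit 126, nat_lit 168, nat_lit 210, nat_lit 252])
(.leaf 157 42 [nat_lit 210, nat_lit 252, nat_lit 294, nat_lit 126, nat_lit 168, nat_lit 210, nat_lit 420, nat_lit 252, nat_lit 210, nat_lit 168, nat_lit 126, nat_lit 84, nat_lit 126, nat_lit 168, nat_lit 210, nat_lit 252, nat_lit 420, nat_lit 210, nat_lit 168, nat_lit 126, nat_lit 84, nat_lit 0, nat_lit 210, nat_lit 420, nat_lit 252, nat_lit 210, nat_lit 168, nat_lit 210, nat_lit 252, nat_lit 420, nat_lit 210, nat_lit 420, nat_lit 252, nat_lit 168, nat_lit 294, nat_lit 252, nat_lit 210, nat_lit 420, nat_lit 168, nat_lit 210, nat_lit 252, nat_lit 126, nat_lit 168, nat_lit 210, nat_lit 420, nat_lit 294, nat_lit 252, nat_lit 210, nat_lit 168, nat_lit 126, nat_lit 84, nat_lit 126, nat_lit 168,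 nat_lit 210, nat_lit 252, nat_lit 294, nat_lit 420, nat_lit 210, nat_lit 168, nat_lit 126, nat_lit 252, nat_lit 210, nat_lit 168]))
(.node (nat_lit 13) (.leaf 159 92 [nat_lit 462, nat_lit 294, nat_lit 210, nat_lit 252, nat_lit 126, nat_lit 168, nat_lit 210, nat_lit 420, nat_lit 378, nat_lit 336, nat_lit 294, nat_lit 252, nat_lit 210, nat_lit 168, nat_lit 126, nat_lit 84, nat_lit 126, nat_lit 168, nat_lit 210, nat_lit 252, nat_lit 294, nat_lit 336, nat_lit 378, nat_lit 420, nat_lit 210, nat_lit 168, nat_lit 126, nat_lit 252, nat_lit 210, nat_lit 294, nat_lit 462, nat_lit 420, nat_lit 210, nat_lit 168, nat_lit 126, nat_lit 252, nat_lit 210, nat_lit 168, nat_lit 294, nat_lit 252, nat_lit 336, nat_lit 294, nat_lit 420, nat_lit 210, nat_lit 252, nat_lit 462, nat_lit 420, nat_lit 210, nat_lit 168, nat_lit 126, nat_lit 84, nat_lit 42, nat_lit 84, nat_lit 126, nat_lit 168, nat_lit 210, nat_lit 420, nat_lit 462, nat_lit 252, nat_lit 210, nat_lit 420, nat_lit 294,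 nat_lit 336, nat_lit 252, nat_lit 294, nat_lit 168, nat_lit 210, nat_lit 252, nat_lit 126, nat_lit 168, nat_lit 210, nat_lit 420, nat_lit 462, nat_lit 294, nat_lit 210, nat_lit 252, nat_lit 126, nat_lit 168, nat_lit 210, nat_lit 420, nat_lit 378, nat_lit 336, nat_lit 294, nat_lit 252, nat_lit 210, nat_lit 168, nat_lit 126, nat_lit 84, nat_lit 126, nat_lit 168, nat_lit 210, nat_lit 252, nat_lit 294, nat_lit 336, nat_lit 378, nat_lit 420, nat_lit 210, nat_lit 168, nat_lit 126, nat_lit 252, nat_lit 210, nat_lit 294, nat_lit 462, nat_lit 420, nat_lit 210, nat_lit 168, nat_lit 126, nat_lit 252, nat_lit 210, nat_lit 168, nat_lit 294, nat_lit 252, nat_lit 336, nat_lit 294, nat_lit 420, nat_lit 210, nat_lit 252, nat_lit 462, nat_lit 420, nat_lit 210, nat_lit 168, nat_lit 126, nat_lit 84, nat_lit 42, nat_lit 84, nat_lit 126, nat_lit 168, nat_lit 210, nat_lit 420, nat_lit 462, nat_lit 252, nat_lit 210, nat_lit 420, nat_lit 294, nat_lit 336, nat_lit 252, nat_lit 294,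 nat_lit 168, nat_lit 210, nat_lit 252, nat_lit 126, nat_lit 168, nat_lit 210])
(.node (nat_lit 14) (.leaf 157 35 [nat_lit 210, nat_lit 168, nat_lit 126, nat_lit 252, nat_lit 210, nat_lit 168, nat_lit 420, nat_lit 210, nat_lit 252, nat_lit 294, nat_lit 126, nat_lit 168, nat_lit 210, nat_lit 420, nat_lit 252, nat_lit 210, nat_lit 168, nat_lit 126, nat_lit 84, nat_lit 126, nat_lit 168, nat_lit 210, nat_lit 252, nat_lit 420, nat_lit 210, nat_lit 168, nat_lit 126, nat_lit 84, nat_lit 0, nat_lit 210, nat_lit 420, nat_lit 252, nat_lit 210, nat_lit 168, nat_lit 210, nat_lit 252, nat_lit 420, nat_lit 210, nat_lit 420, nat_lit 252, nat_lit 168, nat_lit 294, nat_lit 252, nat_lit 210, nat_lit 420, nat_lit 168, nat_lit 210, nat_lit 252, nat_lit 126, nat_lit 168, nat_lit 210, nat_lit 420, nat_lit 294, nat_lit 252, nat_lit 210, nat_lit 168, nat_lit 126, nat_lit 84, nat_lit 126, nat_lit 168, nat_lit 210, nat_lit 252, nat_lit 294])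
(.leaf 157 49 [nat_lit 252, nat_lit 210, nat_lit 168, nat_lit 126, nat_lit 84, nat_lit 126, nat_lit 168, nat_lit 210, nat_lit 252, nat_lit 420, nat_lit 210, nat_lit 168, nat_lit 126, nat_lit 84, nat_lit 0, nat_lit 210, nat_lit 420, nat_lit 252, nat_lit 210, nat_lit 168, nat_lit 210, nat_lit 252, nat_lit 420, nat_lit 210, nat_lit 420, nat_lit 252, nat_lit 168, nat_lit 294, nat_lit 252, nat_lit 210, nat_lit 420, nat_lit 168, nat_lit 210, nat_lit 252, nat_lit 126, nat_lit 168, nat_lit 210, nat_lit 420, nat_lit 294, nat_lit 252, nat_lit 210, nat_lit 168, nat_lit 126, nat_lit 84, nat_lit 126, nat_lit 168, nat_lit 210, nat_lit 252, nat_lit 294, nat_lit 420, nat_lit 210, nat_lit 168, nat_lit 126, nat_lit 252, nat_lit 210, nat_lit 168, nat_lit 420, nat_lit 210, nat_lit 252, nat_lit 294, nat_lit 126, nat_lit 168, nat_lit 210]))))))))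
(.node (nat_lit 27) (.node (nat_lit 18) (.node (nat_lit 16) (.leaf 159 77 [nat_lit 462, nat_lit 252, nat_lit 210, nat_lit 420, nat_lit 294, nat_lit 336, nat_lit 252, nat_lit 294, nat_lit 168, nat_lit 210, nat_lit 252, nat_lit 126, nat_lit 168, nat_lit 210, nat_lit 420, nat_lit 462, nat_lit 294, nat_lit 210, nat_lit 252, nat_lit 126, nat_lit 168, nat_lit 210, nat_lit 420, nat_lit 378, nat_lit 336, nat_lit 294, nat_lit 252, nat_lit 210, nat_lit 168, nat_lit 126, nat_lit 84, nat_lit 126, nat_lit 168, nat_lit 210, nat_lit 252, nat_lit 294, nat_lit 336, nat_lit 378, nat_lit 420, nat_lit 210, nat_lit 168, nat_lit 126, nat_lit 252, nat_lit 210, nat_lit 294, nat_lit 462, nat_lit 420, nat_lit 210, nat_lit 168, nat_lit 126, nat_lit 252, nat_lit 210, nat_lit 168, nat_lit 294, nat_lit 252, nat_lit 336, nat_lit 294, nat_lit 420, nat_lit 210, nat_lit 252, nat_lit 462, nat_lit 420, nat_lit 210, nat_lit 168, nat_lit 126, nat_lit 84, nat_lit 42, nat_lit 84, nat_lit 126, nat_lit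 168, nat_lit 210, nat_lit 420, nat_lit 462, nat_lit 252, nat_lit 210, nat_lit 420, nat_lit 294, nat_lit 336, nat_lit 252, nat_lit 294, nat_lit 168, nat_lit 210, nat_lit 252, nat_lit 126, nat_lit 168, nat_lit 210, nat_lit 420, nat_lit 462, nat_lit 294, nat_lit 210, nat_lit 252, nat_lit 126, nat_lit 168, nat_lit 210, nat_lit 420, nat_lit 378, nat_lit 336, nat_lit 294, nat_lit 252, nat_lit 210, nat_lit 168, nat_lit 126, nat_lit 84, nat_lit 126, nat_lit 168, nat_lit 210, nat_lit 252, nat_lit 294, nat_lit 336, nat_lit 378, nat_lit 420, nat_lit 210, nat_lit 168, nat_lit 126, nat_lit 252, nat_lit 210, nat_lit 294, nat_lit 462, nat_lit 420, nat_lit 210, nat_lit 168, nat_lit 126, nat_lit 252, nat_lit 210, nat_lit 168, nat_lit 294, nat_lit 252, nat_lit 336, nat_lit 294, nat_lit 420, nat_lit 210, nat_lit 252, nat_lit 462, nat_lit 420, nat_lit 210, nat_lit 168, nat_lit 126, nat_lit 84, nat_lit 42, nat_lit 84, nat_lit 126, nat_lit 168, nat_lit 210])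
(.node (nat_lit 17) (.leaf 157 16 [nat_lit 168, nat_lit 210, nat_lit 252, nat_lit 126, nat_lit 168, nat_lit 210, nat_lit 420, nat_lit 294, nat_lit 252, nat_lit 210, nat_lit 168, nat_lit 126, nat_lit 84, nat_lit 126, nat_lit 168, nat_lit 210, nat_lit 252, nat_lit 294, nat_lit 420, nat_lit 210, nat_lit 168, nat_lit 126, nat_lit 252, nat_lit 210, nat_lit 168, nat_lit 420, nat_lit 210, nat_lit 252, nat_lit 294, nat_lit 126, nat_lit 168, nat_lit 210, nat_lit 420, nat_lit 252, nat_lit 210, nat_lit 168, nat_lit 126, nat_lit 84, nat_lit 126, nat_lit 168, nat_lit 210, nat_lit 252, nat_lit 420, nat_lit 210, nat_lit 168, nat_lit 126, nat_lit 84, nat_lit 0, nat_lit 210, nat_lit 420, nat_lit 252, nat_lit 210, nat_lit 168, nat_lit 210, nat_lit 252, nat_lit 420, nat_lit 210, nat_lit 420, nat_lit 252, nat_lit 168, nat_lit 294, nat_lit 252, nat_lit 210])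
(.leaf 157 23 [nat_lit 294, nat_lit 252, nat_lit 210, nat_lit 168, nat_lit 126, nat_lit 84, nat_lit 126, nat_lit 168, nat_lit 210, nat_lit 252, nat_lit 294, nat_lit 420, nat_lit 210, nat_lit 168, nat_lit 126, nat_lit 252, nat_lit 210, nat_lit 168, nat_lit 420, nat_lit 210, nat_lit 252, nat_lit 294, nat_lit 126, nat_lit 168, nat_lit 210, nat_lit 420, nat_lit 252, nat_lit 210, nat_lit 168, nat_lit 126, nat_lit 84, nat_lit 126, nat_lit 168, nat_lit 210, nat_lit 252, nat_lit 420, nat_lit 210, nat_lit 168, nat_lit 126, nat_lit 84, nat_lit 0, nat_lit 210, nat_lit 420, nat_lit 252, nat_lit 210, nat_lit 168, nat_lit 210, nat_lit 252, nat_lit 420, nat_lit 210, nat_lit 420, nat_lit 252, nat_lit 168, nat_lit 294, nat_lit 252, nat_lit 210, nat_lit 420, nat_lit 168, nat_lit 210, nat_lit 252, nat_lit 126, nat_lit 168, nat_lit 210])))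
(.node (nat_lit 21) (.node (nat_lit 19) (.leaf 157 2 [nat_lit 252, nat_lit 210, nat_lit 168, nat_lit 210, nat_lit 252, nat_lit 420, nat_lit 210, nat_lit 420, nat_lit 252, nat_lit 168, nat_lit 294, nat_lit 252, nat_lit 210, nat_lit 420, nat_lit 168, nat_lit 210, nat_lit 252, nat_lit 126, nat_lit 168, nat_lit 210, nat_lit 420, nat_lit 294, nat_lit 252, nat_lit 210, nat_lit 168, nat_lit 126, nat_lit 84, nat_lit 126, nat_lit 168, nat_lit 210, nat_lit 252, nat_lit 294, nat_lit 420, nat_lit 210, nat_lit 168, nat_lit 126, nat_lit 252, nat_lit 210, nat_lit 168, nat_lit 420, nat_lit 210, nat_lit 252, nat_lit 294, nat_lit 126, nat_lit 168, nat_lit 210, nat_lit 420, nat_lit 252, nat_lit 210, nat_lit 168, nat_lit 126, nat_lit 84, nat_lit 126, nat_lit 168, nat_lit 210, nat_lit 252, nat_lit 420, nat_lit 210, nat_lit 168, nat_lit 126, nat_lit 84, nat_lit 0, nat_lit 210])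
(.node (nat_lit 20) (.leaf 157 8 [nat_lit 210, nat_lit 420, nat_lit 252, nat_lit 168, nat_lit 294, nat_lit 252, nat_lit 210, nat_lit 420, nat_lit 168, nat_lit 210, nat_lit 252, nat_lit 126, nat_lit 168, nat_lit 210, nat_lit 420, nat_lit 294, nat_lit 252, nat_lit 210, nat_lit 168, nat_lit 126, nat_lit 84, nat_lit 126, nat_lit 168, nat_lit 210, nat_lit 252, nat_lit 294, nat_lit 420, nat_lit 210, nat_lit 168, nat_lit 126, nat_lit 252, nat_lit 210, nat_lit 168, nat_lit 420, nat_lit 210, nat_lit 252, nat_lit 294, nat_lit 126, nat_lit 168, nat_lit 210, nat_lit 420, nat_lit 252, nat_lit 210, nat_lit 168, nat_lit 126, nat_lit 84, nat_lit 126, nat_lit 168, nat_lit 210, nat_lit 252, nat_lit 420, nat_lit 210, nat_lit 168, nat_lit 126, nat_lit 84, nat_lit 0, nat_lit 210, nat_lit 420, nat_lit 252, nat_lit 210, nat_lit 168, nat_lit 210, nat_lit 252])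
(.leaf 157 10 [nat_lit 252, nat_lit 168, nat_lit 294, nat_lit 252, nat_lit 210, nat_lit 420, nat_lit 168, nat_lit 210, nat_lit 252, nat_lit 126, nat_lit 168, nat_lit 210, nat_lit 420, nat_lit 294, nat_lit 252, nat_lit 210, nat_lit 168, nat_lit 126, nat_lit 84, nat_lit 126, nat_lit 168, nat_lit 210, nat_lit 252, nat_lit 294, nat_lit 420, nat_lit 210, nat_lit 168, nat_lit 126, nat_lit 252, nat_lit 210, nat_lit 168, nat_lit 420, nat_lit 210, nat_lit 252, nat_lit 294, nat_lit 126, nat_lit 168, nat_lit 210, nat_lit 420, nat_lit 252, nat_lit 210, nat_lit 168, nat_lit 126, nat_lit 84, nat_lit 126, nat_lit 168, nat_lit 210, nat_lit 252, nat_lit 420, nat_lit 210, nat_lit 168, nat_lit 126, nat_lit 84, nat_lit 0, nat_lit 210, nat_lit 420, nat_lit 252, nat_lit 210, nat_lit 168, nat_lit 210, nat_lit 252, nat_lit 420, nat_lit 210])))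
(.node (nat_lit 23) (.node (nat_lit 22) (.leaf 159 116 [nat_lit 210, nat_lit 168, nat_lit 126, nat_lit 252, nat_lit 210, nat_lit 294, nat_lit 462, nat_lit 420, nat_lit 210, nat_lit 168, nat_lit 126, nat_lit 252, nat_lit 210, nat_lit 168, nat_lit 294, nat_lit 252, nat_lit 336, nat_lit 294, nat_lit 420, nat_lit 210, nat_lit 252, nat_lit 462, nat_lit 420, nat_lit 210, nat_lit 168, nat_lit 126, nat_lit 84, nat_lit 42, nat_lit 84, nat_lit 126, nat_lit 168, nat_lit 210, nat_lit 420, nat_lit 462, nat_lit 252, nat_lit 210, nat_lit 420, nat_lit 294, nat_lit 336, nat_lit 252, nat_lit 294, nat_lit 168, nat_lit 210, nat_lit 252, nat_lit 126, nat_lit 168, nat_lit 210, nat_lit 420, nat_lit 462, nat_lit 294, nat_lit 210, nat_lit 252, nat_lit 126, nat_lit 168, nat_lit 210, nat_lit 420, nat_lit 378, nat_lit 336, nat_lit 294, nat_lit 252, nat_lit 210, nat_lit 168, nat_lit 126, nat_lit 84, nat_lit 126, nat_lit 168, nat_lit 210, nat_lit 252, nat_lit 294, nat_lit 336, nat_lit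 378, nat_lit 420, nat_lit 210, nat_lit 168, nat_lit 126, nat_lit 252, nat_lit 210, nat_lit 294, nat_lit 462, nat_lit 420, nat_lit 210, nat_lit 168, nat_lit 126, nat_lit 252, nat_lit 210, nat_lit 168, nat_lit 294, nat_lit 252, nat_lit 336, nat_lit 294, nat_lit 420, nat_lit 210, nat_lit 252, nat_lit 462, nat_lit 420, nat_lit 210, nat_lit 168, nat_lit 126, nat_lit 84, nat_lit 42, nat_lit 84, nat_lit 126, nat_lit 168, nat_lit 210, nat_lit 420, nat_lit 462, nat_lit 252, nat_lit 210, nat_lit 420, nat_lit 294, nat_lit 336, nat_lit 252, nat_lit 294, nat_lit 168, nat_lit 210, nat_lit 252, nat_lit 126, nat_lit 168, nat_lit 210, nat_lit 420, nat_lit 462, nat_lit 294, nat_lit 210, nat_lit 252, nat_lit 126, nat_lit 168, nat_lit 210, nat_lit 420, nat_lit 378, nat_lit 336, nat_lit 294, nat_lit 252, nat_lit 210, nat_lit 168, nat_lit 126, nat_lit 84, nat_lit 126, nat_lit 168, nat_lit 210, nat_lit 252, nat_lit 294, nat_lit 336, nat_lit 378])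
(.leaf 159 135 [nat_lit 210, nat_lit 252, nat_lit 462, nat_lit 420, nat_lit 210, nat_lit 168, nat_lit 126, nat_lit 84, nat_lit 42, nat_lit 84, nat_lit 126, nat_lit 168, nat_lit 210, nat_lit 420, nat_lit 462, nat_lit 252, nat_lit 210, nat_lit 420, nat_lit 294, nat_lit 336, nat_lit 252, nat_lit 294, nat_lit 168, nat_lit 210, nat_lit 252, nat_lit 126, nat_lit 168, nat_lit 210, nat_lit 420, nat_lit 462, nat_lit 294, nat_lit 210, nat_lit 252, nat_lit 126, nat_lit 168, nat_lit 210, nat_lit 420, nat_lit 378, nat_lit 336, nat_lit 294, nat_lit 252, nat_lit 210, nat_lit 168, nat_lit 126, nat_lit 84, nat_lit 126, nat_lit 168, nat_lit 210, nat_lit 252, nat_lit 294, nat_lit 336, nat_lit 378, nat_lit 420, nat_lit 210, nat_lit 168, nat_lit 126, nat_lit 252, nat_lit 210, nat_lit 294, nat_lit 462, nat_lit 420, nat_lit 210, nat_lit 168, nat_lit 126, nat_lit 252, nat_lit 210, nat_lit 168, nat_lit 294, nat_lit 252, nat_lit 336, nat_lit 294, nat_lit 420, nat_lit 210, nat_lit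 252, nat_lit 462, nat_lit 420, nat_lit 210, nat_lit 168, nat_lit 126, nat_lit 84, nat_lit 42, nat_lit 84, nat_lit 126, nat_lit 168, nat_lit 210, nat_lit 420, nat_lit 462, nat_lit 252, nat_lit 210, nat_lit 420, nat_lit 294, nat_lit 336, nat_lit 252, nat_lit 294, nat_lit 168, nat_lit 210, nat_lit 252, nat_lit 126, nat_lit 168, nat_lit 210, nat_lit 420, nat_lit 462, nat_lit 294, nat_lit 210, nat_lit 252, nat_lit 126, nat_lit 168, nat_lit 210, nat_lit 420, nat_lit 378, nat_lit 336, nat_lit 294, nat_lit 252, nat_lit 210, nat_lit 168, nat_lit 126, nat_lit 84, nat_lit 126, nat_lit 168, nat_lit 210, nat_lit 252, nat_lit 294, nat_lit 336, nat_lit 378, nat_lit 420, nat_lit 210, nat_lit 168, nat_lit 126, nat_lit 252, nat_lit 210, nat_lit 294, nat_lit 462, nat_lit 420, nat_lit 210, nat_lit 168, nat_lit 126, nat_lit 252, nat_lit 210, nat_lit 168, nat_lit 294, nat_lit 252, nat_lit 336, nat_lit 294]))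
(.node (nat_lit 24) (.leaf 159 124 [nat_lit 210, nat_lit 168, nat_lit 126, nat_lit 252, nat_lit 210, nat_lit 168, nat_lit 294, nat_lit 252, nat_lit 336, nat_lit 294, nat_lit 420, nat_lit 210, nat_lit 252, nat_lit 462, nat_lit 420, nat_lit 210, nat_lit 168, nat_lit 126, nat_lit 84, nat_lit 42, nat_lit 84, nat_lit 126, nat_lit 168, nat_lit 210, nat_lit 420, nat_lit 462, nat_lit 252, nat_lit 210, nat_lit 420, nat_lit 294, nat_lit 336, nat_lit 252, nat_lit 294, nat_lit 168, nat_lit 210, nat_lit 252, nat_lit 126, nat_lit 168, nat_lit 210, nat_lit 420, nat_lit 462, nat_lit 294, nat_lit 210, nat_lit 252, nat_lit 126, nat_lit 168, nat_lit 210, nat_lit 420, nat_lit 378, nat_lit 336, nat_lit 294, nat_lit 252, nat_lit 210, nat_lit 168, nat_lit 126, nat_lit 84, nat_lit 126, nat_lit 168, nat_lit 210, nat_lit 252, nat_lit 294, nat_lit 336, nat_lit 378, nat_lit 420, nat_lit 210, nat_lit 168, nat_lit 126, nat_lit 252, nat_lit 210, nat_lit 294, nat_lit 462, nat_lit 420, nat_lit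 210, nat_lit 168, nat_lit 126, nat_lit 252, nat_lit 210, nat_lit 168, nat_lit 294, nat_lit 252, nat_lit 336, nat_lit 294, nat_lit 420, nat_lit 210, nat_lit 252, nat_lit 462, nat_lit 420, nat_lit 210, nat_lit 168, nat_lit 126, nat_lit 84, nat_lit 42, nat_lit 84, nat_lit 126, nat_lit 168, nat_lit 210, nat_lit 420, nat_lit 462, nat_lit 252, nat_lit 210, nat_lit 420, nat_lit 294, nat_lit 336, nat_lit 252, nat_lit 294, nat_lit 168, nat_lit 210, nat_lit 252, nat_lit 126, nat_lit 168, nat_lit 210, nat_lit 420, nat_lit 462, nat_lit 294, nat_lit 210, nat_lit 252, nat_lit 126, nat_lit 168, nat_lit 210, nat_lit 420, nat_lit 378, nat_lit 336, nat_lit 294, nat_lit 252, nat_lit 210, nat_lit 168, nat_lit 126, nat_lit 84, nat_lit 126, nat_lit 168, nat_lit 210, nat_lit 252, nat_lit 294, nat_lit 336, nat_lit 378, nat_lit 420, nat_lit 210, nat_lit 168, nat_lit 126, nat_lit 252, nat_lit 210, nat_lit 294, nat_lit 462])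
(.node (nat_lit 25) (.leaf 159 139 [nat_lit 210, nat_lit 168, nat_lit 126, nat_lit 84, nat_lit 42, nat_lit 84, nat_lit 126, nat_lit 168, nat_lit 210, nat_lit 420, nat_lit 462, nat_lit 252, nat_lit 210, nat_lit 420, nat_lit 294, nat_lit 336, nat_lit 252, nat_lit 294, nat_lit 168, nat_lit 210, nat_lit 252, nat_lit 126, nat_lit 168, nat_lit 210, nat_lit 420, nat_lit 462, nat_lit 294, nat_lit 210, nat_lit 252, nat_lit 126, nat_lit 168, nat_lit 210, nat_lit 420, nat_lit 378, nat_lit 336, nat_lit 294, nat_lit 252, nat_lit 210, nat_lit 168, nat_lit 126, nat_lit 84, nat_lit 126, nat_lit 168, nat_lit 210, nat_lit 252, nat_lit 294, nat_lit 336, nat_lit 378, nat_lit 420, nat_lit 210, nat_lit 168, nat_lit 126, nat_lit 252, nat_lit 210, nat_lit 294, nat_lit 462, nat_lit 420, nat_lit 210, nat_lit 168, nat_lit 126, nat_lit 252, nat_lit 210, nat_lit 168, nat_lit 294, nat_lit 252, nat_lit 336, nat_lit 294, nat_lit 420, nat_lit 210, nat_lit 252, nat_lit 462, nat_lit 420, nat_lit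 210, nat_lit 168, nat_lit 126, nat_lit 84, nat_lit 42, nat_lit 84, nat_lit 126, nat_lit 168, nat_lit 210, nat_lit 420, nat_lit 462, nat_lit 252, nat_lit 210, nat_lit 420, nat_lit 294, nat_lit 336, nat_lit 252, nat_lit 294, nat_lit 168, nat_lit 210, nat_lit 252, nat_lit 126, nat_lit 168, nat_lit 210, nat_lit 420, nat_lit 462, nat_lit 294, nat_lit 210, nat_lit 252, nat_lit 126, nat_lit 168, nat_lit 210, nat_lit 420, nat_lit 378, nat_lit 336, nat_lit 294, nat_lit 252, nat_lit 210, nat_lit 168, nat_lit 126, nat_lit 84, nat_lit 126, nat_lit 168, nat_lit 210, nat_lit 252, nat_lit 294, nat_lit 336, nat_lit 378, nat_lit 420, nat_lit 210, nat_lit 168, nat_lit 126, nat_lit 252, nat_lit 210, nat_lit 294, nat_lit 462, nat_lit 420, nat_lit 210, nat_lit 168, nat_lit 126, nat_lit 252, nat_lit 210, nat_lit 168, nat_lit 294, nat_lit 252, nat_lit 336, nat_lit 294, nat_lit 420, nat_lit 210, nat_lit 252, nat_lit 462])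
(.node (nat_lit 26) (.leaf 159 100 [nat_lit 378, nat_lit 336, nat_lit 294, nat_lit 252, nat_lit 210, nat_lit 168, nat_lit 126, nat_lit 84, nat_lit 126, nat_lit 168, nat_lit 210, nat_lit 252, nat_lit 294, nat_lit 336, nat_lit 378, nat_lit 420, nat_lit 210, nat_lit 168, nat_lit 126, nat_lit 252, nat_lit 210, nat_lit 294, nat_lit 462, nat_lit 420, nat_lit 210, nat_lit 168, nat_lit 126, nat_lit 252, nat_lit 210, nat_lit 168, nat_lit 294, nat_lit 252, nat_lit 336, nat_lit 294, nat_lit 420, nat_lit 210, nat_lit 252, nat_lit 462, nat_lit 420, nat_lit 210, nat_lit 168, nat_lit 126, nat_lit 84, nat_lit 42, nat_lit 84, nat_lit 126, nat_lit 168, nat_lit 210, nat_lit 420, nat_lit 462, nat_lit 252, nat_lit 210, nat_lit 420, nat_lit 294, nat_lit 336, nat_lit 252, nat_lit 294, nat_lit 168, nat_lit 210, nat_lit 252, nat_lit 126, nat_lit 168, nat_lit 210, nat_lit 420, nat_lit 462, nat_lit 294, nat_lit 210, nat_lit 252, nat_lit 126, nat_lit 168, nat_lit 210, nat_lit 420, nat_lit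 378, nat_lit 336, nat_lit 294, nat_lit 252, nat_lit 210, nat_lit 168, nat_lit 126, nat_lit 84, nat_lit 126, nat_lit 168, nat_lit 210, nat_lit 252, nat_lit 294, nat_lit 336, nat_lit 378, nat_lit 420, nat_lit 210, nat_lit 168, nat_lit 126, nat_lit 252, nat_lit 210, nat_lit 294, nat_lit 462, nat_lit 420, nat_lit 210, nat_lit 168, nat_lit 126, nat_lit 252, nat_lit 210, nat_lit 168, nat_lit 294, nat_lit 252, nat_lit 336, nat_lit 294, nat_lit 420, nat_lit 210, nat_lit 252, nat_lit 462, nat_lit 420, nat_lit 210, nat_lit 168, nat_lit 126, nat_lit 84, nat_lit 42, nat_lit 84, nat_lit 126, nat_lit 168, nat_lit 210, nat_lit 420, nat_lit 462, nat_lit 252, nat_lit 210, nat_lit 420, nat_lit 294, nat_lit 336, nat_lit 252, nat_lit 294, nat_lit 168, nat_lit 210, nat_lit 252, nat_lit 126, nat_lit 168, nat_lit 210, nat_lit 420, nat_lit 462, nat_lit 294, nat_lit 210, nat_lit 252, nat_lit 126, nat_lit 168, nat_lit 210])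
(.leaf 159 81 [nat_lit 294, nat_lit 336, nat_lit 252, nat_lit 294, nat_lit 168, nat_lit 210, nat_lit 252, nat_lit 126, nat_lit 168, nat_lit 210, nat_lit 420, nat_lit 462, nat_lit 294, nat_lit 210, nat_lit 252, nat_lit 126, nat_lit 168, nat_lit 210, nat_lit 420, nat_lit 378, nat_lit 336, nat_lit 294, nat_lit 252, nat_lit 210, nat_lit 168, nat_lit 126, nat_lit 84, nat_lit 126, nat_lit 168, nat_lit 210, nat_lit 252, nat_lit 294, nat_lit 336, nat_lit 378, nat_lit 420, nat_lit 210, nat_lit 168, nat_lit 126, nat_lit 252, nat_lit 210, nat_lit 294, nat_lit 462, nat_lit 420, nat_lit 210, nat_lit 168, nat_lit 126, nat_lit 252, nat_lit 210, nat_lit 168, nat_lit 294, nat_lit 252, nat_lit 336, nat_lit 294, nat_lit 420, nat_lit 210, nat_lit 252, nat_lit 462, nat_lit 420, nat_lit 210, nat_lit 168, nat_lit 126, nat_lit 84, nat_lit 42, nat_lit 84, nat_lit 126, nat_lit 168, nat_lit 210, nat_lit 420, nat_lit 462, nat_lit 252, nat_lit 210, nat_lit 420, nat_lit 294, nat_lit 336,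 nat_lit 252, nat_lit 294, nat_lit 168, nat_lit 210, nat_lit 252, nat_lit 126, nat_lit 168, nat_lit 210, nat_lit 420, nat_lit 462, nat_lit 294, nat_lit 210, nat_lit 252, nat_lit 126, nat_lit 168, nat_lit 210, nat_lit 420, nat_lit 378, nat_lit 336, nat_lit 294, nat_lit 252, nat_lit 210, nat_lit 168, nat_lit 126, nat_lit 84, nat_lit 126, nat_lit 168, nat_lit 210, nat_lit 252, nat_lit 294, nat_lit 336, nat_lit 378, nat_lit 420, nat_lit 210, nat_lit 168, nat_lit 126, nat_lit 252, nat_lit 210, nat_lit 294, nat_lit 462, nat_lit 420, nat_lit 210, nat_lit 168, nat_lit 126, nat_lit 252, nat_lit 210, nat_lit 168, nat_lit 294, nat_lit 252, nat_lit 336, nat_lit 294, nat_lit 420, nat_lit 210, nat_lit 252, nat_lit 462, nat_lit 420, nat_lit 210, nat_lit 168, nat_lit 126, nat_lit 84, nat_lit 42, nat_lit 84, nat_lit 126, nat_lit 168, nat_lit 210, nat_lit 420, nat_lit 462, nat_lit 252, nat_lit 210])))))))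
(.leaf 0 0 []))))
noncomputable def wt11 : LT := (.node (nat_lit 6) (.node (nat_lit 1) (.node (nat_lit 0) (.leaf 45 3 [nat_lit 0, nat_lit 462, nat_lit 0])
(.leaf 65 3 [nat_lit 42, nat_lit 462, nat_lit 42]))
(.node (nat_lit 3) (.node (nat_lit 2) (.leaf 83 3 [nat_lit 84, nat_lit 462, nat_lit 84])
(.leaf 153 3 [nat_lit 378, nat_lit 462, nat_lit 378]))
(.node (nat_lit 4) (.leaf 149 3 [nat_lit 336, nat_lit 462, nat_lit 336])
(.node (nat_lit 5) (.leaf 155 5 [nat_lit 420, nat_lit 462, nat_lit 420, nat_lit 462, nat_lit 420])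
(.leaf 99 3 [nat_lit 126, nat_lit 462, nat_lit 126])))))
(.node (nat_lit 14) (.node (nat_lit 8) (.node (nat_lit 7) (.leaf 125 3 [nat_lit 210, nat_lit 462, nat_lit 210])
(.leaf 143 3 [nat_lit 294, nat_lit 462, nat_lit 294]))
(.node (nat_lit 9) (.leaf 113 3 [nat_lit 168, nat_lit 462, nat_lit 168])
(.node (nat_lit 10) (.leaf 135 3 [nat_lit 252, nat_lit 462, nat_lit 252])
(.node (nat_lit 11) (.leaf 159 138 [nat_lit 420, nat_lit 210, nat_lit 168, nat_lit 126, nat_lit 84, nat_lit 42, nat_lit 84, nat_lit 126, nat_lit 168, nat_lit 210, nat_lit 420, nat_lit 462, nat_lit 252, nat_lit 210, nat_lit 420, nat_lit 294, nat_lit 336, nat_lit 252, nat_lit 294, nat_lit 168, nat_lit 210, nat_lit 252, nat_lit 126, nat_lit 168, nat_lit 210, nat_lit 420, nat_lit 462, nat_lit 294, nat_lit 210, nat_lit 252, nat_lit 126, nat_lit 168, nat_lit 210, nat_lit 420, nat_lit 378, nat_lit 336, nat_lit 294, nat_lit 252, nat_lit 210, nat_lit 168, nat_lit 126, nat_lit 84, nat_lit 126, nat_lit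 168, nat_lit 210, nat_lit 252, nat_lit 294, nat_lit 336, nat_lit 378, nat_lit 420, nat_lit 210, nat_lit 168, nat_lit 126, nat_lit 252, nat_lit 210, nat_lit 294, nat_lit 462, nat_lit 420, nat_lit 210, nat_lit 168, nat_lit 126, nat_lit 252, nat_lit 210, nat_lit 168, nat_lit 294, nat_lit 252, nat_lit 336, nat_lit 294, nat_lit 420, nat_lit 210, nat_lit 252, nat_lit 462, nat_lit 420, nat_lit 210, nat_lit 168, nat_lit 126, nat_lit 84, nat_lit 42, nat_lit 84, nat_lit 126, nat_lit 168, nat_lit 210, nat_lit 420, nat_lit 462, nat_lit 252, nat_lit 210, nat_lit 420, nat_lit 294, nat_lit 336, nat_lit 252, nat_lit 294, nat_lit 168, nat_lit 210, nat_lit 252, nat_lit 126, nat_lit 168, nat_lit 210, nat_lit 420, nat_lit 462, nat_lit 294, nat_lit 210, nat_lit 252, nat_lit 126, nat_lit 168, nat_lit 210, nat_lit 420, nat_lit 378, nat_lit 336, nat_lit 294, nat_lit 252, nat_lit 210, nat_lit 168, nat_lit 126, nat_lit 84, nat_lit 126, nat_lit 168, nat_lit 210, nat_lit 252, nat_lit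 294, nat_lit 336, nat_lit 378, nat_lit 420, nat_lit 210, nat_lit 168, nat_lit 126, nat_lit 252, nat_lit 210, nat_lit 294, nat_lit 462, nat_lit 420, nat_lit 210, nat_lit 168, nat_lit 126, nat_lit 252, nat_lit 210, nat_lit 168, nat_lit 294, nat_lit 252, nat_lit 336, nat_lit 294, nat_lit 420, nat_lit 210, nat_lit 252])
(.node (nat_lit 12) (.leaf 159 123 [nat_lit 420, nat_lit 210, nat_lit 168, nat_lit 126, nat_lit 252, nat_lit 210, nat_lit 168, nat_lit 294, nat_lit 252, nat_lit 336, nat_lit 294, nat_lit 420, nat_lit 210, nat_lit 252, nat_lit 462, nat_lit 420, nat_lit 210, nat_lit 168, nat_lit 126, nat_lit 84, nat_lit 42, nat_lit 84, nat_lit 126, nat_lit 168, nat_lit 210, nat_lit 420, nat_lit 462, nat_lit 252, nat_lit 210, nat_lit 420, nat_lit 294, nat_lit 336, nat_lit 252, nat_lit 294, nat_lit 168, nat_lit 210, nat_lit 252, nat_lit 126, nat_lit 168, nat_lit 210, nat_lit 420, nat_lit 462, nat_lit 294, nat_lit 210, nat_lit 252, nat_lit 126, nat_lit 168, nat_lit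 210, nat_lit 420, nat_lit 378, nat_lit 336, nat_lit 294, nat_lit 252, nat_lit 210, nat_lit 168, nat_lit 126, nat_lit 84, nat_lit 126, nat_lit 168, nat_lit 210, nat_lit 252, nat_lit 294, nat_lit 336, nat_lit 378, nat_lit 420, nat_lit 210, nat_lit 168, nat_lit 126, nat_lit 252, nat_lit 210, nat_lit 294, nat_lit 462, nat_lit 420, nat_lit 210, nat_lit 168, nat_lit 126, nat_lit 252, nat_lit 210, nat_lit 168, nat_lit 294, nat_lit 252, nat_lit 336, nat_lit 294, nat_lit 420, nat_lit 210, nat_lit 252, nat_lit 462, nat_lit 420, nat_lit 210, nat_lit 168, nat_lit 126, nat_lit 84, nat_lit 42, nat_lit 84, nat_lit 126, nat_lit 168, nat_lit 210, nat_lit 420, nat_lit 462, nat_lit 252, nat_lit 210, nat_lit 420, nat_lit 294, nat_lit 336, nat_lit 252, nat_lit 294, nat_lit 168, nat_lit 210, nat_lit 252, nat_lit 126, nat_lit 168, nat_lit 210, nat_lit 420, nat_lit 462, nat_lit 294, nat_lit 210, nat_lit 252, nat_lit 126, nat_lit 168, nat_lit 210, nat_lit 420, nat_lit 378, nat_lit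 336, nat_lit 294, nat_lit 252, nat_lit 210, nat_lit 168, nat_lit 126, nat_lit 84, nat_lit 126, nat_lit 168, nat_lit 210, nat_lit 252, nat_lit 294, nat_lit 336, nat_lit 378, nat_lit 420, nat_lit 210, nat_lit 168, nat_lit 126, nat_lit 252, nat_lit 210, nat_lit 294])
(.node (nat_lit 13) (.leaf 159 93 [nat_lit 294, nat_lit 210, nat_lit 252, nat_lit 126, nat_lit 168, nat_lit 210, nat_lit 420, nat_lit 378, nat_lit 336, nat_lit 294, nat_lit 252, nat_lit 210, nat_lit 168, nat_lit 126, nat_lit 84, nat_lit 126, nat_lit 168, nat_lit 210, nat_lit 252, nat_lit 294, nat_lit 336, nat_lit 378, nat_lit 420, nat_lit 210, nat_lit 168, nat_lit 126, nat_lit 252, nat_lit 210, nat_lit 294, nat_lit 462, nat_lit 420, nat_lit 210, nat_lit 168, nat_lit 126, nat_lit 252, nat_lit 210, nat_lit 168, nat_lit 294, nat_lit 252, nat_lit 336, nat_lit 294, nat_lit 420, nat_lit 210, nat_lit 252, nat_lit 462, nat_lit 420, nat_lit 210, nat_lit 168, nat_lit 126, nat_lit 84, nat_lit 42, nat_lit 84,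 nat_lit 126, nat_lit 168, nat_lit 210, nat_lit 420, nat_lit 462, nat_lit 252, nat_lit 210, nat_lit 420, nat_lit 294, nat_lit 336, nat_lit 252, nat_lit 294, nat_lit 168, nat_lit 210, nat_lit 252, nat_lit 126, nat_lit 168, nat_lit 210, nat_lit 420, nat_lit 462, nat_lit 294, nat_lit 210, nat_lit 252, nat_lit 126, nat_lit 168, nat_lit 210, nat_lit 420, nat_lit 378, nat_lit 336, nat_lit 294, nat_lit 252, nat_lit 210, nat_lit 168, nat_lit 126, nat_lit 84, nat_lit 126, nat_lit 168, nat_lit 210, nat_lit 252, nat_lit 294, nat_lit 336, nat_lit 378, nat_lit 420, nat_lit 210, nat_lit 168, nat_lit 126, nat_lit 252, nat_lit 210, nat_lit 294, nat_lit 462, nat_lit 420, nat_lit 210, nat_lit 168, nat_lit 126, nat_lit 252, nat_lit 210, nat_lit 168, nat_lit 294, nat_lit 252, nat_lit 336, nat_lit 294, nat_lit 420, nat_lit 210, nat_lit 252, nat_lit 462, nat_lit 420, nat_lit 210, nat_lit 168, nat_lit 126, nat_lit 84, nat_lit 42, nat_lit 84, nat_lit 126, nat_lit 168, nat_lit 210,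 nat_lit 420, nat_lit 462, nat_lit 252, nat_lit 210, nat_lit 420, nat_lit 294, nat_lit 336, nat_lit 252, nat_lit 294, nat_lit 168, nat_lit 210, nat_lit 252, nat_lit 126, nat_lit 168, nat_lit 210, nat_lit 420])
(.leaf 159 78 [nat_lit 252, nat_lit 210, nat_lit 420, nat_lit 294, nat_lit 336, nat_lit 252, nat_lit 294, nat_lit 168, nat_lit 210, nat_lit 252, nat_lit 126, nat_lit 168, nat_lit 210, nat_lit 420, nat_lit 462, nat_lit 294, nat_lit 210, nat_lit 252, nat_lit 126, nat_lit 168, nat_lit 210, nat_lit 420, nat_lit 378, nat_lit 336, nat_lit 294, nat_lit 252, nat_lit 210, nat_lit 168, nat_lit 126, nat_lit 84, nat_lit 126, nat_lit 168, nat_lit 210, nat_lit 252, nat_lit 294, nat_lit 336, nat_lit 378, nat_lit 420, nat_lit 210, nat_lit 168, nat_lit 126, nat_lit 252, nat_lit 210, nat_lit 294, nat_lit 462, nat_lit 420, nat_lit 210, nat_lit 168, nat_lit 126, nat_lit 252, nat_lit 210, nat_lit 168, nat_lit 294, nat_lit 252, nat_lit 336, nat_lit 294, nat_lit 420, nat_lit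 210, nat_lit 252, nat_lit 462, nat_lit 420, nat_lit 210, nat_lit 168, nat_lit 126, nat_lit 84, nat_lit 42, nat_lit 84, nat_lit 126, nat_lit 168, nat_lit 210, nat_lit 420, nat_lit 462, nat_lit 252, nat_lit 210, nat_lit 420, nat_lit 294, nat_lit 336, nat_lit 252, nat_lit 294, nat_lit 168, nat_lit 210, nat_lit 252, nat_lit 126, nat_lit 168, nat_lit 210, nat_lit 420, nat_lit 462, nat_lit 294, nat_lit 210, nat_lit 252, nat_lit 126, nat_lit 168, nat_lit 210, nat_lit 420, nat_lit 378, nat_lit 336, nat_lit 294, nat_lit 252, nat_lit 210, nat_lit 168, nat_lit 126, nat_lit 84, nat_lit 126, nat_lit 168, nat_lit 210, nat_lit 252, nat_lit 294, nat_lit 336, nat_lit 378, nat_lit 420, nat_lit 210, nat_lit 168, nat_lit 126, nat_lit 252, nat_lit 210, nat_lit 294, nat_lit 462, nat_lit 420, nat_lit 210, nat_lit 168, nat_lit 126, nat_lit 252, nat_lit 210, nat_lit 168, nat_lit 294, nat_lit 252, nat_lit 336, nat_lit 294, nat_lit 420, nat_lit 210, nat_lit 252, nat_lit 462, nat_lit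 420, nat_lit 210, nat_lit 168, nat_lit 126, nat_lit 84, nat_lit 42, nat_lit 84, nat_lit 126, nat_lit 168, nat_lit 210, nat_lit 420])))))))
(.leaf 0 0 [])))
noncomputable def wt12 : LT := (.node (nat_lit 2) (.node (nat_lit 0) (.leaf 67 0 [nat_lit 126, nat_lit 84, nat_lit 126, nat_lit 84, nat_lit 126, nat_lit 84])
(.node (nat_lit 1) (.leaf 104 0 [nat_lit 168, nat_lit 294, nat_lit 168, nat_lit 294])
(.leaf 122 0 [nat_lit 210, nat_lit 420, nat_lit 210, nat_lit 420, nat_lit 210, nat_lit 420])))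
(.leaf 0 0 []))
noncomputable def sl : List (ℕ × ℕ × List ℕ × List ℕ) := [(0, nat_lit 0, [], []),
(2, nat_lit 84, [], []),
(4, nat_lit 126, [], []),
(6, nat_lit 168, [], []),
(8, nat_lit 210, [], []),
(10, nat_lit 252, [], []),
(12, nat_lit 294, [], []),
(14, nat_lit 336, [], []),
(16, nat_lit 378, [], []),
(18, nat_lit 420, [], []),
(20, nat_lit 462, [], [])]
/-- the inverse column -/
noncomputable def icol (x : ℕ) : ℕ := x
noncomputable def inv (x : ℕ) : ℕ := x
def cols : List ℕ := [nat_lit 504, nat_lit 0, nat_lit 42, nat_lit 84, nat_lit 126, nat_lit 168, nat_lit 210, nat_lit 252, nat_lit 294, nat_lit 336, nat_lit 378, nat_lit 420, nat_lit 462]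
noncomputable def cl : CL := (.cons (nat_lit 0) (nat_lit 0) (nat_lit 0) (nat_lit 0) wt0
(.cons (nat_lit 42) (nat_lit 42) (nat_lit 34) (nat_lit 4796) wt1
(.cons (nat_lit 84) (nat_lit 84) (nat_lit 68) (nat_lit 9592) wt2
(.cons (nat_lit 126) (nat_lit 126) (nat_lit 102) (nat_lit 14388) wt3
(.cons (nat_lit 168) (nat_lit 168) (nat_lit 136) (nat_lit 19184) wt4
(.cons (nat_lit 210) (nat_lit 210) (nat_lit 170) (nat_lit 23980) wt5
(.cons (nat_lit 252) (nat_lit 252) (nat_lit 204) (nat_lit 28776) wt6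
(.cons (nat_lit 294) (nat_lit 294) (nat_lit 238) (nat_lit 33572) wt7
(.cons (nat_lit 336) (nat_lit 336) (nat_lit 272) (nat_lit 38368) wt8
(.cons (nat_lit 378) (nat_lit 378) (nat_lit 306) (nat_lit 43164) wt9
(.cons (nat_lit 420) (nat_lit 420) (nat_lit 340) (nat_lit 47960) wt10
(.cons (nat_lit 462) (nat_lit 462) (nat_lit 374) (nat_lit 52756) wt11
.nil))))))))))))
def rels : List (List ℕ) := [[0, 0],
[1, 1],
[2, 2],
[3, 3],
[4, 4],
[5, 5],
[6, 6],
[7, 7],
[8, 8],
[9, 9],
[10, 10],
[11, 11],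
[0, 1, 0, 1, 0, 1],
[0, 2, 0, 2],
[0, 3, 0, 3],
[0, 4, 0, 4],
[0, 5, 0, 5],
[0, 6, 0, 6],
[0, 7, 0, 7],
[0, 8, 0, 8],
[0, 9, 0, 9],
[0, 10, 0, 10],
[0, 11, 0, 11],
[1, 2, 1, 2, 1, 2],
[1, 3, 1, 3],
[1, 4, 1, 4],
[1, 5, 1, 5],
[1, 6, 1, 6],
[1, 7, 1, 7],
[1, 8, 1, 8],
[1, 9, 1, 9],
[1, 10, 1, 10],
[1, 11, 1, 11],
[2, 3, 2, 3, 2, 3],
[2, 4, 2, 4],
[2, 5, 2, 5],
[2, 6, 2, 6],
[2, 7, 2, 7],
[2, 8, 2, 8],
[2, 9, 2, 9],
[2, 10, 2, 10],
[2, 11, 2, 11],
[3, 4, 3, 4, 3, 4],
[3, 5, 3, 5],
[3, 6, 3, 6],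
[3, 7, 3, 7],
[3, 8, 3, 8],
[3, 9, 3, 9],
[3, 10, 3, 10],
[3, 11, 3, 11],
[4, 5, 4, 5, 4, 5],
[4, 6, 4, 6],
[4, 7, 4, 7],
[4, 8, 4, 8],
[4, 9, 4, 9],
[4, 10, 4, 10],
[4, 11, 4, 11],
[5, 6, 5, 6, 5, 6],
[5, 7, 5, 7],
[5, 8, 5, 8],
[5, 9, 5, 9],
[5, 10, 5, 10, 5, 10],
[5, 11, 5, 11],
[6, 7, 6, 7, 6, 7],
[6, 8, 6, 8],
[6, 9, 6, 9],
[6, 10, 6, 10],
[6, 11, 6, 11],
[7, 8, 7, 8, 7, 8],
[7, 9, 7, 9],
[7, 10, 7, 10],
[7, 11, 7, 11],
[8, 9, 8, 9, 8, 9],
[8, 10, 8, 10],
[8, 11, 8, 11],
[9, 10, 9, 10],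
[9, 11, 9, 11],
[10, 11, 10, 11, 10, 11],
[0, 2, 3, 4, 5, 10, 6, 5, 4, 3, 2, 3, 4, 5, 6, 10, 5, 4, 3, 7, 6, 5, 10, 4, 5, 6, 3, 4, 5, 10, 7, 6, 5, 4, 3, 2, 3, 4, 5, 6, 7, 10, 5, 4, 3, 6, 5, 4, 10, 5, 6, 7, 4, 6, 10, 5, 10, 6, 5, 4, 5, 6, 10, 5],
[1, 2, 3, 4, 5, 10, 11, 6, 5, 10, 7, 8, 6, 7, 4, 5, 6, 3, 4, 5, 10, 11, 7, 5, 6, 3, 4, 5, 10, 9, 8, 7, 6, 5, 4, 3, 2, 3, 4, 5, 6, 7, 8, 9, 10, 5, 4, 3, 6, 5, 7, 11, 10, 5, 4, 3, 6, 5, 4, 7, 6, 8, 7, 10, 5, 6, 11, 10, 5, 4, 3, 2, 1, 2, 3, 4, 5, 10, 11, 6, 5, 10, 7, 8, 6, 7, 4, 5, 6, 3, 4, 5, 10, 11, 7, 5, 6, 3, 4, 5, 10, 9, 8, 7, 6, 5, 4, 3, 2, 3, 4, 5, 6, 7, 8, 9, 10, 5, 4, 3, 6, 5, 7, 11, 10, 5, 4, 3, 6, 5, 4, 7, 6, 8, 7, 10, 5, 6, 11, 10, 5, 4, 3, 2]]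
def subs : List (List ℕ) := [[0],
[2],
[3],
[4],
[5],
[6],
[7],
[8],
[9],
[10],
[11]]
noncomputable def chk : ℕ → Bool := rowChk row jrow fget sl cols (nat_lit 306936) (nat_lit 391744) (nat_lit 4398046511103) (nat_lit 524287) (nat_lit 4398046511104) (nat_lit 504) (nat_lit 546) (nat_lit 17179869183) (nat_lit 6) (nat_lit 63) (nat_lit 19) (nat_lit 524287) cl (nat_lit 408) wt12
end H18.Q24
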