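import Cfsg.Agent.Lib.CosetEnum.TC
import Cfsg.Agent.Lib.CosetEnum.Q24.Tab
set_option autoImplicit false
set_option maxRecDepth 100000
namespace H18.Q24
open H54 (Tr force band)
open H18.TC
theorem p12 : allB chk 13 98304 = true := by decide +kernel
theorem p13 : allB chk 13 106496 = true := by decide +kernel
theorem p14 : allB chk 13 114688 = true := by decide +kernel
theorem p15 : allB chk 13 122880 = true := by decide +kernel
theorem p16 : allB chk 13 131072 = true := by decide +kernel
theorem p17 : allB chk 13 139264 = true := by decide +kernel
end H18.Q24
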